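import Mathlib.GroupTheory.Sylow
import Mathlib.GroupTheory.Subgroup.Centralizer
import Mathlib.Algebra.Group.Subgroup.ZPowers.Basic

/-!
Coordinates for a group isomorphic to a Sylow 2-subgroup of the Mathieu group of degree 24 modulo its centre
(a semidirect product of an elementary abelian group of order 64 by a dihedral group of order 8), and the
control of fusion of subgroups normalised by the abelian subgroup of order 64.
-/

set_option autoImplicit false

namespace CfsgLib.M24Quot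

open Subgroup

/-- The action of the dihedral group on the 64 vectors, packed. -/
def actTab : List ℕ :=
  [39392078757191557952714343944915560488424390381760365930566598193007564623154681709773698286566728461254900444831808,
   18772176649520030751410216194944049884936419840185603898738295831666001616395838243851740983212963416763497576144960,
   18128114680162644109651576210881714611117724393560088971001796656061088540576305320980150558795494323814045078790208,
   37535647438669493267186969971899871527565960828694471386257622941743681839813967031977287066179959377778206386692160,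
   28779183288124736391295352028832202594176678525951836859742909829100168960714862526144787702533798060760559832805440,
   9371354613252457729721938073511306299059225553740269362451592711891137588188722829276015268284006957084477730861120,
   27528936644185010727652345050040581848820447518013018488285256421734111141418506654721777166805107741385473340747840,
   8121107969312732066078931095224902809738331561987678261863771692388399548324831100031024159208459100033417667424320]

/-- The action of an element of the dihedral group on a vector. -/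
def mAct (h v : ℕ) : ℕ := (actTab.getD h 0 >>> (6 * v)) % 64

/-- The multiplication of the dihedral group. -/
def hMul (h k : ℕ) : ℕ := (814829309102332492756460662055055520642301431945260353160 >>> (3 * (8 * h + k))) % 8

/-- The multiplication of the model. -/
def mMul (x y : ℕ) : ℕ := ((x % 64) ^^^ mAct (x / 64) (y % 64)) + 64 * hMul (x / 64) (y / 64)

theorem mAct_lt (h v : ℕ) : mAct h v < 64 := Nat.mod_lt _ (by norm_num)

theorem hMul_lt (h k : ℕ) : hMul h k < 8 := Nat.mod_lt _ (by norm_num)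

theorem mAct_zero_left : ∀ v < 64, mAct 0 v = v := by decide +kernel

theorem mAct_zero_right : ∀ h < 8, mAct h 0 = 0 := by decide +kernel

theorem mAct_xor : ∀ h < 8, ∀ v < 64, ∀ w < 64, mAct h (v ^^^ w) = mAct h v ^^^ mAct h w := by decide +kernel

theorem hMul_zero : ∀ h < 8, hMul 0 h = h ∧ hMul h 0 = h := by decide +kernel

theorem mMul_self_eq : ∀ n < 512, mMul n n = n → n = 0 := by decide +kernel

theorem xor_lt {a b : ℕ} (ha : a < 64) (hb : b < 64) : a ^^^ b < 64 := Nat.xor_lt_two_pow (n := 6) ha hb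

theorem mMul_lt (x y : ℕ) : mMul x y < 512 := by
  have h1 := xor_lt (Nat.mod_lt x (show 0 < 64 by norm_num)) (mAct_lt (x / 64) (y % 64))
  have h2 := hMul_lt (x / 64) (y / 64)
  unfold mMul
  omega

theorem mMul_mod (x y : ℕ) : mMul x y % 64 = (x % 64) ^^^ mAct (x / 64) (y % 64) := by
  have h1 := xor_lt (Nat.mod_lt x (show 0 < 64 by norm_num)) (mAct_lt (x / 64) (y % 64))
  unfold mMul
  omega

theorem mMul_div (x y : ℕ) : mMul x y / 64 = hMul (x / 64) (y / 64) := by
  have h1 := xor_lt (Nat.mod_lt x (show 0 < 64 by norm_num)) (mAct_lt (x / 64) (y % 64))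
  unfold mMul
  omega

/-- Coordinates on a group. -/
structure Coord (S : Type*) [Group S] where
  code : S → ℕ
  inj : Function.Injective code
  lt : ∀ s, code s < 512
  surj : ∀ n < 512, ∃ s, code s = n
  code_mul : ∀ x y, code (x * y) = mMul (code x) (code y)

/-- Transport of coordinates. -/
def Coord.comp {S T : Type*} [Group S] [Group T] (c : Coord T) (e : S ≃* T) : Coord S where
  code := c.code ∘ e
  inj := c.inj.comp e.injective
  lt s := c.lt (e s)
  surj n hn := by
    obtain ⟨t, ht⟩ := c.surj n hn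
    exact ⟨e.symm t, by simpa using ht⟩
  code_mul x y := by simp [c.code_mul]

namespace Coord

variable {S : Type*} [Group S] (c : Coord S)

/-- The part in the dihedral group. -/
def hd (s : S) : ℕ := c.code s / 64

theorem hd_lt (s : S) : c.hd s < 8 := by
  have := c.lt s
  unfold hd
  omega

theorem code_one : c.code 1 = 0 :=
  mMul_self_eq _ (c.lt 1) (by rw [← c.code_mul, one_mul])

theorem hd_mul (x y : S) : c.hd (x * y) = hMul (c.hd x) (c.hd y) := by
  simp only [hd, c.code_mul, mMul_div]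

theorem code_mul_of_hd_eq_zero {a : S} (ha : c.hd a = 0) (y : S) :
    c.code (a * y) = (c.code a ^^^ c.code y % 64) + 64 * c.hd y := by
  have h1 : c.code a < 64 := by
    have := c.lt a
    unfold hd at ha
    omega
  rw [c.code_mul, mMul, show c.code a / 64 = 0 from ha, Nat.mod_eq_of_lt h1,
    mAct_zero_left _ (Nat.mod_lt _ (by norm_num)),
    show c.code y / 64 = c.hd y from rfl, (hMul_zero _ (c.hd_lt y)).1]

theorem hd_conj {s a : S} (ha : c.hd a = 0) : c.hd (s * a * s⁻¹) = 0 := by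
  rw [c.hd_mul, c.hd_mul, ha, (hMul_zero _ (c.hd_lt s)).2, ← c.hd_mul, mul_inv_cancel, hd, c.code_one]

theorem code_conj {s a : S} (ha : c.hd a = 0) : c.code (s * a * s⁻¹) = mAct (c.hd s) (c.code a) := by
  have hw := c.hd_conj (s := s) ha
  have h := c.code_mul_of_hd_eq_zero hw s
  have ha' : c.code a < 64 := by
    have := c.lt a
    unfold hd at ha
    omega
  have hw' : c.code (s * a * s⁻¹) < 64 := by
    have := c.lt (s * a * s⁻¹)
    unfold hd at hw
    omega
  rw [inv_mul_cancel_right] at h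
  set w := c.code (s * a * s⁻¹) with hwdef
  clear_value w
  have h2 := congrArg (· % 64) h
  simp only [c.code_mul, mMul_mod, Nat.mod_eq_of_lt ha'] at h2
  rw [Nat.add_mul_mod_self_left, Nat.mod_eq_of_lt (xor_lt hw' (Nat.mod_lt _ (by norm_num))),
    Nat.xor_comm _ (c.code s % 64)] at h2
  have h3 := congrArg (c.code s % 64 ^^^ ·) h2
  simp only [← Nat.xor_assoc, Nat.xor_self, Nat.zero_xor] at h3
  exact h3.symm

end Coord

/-- The situation of the statements: a group with such a Sylow 2-subgroup, whose subgroup of order 64 is the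
only abelian one of its order. -/
structure Setting (G : Type*) [Group G] where
  S : Sylow 2 G
  c : Coord ↥(S : Subgroup G)
  A : Subgroup G
  le : A ≤ (S : Subgroup G)
  mem_iff : ∀ s : ↥(S : Subgroup G), (s : G) ∈ A ↔ c.code s < 64
  uniq : ∀ B : Subgroup G, B ≤ (S : Subgroup G) → IsMulCommutative ↥B → Nat.card ↥B = 64 → B = A

namespace Setting

variable {G : Type*} [Group G] (σ : Setting G)

theorem hd_zero_iff (s : ↥(σ.S : Subgroup G)) : σ.c.hd s = 0 ↔ (s : G) ∈ σ.A := by
  rw [σ.mem_iff, Coord.hd]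
  omega

/-- The coordinate of an element of the subgroup of order 64. -/
def vec (a : ↥σ.A) : ℕ := σ.c.code ⟨a, σ.le a.2⟩

theorem vec_lt (a : ↥σ.A) : σ.vec a < 64 := (σ.mem_iff _).1 a.2

theorem vec_inj : Function.Injective σ.vec := fun a b h => by
  have := congrArg Subtype.val (σ.c.inj h)
  exact Subtype.ext this

theorem vec_surj {n : ℕ} (hn : n < 64) : ∃ a : ↥σ.A, σ.vec a = n := by
  obtain ⟨s, hs⟩ := σ.c.surj n (by omega)
  exact ⟨⟨s, (σ.mem_iff s).2 (hs ▸ hn)⟩, hs⟩

theorem vec_one : σ.vec 1 = 0 := σ.c.code_one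

theorem vec_mul (a b : ↥σ.A) : σ.vec (a * b) = σ.vec a ^^^ σ.vec b := by
  have h := σ.c.code_mul_of_hd_eq_zero (a := ⟨a, σ.le a.2⟩) ((σ.hd_zero_iff _).2 a.2) ⟨b, σ.le b.2⟩
  rw [(σ.hd_zero_iff _).2 b.2, mul_zero, add_zero, Nat.mod_eq_of_lt ((σ.mem_iff _).1 b.2)] at h
  exact h

theorem conj_mem {s : G} (hs : s ∈ (σ.S : Subgroup G)) {a : G} (ha : a ∈ σ.A) : s * a * s⁻¹ ∈ σ.A :=
  (σ.hd_zero_iff (⟨s, hs⟩ * ⟨a, σ.le ha⟩ * ⟨s, hs⟩⁻¹)).1 (σ.c.hd_conj ((σ.hd_zero_iff _).2 ha))

theorem vec_conj (s : ↥(σ.S : Subgroup G)) (a : ↥σ.A) :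
    σ.vec ⟨s * a * (s : G)⁻¹, σ.conj_mem s.2 a.2⟩ = mAct (σ.c.hd s) (σ.vec a) :=
  σ.c.code_conj (s := s) (a := ⟨a, σ.le a.2⟩) ((σ.hd_zero_iff _).2 a.2)

theorem sylow_le_normalizer : (σ.S : Subgroup G) ≤ normalizer (σ.A : Set G) := fun s hs => by
  refine mem_normalizer_iff.2 fun a => ⟨fun ha => σ.conj_mem hs ha, fun ha => ?_⟩
  have := σ.conj_mem (inv_mem hs) ha
  simpa [mul_assoc] using this

theorem mul_comm_of_mem {a b : G} (ha : a ∈ σ.A) (hb : b ∈ σ.A) : a * b = b * a := by
  have h := σ.vec_inj (a₁ := ⟨a, ha⟩ * ⟨b, hb⟩) (a₂ := ⟨b, hb⟩ * ⟨a, ha⟩)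
    (by rw [σ.vec_mul, σ.vec_mul, Nat.xor_comm])
  exact congrArg Subtype.val h

theorem sq_of_mem {a : G} (ha : a ∈ σ.A) : a * a = 1 := by
  have h := σ.vec_inj (a₁ := ⟨a, ha⟩ * ⟨a, ha⟩) (a₂ := 1) (by rw [σ.vec_mul, Nat.xor_self, σ.vec_one])
  exact congrArg Subtype.val h

theorem isMulCommutative : IsMulCommutative ↥σ.A :=
  ⟨⟨fun a b => Subtype.ext (σ.mul_comm_of_mem a.2 b.2)⟩⟩

theorem card_A : Nat.card ↥σ.A = 64 := by
  have : Function.Bijective fun a : ↥σ.A => (⟨σ.vec a, σ.vec_lt a⟩ : Fin 64) :=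
    ⟨fun a b h => σ.vec_inj (congrArg Fin.val h), fun n => by
      obtain ⟨a, ha⟩ := σ.vec_surj n.2
      exact ⟨a, Fin.ext ha⟩⟩
  simpa using Nat.card_congr (Equiv.ofBijective _ this)

theorem isPGroup_A : IsPGroup 2 ↥σ.A := IsPGroup.of_card (n := 6) (by rw [σ.card_A]; rfl)

/-- A conjugate of `A` inside the Sylow subgroup is `A`. -/
theorem mem_normalizer_of_conj_le {g : G} (h : ∀ a ∈ σ.A, g * a * g⁻¹ ∈ (σ.S : Subgroup G)) :
    g ∈ normalizer (σ.A : Set G) := by
  set B := σ.A.map (MulAut.conj g).toMonoidHom with hB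
  have hle : B ≤ (σ.S : Subgroup G) := by rintro _ ⟨a, ha, rfl⟩; exact h a ha
  have hc : IsMulCommutative ↥B := ⟨⟨fun x y => by
    obtain ⟨a, ha, hx⟩ := x.2
    obtain ⟨b, hb, hy⟩ := y.2
    refine Subtype.ext ?_
    show (x : G) * y = y * x
    rw [← hx, ← hy, ← map_mul, ← map_mul, σ.mul_comm_of_mem ha hb]⟩⟩
  have hcard : Nat.card ↥B = 64 :=
    (card_map_of_injective (MulAut.conj g).injective).trans σ.card_A
  have e := σ.uniq B hle hc hcard
  refine mem_normalizer_iff.2 fun a => ⟨fun ha => e ▸ ⟨a, ha, rfl⟩, fun ha => ?_⟩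
  obtain ⟨b, hb, hab⟩ := (show g * a * g⁻¹ ∈ B from e ▸ ha)
  rw [(MulAut.conj g).injective hab] at hb
  exact hb

variable [Finite G]

/-- A 2-subgroup containing `A` can be moved into the Sylow subgroup by an element normalising `A`. -/
theorem exists_conj_le {Q : Subgroup G} (hQ : IsPGroup 2 ↥Q) (hA : σ.A ≤ Q) :
    ∃ n ∈ normalizer (σ.A : Set G), ∀ x ∈ Q, n * x * n⁻¹ ∈ (σ.S : Subgroup G) := by
  have : Fact (Nat.Prime 2) := ⟨Nat.prime_two⟩
  obtain ⟨R, hR⟩ := hQ.exists_le_sylow
  obtain ⟨n, hn⟩ := MulAction.exists_smul_eq G R σ.S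
  have hmem : ∀ x ∈ Q, n * x * n⁻¹ ∈ (σ.S : Subgroup G) := fun x hx => by
    rw [← hn, Sylow.coe_subgroup_smul]
    exact ⟨x, hR hx, rfl⟩
  exact ⟨n, σ.mem_normalizer_of_conj_le fun a ha => hmem a (hA ha), hmem⟩

/-- Subgroups normalised by `A` which are conjugate are conjugate in the normaliser of `A`. -/
theorem exists_normalizer_conj {U V : Subgroup G}
    (hU : σ.A ≤ normalizer (U : Set G)) (hV : σ.A ≤ normalizer (V : Set G))
    {g : G} (hg : ∀ x, x ∈ U ↔ g * x * g⁻¹ ∈ V) :
    ∃ n ∈ normalizer (σ.A : Set G), ∀ x, x ∈ U ↔ n * x * n⁻¹ ∈ V := by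
  have : Fact (Nat.Prime 2) := ⟨Nat.prime_two⟩
  set N : Subgroup G := normalizer (V : Set G) with hN
  set B := σ.A.map (MulAut.conj g).toMonoidHom with hB
  have hB2 : IsPGroup 2 ↥B := σ.isPGroup_A.map _
  have hBN : B ≤ N := by
    rintro _ ⟨a, ha, rfl⟩
    refine mem_normalizer_iff.2 fun y => ?_
    have h1 := mem_normalizer_iff.1 (hU ha) (g⁻¹ * y * g)
    rw [hg, hg] at h1
    simpa [MulAut.conj_apply, mul_assoc] using h1
  obtain ⟨R₁, h1⟩ := (hB2.comap_of_injective N.subtype N.subtype_injective).exists_le_sylow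
  obtain ⟨R₂, h2⟩ := (σ.isPGroup_A.comap_of_injective N.subtype N.subtype_injective).exists_le_sylow
  obtain ⟨m, hm⟩ := MulAction.exists_smul_eq ↥N R₁ R₂
  obtain ⟨y, hy, hyR⟩ := σ.exists_conj_le (Q := (R₂ : Subgroup ↥N).map N.subtype) (R₂.isPGroup'.map _)
    fun a ha => ⟨⟨a, hV ha⟩, h2 (show N.subtype ⟨a, hV ha⟩ ∈ σ.A from ha), rfl⟩
  have hk : y * ((m : G) * g) ∈ normalizer (σ.A : Set G) := by
    refine σ.mem_normalizer_of_conj_le fun a ha => ?_
    have hb : g * a * g⁻¹ ∈ B := ⟨a, ha, rfl⟩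
    have h3 : m * ⟨_, hBN hb⟩ * m⁻¹ ∈ (R₂ : Subgroup ↥N) := by
      rw [← hm, Sylow.coe_subgroup_smul]
      exact ⟨_, h1 (show N.subtype ⟨_, hBN hb⟩ ∈ B from hb), rfl⟩
    have h4 := hyR _ ⟨_, h3, rfl⟩
    simpa [mul_assoc] using h4
  refine ⟨(m : G) * g, ?_, fun x => ?_⟩
  · have := mul_mem (inv_mem hy) hk
    rwa [inv_mul_cancel_left] at this
  · rw [hg, mem_normalizer_iff.1 m.2 (g * x * g⁻¹)]
    simp [mul_assoc]

/-- Elements of `A` which are conjugate are conjugate in the normaliser of `A`. -/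
theorem exists_normalizer_conj_elem {a : G} (ha : a ∈ σ.A) {g : G} (hb : g * a * g⁻¹ ∈ σ.A) :
    ∃ n ∈ normalizer (σ.A : Set G), n * a * n⁻¹ = g * a * g⁻¹ := by
  have hn : ∀ {x : G}, x ∈ σ.A → σ.A ≤ normalizer ((zpowers x : Subgroup G) : Set G) := fun {x} hx b hb => by
    have hc : ∀ y ∈ zpowers x, b * y * b⁻¹ = y := fun y hy => by
      rw [σ.mul_comm_of_mem hb (zpowers_le.2 hx hy), mul_inv_cancel_right]
    refine mem_normalizer_iff.2 fun y => ⟨fun hy => by rwa [hc y hy], fun hy => ?_⟩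
    have h1 := hc _ hy
    rw [mul_left_inj, mul_right_inj] at h1
    rwa [h1] at hy
  obtain ⟨n, hnA, hn'⟩ := σ.exists_normalizer_conj (U := zpowers a) (V := zpowers (g * a * g⁻¹))
    (hn ha) (hn hb) (g := g) fun x => by
      constructor
      · rintro ⟨i, rfl⟩
        exact ⟨i, by simp [conj_zpow]⟩
      · rintro ⟨i, hi⟩
        refine ⟨i, ?_⟩
        simp only [conj_zpow] at hi
        simpa using hi
  refine ⟨n, hnA, ?_⟩
  obtain ⟨i, hi⟩ := (hn' a).1 (mem_zpowers a)
  have h2 : (g * a * g⁻¹) * (g * a * g⁻¹) = 1 := σ.sq_of_mem hb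
  simp only at hi
  rcases Int.even_or_odd i with ⟨k, rfl⟩ | ⟨k, rfl⟩
  · have h3 : (g * a * g⁻¹) ^ (k + k) = 1 := by rw [← two_mul, zpow_mul, zpow_two, h2, one_zpow]
    have ha1 : a = 1 := by
      have := hi.symm.trans h3
      rwa [← conj_eq_one_iff (a := n)]
    simp [ha1]
  · rw [zpow_add, zpow_mul, zpow_two, h2, one_zpow, one_mul, zpow_one] at hi
    exact hi.symm

end Setting

/-- The subgroup of the elements with trivial part in the dihedral group. -/
def Coord.base {S : Type*} [Group S] (c : Coord S) : Subgroup S where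
  carrier := {s | c.hd s = 0}
  one_mem' := by simp [Coord.hd, c.code_one]
  mul_mem' := fun {a b} ha hb => by
    simp only [Set.mem_setOf_eq] at ha hb ⊢
    rw [c.hd_mul, ha, hb]
    exact (hMul_zero 0 (by norm_num)).1
  inv_mem' := fun {a} ha => by
    simp only [Set.mem_setOf_eq] at ha ⊢
    have h := c.hd_mul a a⁻¹
    rw [mul_inv_cancel, ha, (hMul_zero _ (c.hd_lt a⁻¹)).1] at h
    rw [← h, Coord.hd, c.code_one]

theorem Coord.mem_base {S : Type*} [Group S] (c : Coord S) (s : S) : s ∈ c.base ↔ c.code s < 64 := by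
  show c.code s / 64 = 0 ↔ _
  omega

/-- The setting from coordinates and uniqueness. -/
theorem exists_setting {G : Type*} [Group G] (S : Sylow 2 G) (c : Coord ↥(S : Subgroup G)) (A : Subgroup G)
    (hA : A ≤ (S : Subgroup G))
    (huniq : ∀ B : Subgroup G, B ≤ (S : Subgroup G) → IsMulCommutative ↥B → Nat.card ↥B = 64 → B = A) :
    ∃ σ : Setting G, σ.S = S ∧ σ.A = A := by
  set A₀ : Subgroup G := c.base.map (S : Subgroup G).subtype with hA₀
  have hle : A₀ ≤ (S : Subgroup G) := Subgroup.map_subtype_le _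
  have hmem : ∀ s : ↥(S : Subgroup G), (s : G) ∈ A₀ ↔ c.code s < 64 := fun s => by
    rw [← c.mem_base]
    refine ⟨?_, fun h => ⟨s, h, rfl⟩⟩
    rintro ⟨t, ht, he⟩
    rwa [← Subtype.ext he]
  have hcard : Nat.card ↥A₀ = 64 := by
    rw [hA₀, card_map_of_injective (Subgroup.subtype_injective _)]
    have : Function.Bijective fun a : ↥c.base => (⟨c.code a, (c.mem_base _).1 a.2⟩ : Fin 64) :=
      ⟨fun a b h => Subtype.ext (c.inj (congrArg Fin.val h)), fun n => by
        obtain ⟨s, hs⟩ := c.surj n (by omega)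
        exact ⟨⟨s, (c.mem_base s).2 (hs ▸ n.2)⟩, Fin.ext hs⟩⟩
    simpa using Nat.card_congr (Equiv.ofBijective _ this)
  have hcomm : IsMulCommutative ↥A₀ := ⟨⟨fun a b => Subtype.ext (by
    obtain ⟨x, hx, hxa⟩ := a.2
    obtain ⟨y, hy, hyb⟩ := b.2
    show (a : G) * b = b * a
    rw [← hxa, ← hyb]
    exact congrArg Subtype.val (c.inj (a₁ := x * y) (a₂ := y * x) (by
      have hxy : c.code y < 64 := (c.mem_base y).1 hy
      have hxx : c.code x < 64 := (c.mem_base x).1 hx
      rw [c.code_mul_of_hd_eq_zero hx, c.code_mul_of_hd_eq_zero hy, show c.hd y = 0 from hy,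
        show c.hd x = 0 from hx, Nat.mod_eq_of_lt hxy, Nat.mod_eq_of_lt hxx, Nat.xor_comm])))⟩⟩
  have e : A₀ = A := huniq A₀ hle hcomm hcard
  exact ⟨⟨S, c, A, hA, fun s => e ▸ hmem s, huniq⟩, rfl, rfl⟩

end CfsgLib.M24Quot
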