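import Cfsg.Agent.Lib.InvolChar.M24SylowQuot
import Cfsg.Agent.Lib.M24Quot.Base
import Cfsg.Agent.Lib.M24Quot.IsoData

/-!
# Checks of the coordinates on a Sylow 2-subgroup of the Mathieu group of degree 24

Every element is a product along the series; a table gives the coordinates of these products and is checked to
respect multiplication by the generators.
-/

set_option autoImplicit false
set_option maxRecDepth 100000

namespace CfsgLib.M24Quot

open Cfsg CfsgLib.Golay CfsgLib.Fusion.PermCert
open CfsgLib.InvolChar.M24SylowQuot (gensA gensT zL one24 base_ok baseOk commute_lists mem_gensAT)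

/-- The generators along the series. -/
def serGens : List (List ℕ) := gensA ++ gensT

/-- A packed permutation. -/
def elPk (k : ℕ) : ℕ := ((IsoData.elTab.getD (k / 128) 0) >>> (120 * (k % 128))) % 2 ^ 120

/-- The element with a given index. -/
def elL (k : ℕ) : List ℕ := (List.range 24).map fun i => (elPk k >>> (5 * i)) % 32

/-- The coordinate of an index. -/
def cdI (k : ℕ) : ℕ := (IsoData.cdTab >>> (9 * k)) % 512

/-- The index of the product with a generator. -/
def nxI (j k : ℕ) : ℕ := ((IsoData.nxTab.getD j 0) >>> (10 * k)) % 1024

/-- The check of the elements. -/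
def listOk : Bool := decide (elems serGens = (List.range 1024).map elL)

/-- The check of the products with one generator. -/
def stepOk (j : ℕ) : Bool :=
  (List.range 1024).all fun k => decide (compL (elL k) (serGens.getD j []) = elL (nxI j k)) &&
    Nat.beq (cdI (nxI j k)) (mMul (cdI k) (IsoData.gCode.getD j 0))

theorem list_ok : listOk = true := by decide +kernel

theorem step_ok0 : stepOk 0 = true := by decide +kernel

theorem step_ok1 : stepOk 1 = true := by decide +kernel

theorem step_ok2 : stepOk 2 = true := by decide +kernel

theorem step_ok3 : stepOk 3 = true := by decide +kernel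

theorem step_ok4 : stepOk 4 = true := by decide +kernel

theorem step_ok5 : stepOk 5 = true := by decide +kernel

theorem step_ok6 : stepOk 6 = true := by decide +kernel

theorem step_ok7 : stepOk 7 = true := by decide +kernel

theorem step_ok8 : stepOk 8 = true := by decide +kernel

theorem step_ok9 : stepOk 9 = true := by decide +kernel

theorem code_checks : elL 0 = one24 ∧ elL 1 = zL ∧ cdI 0 = 0 ∧ cdI 1 = 0 ∧
    (List.range 1024).all (fun k => Nat.ble k 1 || !Nat.beq (cdI k) 0) = true ∧ serGens.length = 10 := by
  decide +kernel

end CfsgLib.M24Quot
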