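import Cfsg.Agent.Lib.InvolChar.M24SylowQuot
import Cfsg.Agent.Lib.M24Quot.Base
import Cfsg.Agent.Lib.M24Quot.IsoChecks

/-!
# Coordinates on a Sylow 2-subgroup of the Mathieu group of degree 24 modulo its centre

Every element is a product along the series; a table gives the coordinates of these products and is checked to
respect multiplication by the generators.
-/

set_option autoImplicit false
set_option maxRecDepth 100000

namespace CfsgLib.M24Quot

open Cfsg CfsgLib.Golay CfsgLib.Fusion.PermCert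
open CfsgLib.InvolChar.M24SylowQuot (gensA gensT zL one24 base_ok baseOk commute_lists mem_gensAT)

theorem step_ok {j : ℕ} (hj : j < 10) : stepOk j = true := by
  interval_cases j
  exacts [step_ok0, step_ok1, step_ok2, step_ok3, step_ok4, step_ok5, step_ok6, step_ok7, step_ok8, step_ok9]

theorem hMul_assoc : ∀ a < 8, ∀ b < 8, ∀ c < 8, hMul (hMul a b) c = hMul a (hMul b c) := by decide +kernel

theorem mAct_mul : ∀ a < 8, ∀ b < 8, ∀ v < 64, mAct a (mAct b v) = mAct (hMul a b) v := by decide +kernel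

theorem mMul_zero : ∀ n < 512, mMul n 0 = n ∧ mMul 0 n = n := by decide +kernel

theorem mMul_assoc {x y z : ℕ} (hx : x < 512) (hy : y < 512) (hz : z < 512) :
    mMul (mMul x y) z = mMul x (mMul y z) := by
  have hm : mMul (mMul x y) z % 64 = mMul x (mMul y z) % 64 := by
    have hd : y / 64 < 8 := by omega
    have hc : z % 64 < 64 := Nat.mod_lt _ (by norm_num)
    rw [mMul_mod, mMul_mod, mMul_div, mMul_mod x, mMul_mod y, ← mAct_mul _ (by omega) _ hd _ hc,
      mAct_xor _ (by omega) _ (Nat.mod_lt _ (by norm_num)) _ (mAct_lt _ _), Nat.xor_assoc]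
  have hd : mMul (mMul x y) z / 64 = mMul x (mMul y z) / 64 := by
    rw [mMul_div, mMul_div, mMul_div, mMul_div, hMul_assoc _ (by omega) _ (by omega) _ (by omega)]
  rw [← Nat.div_add_mod (mMul (mMul x y) z) 64, ← Nat.div_add_mod (mMul x (mMul y z)) 64, hm, hd]

theorem cdI_lt (k : ℕ) : cdI k < 512 := Nat.mod_lt _ (by norm_num)

/-- The facts on the series. -/
theorem series_facts : (Enum (elems serGens) (genBy serGens) ∧ (∀ a ∈ serGens, validL 24 a = true) ∧
    Nat.card (genBy serGens) = 1024) ∧ (∀ g ∈ serGens, compL g zL = compL zL g) ∧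
    ((elems serGens).filter fun a => serGens.all fun g => decide (compL a g = compL g a)) = [one24, zL] ∧
    zL ≠ one24 := by
  have h0 := base_ok
  simp only [baseOk, Bool.and_eq_true, List.all_eq_true, decide_eq_true_eq, Bool.or_eq_true] at h0
  obtain ⟨⟨⟨⟨⟨⟨⟨⟨-, hpE⟩, -⟩, -⟩, -⟩, hzg⟩, hcen⟩, -⟩, hz1⟩ := h0
  obtain ⟨hE, hgv, hcard⟩ := elems_spec hpE
  exact ⟨⟨hE, hgv, hcard.trans rfl⟩, hzg, hcen, hz1⟩

/-- Every element of the group has an index, and only one. -/
theorem index_facts : (∀ k < 1024, validL 24 (elL k) = true ∧ pOf (elL k) ∈ genBy serGens) ∧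
    (∀ g ∈ genBy serGens, ∃ k, k < 1024 ∧ pOf (elL k) = g) ∧
    ∀ k < 1024, ∀ l < 1024, pOf (elL k) = pOf (elL l) → k = l := by
  obtain ⟨⟨hE, -, hcard⟩, -⟩ := series_facts
  have hl := of_decide_eq_true list_ok
  have hmem : ∀ k < 1024, elL k ∈ elems serGens := fun k hk =>
    hl ▸ List.mem_map.2 ⟨k, List.mem_range.2 hk, rfl⟩
  have h1 : ∀ k < 1024, validL 24 (elL k) = true ∧ pOf (elL k) ∈ genBy serGens := fun k hk =>
    ⟨hE.1 _ (hmem k hk), (hE.2 _).2 ⟨_, hmem k hk, rfl⟩⟩
  have h2 : ∀ g ∈ genBy serGens, ∃ k, k < 1024 ∧ pOf (elL k) = g := fun g hg => by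
    obtain ⟨a, ha, rfl⟩ := (hE.2 _).1 hg
    rw [hl] at ha
    obtain ⟨k, hk, rfl⟩ := List.mem_map.1 ha
    exact ⟨k, List.mem_range.1 hk, rfl⟩
  let q : Fin 1024 → genBy serGens := fun k => ⟨pOf (elL k), (h1 k k.2).2⟩
  have qs : Function.Surjective q := by
    rintro ⟨g, hg⟩
    obtain ⟨k, hk, e⟩ := h2 g hg
    exact ⟨⟨k, hk⟩, Subtype.ext e⟩
  have qb := qs.bijective_of_nat_card_le (by rw [hcard, Nat.card_fin])
  exact ⟨h1, h2, fun k hk l hl' e => congrArg Fin.val (qb.1 (a₁ := ⟨k, hk⟩) (a₂ := ⟨l, hl'⟩) (Subtype.ext e))⟩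

open Classical in
/-- The coordinate of a permutation of the group. -/
noncomputable def pCode (g : Equiv.Perm GolayPt) : ℕ :=
  if h : ∃ k, k < 1024 ∧ pOf (elL k) = g then cdI h.choose else 0

theorem pCode_lt (g : Equiv.Perm GolayPt) : pCode g < 512 := by
  unfold pCode
  split
  · exact cdI_lt _
  · norm_num

theorem pCode_elL {k : ℕ} (hk : k < 1024) : pCode (pOf (elL k)) = cdI k := by
  have h : ∃ l, l < 1024 ∧ pOf (elL l) = pOf (elL k) := ⟨k, hk, rfl⟩
  rw [pCode, dif_pos h, index_facts.2.2 _ h.choose_spec.1 _ hk h.choose_spec.2]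

theorem pCode_one : pCode 1 = 0 := by
  have h := pCode_elL (k := 0) (by norm_num)
  rw [code_checks.1, show pOf one24 = 1 from pOf_range] at h
  rw [h, code_checks.2.2.1]

theorem pCode_z : pCode (pOf zL) = 0 := by
  have h := pCode_elL (k := 1) (by norm_num)
  rw [code_checks.2.1] at h
  rw [h, code_checks.2.2.2.1]

theorem pCode_gen {x : Equiv.Perm GolayPt} (hx : x ∈ genBy serGens) {g : List ℕ} (hg : g ∈ serGens) :
    pCode (x * pOf g) = mMul (pCode x) (pCode (pOf g)) := by
  obtain ⟨j, hj, rfl⟩ := List.getElem_of_mem hg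
  have hgv := series_facts.1.2.1 _ (List.getElem_mem hj)
  have hj' : j < 10 := code_checks.2.2.2.2.2 ▸ hj
  have hs := step_ok hj'
  simp only [stepOk, List.all_eq_true, List.mem_range, Bool.and_eq_true, decide_eq_true_eq, Nat.beq_eq] at hs
  rw [List.getD_eq_getElem _ _ hj] at hs
  have key : ∀ k < 1024, pCode (pOf (elL k) * pOf (serGens[j]'hj)) = mMul (cdI k) (IsoData.gCode.getD j 0) := by
    intro k hk
    rw [← pOf_compL (index_facts.1 k hk).1 hgv, (hs k hk).1, pCode_elL (k := nxI j k) (Nat.mod_lt _ (by norm_num)), (hs k hk).2]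
  obtain ⟨k, hk, rfl⟩ := index_facts.2.1 x hx
  have h0 := key 0 (by norm_num)
  rw [code_checks.1, show pOf one24 = 1 from pOf_range, one_mul, code_checks.2.2.1] at h0
  rw [key k hk, pCode_elL hk, h0]
  congr 1
  refine ((mMul_zero _ ?_).2).symm
  have : ∀ i < 10, IsoData.gCode.getD i 0 < 512 := by decide +kernel
  exact this j hj'

theorem pCode_mul {x y : Equiv.Perm GolayPt} (hx : x ∈ genBy serGens) (hy : y ∈ genBy serGens) :
    pCode (x * y) = mMul (pCode x) (pCode y) := by
  have hy' : y ∈ Submonoid.closure {g | ∃ a ∈ serGens, pOf a = g} := by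
    rwa [← Subgroup.closure_toSubmonoid_of_finite] at *
  clear hy
  suffices h : y ∈ genBy serGens ∧ ∀ x ∈ genBy serGens, pCode (x * y) = mMul (pCode x) (pCode y) from h.2 x hx
  induction hy' using Submonoid.closure_induction with
  | mem g hg =>
    obtain ⟨a, ha, rfl⟩ := hg
    exact ⟨mem_genBy ha, fun x hx => pCode_gen hx ha⟩
  | one => exact ⟨one_mem _, fun x _ => by rw [mul_one, pCode_one, (mMul_zero _ (pCode_lt x)).1]⟩
  | mul u v _ _ hu hv =>
    refine ⟨mul_mem hu.1 hv.1, fun x hx => ?_⟩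
    rw [← mul_assoc, hv.2 _ (mul_mem hx hu.1), hu.2 x hx, hv.2 u hu.1,
      mMul_assoc (pCode_lt x) (pCode_lt u) (pCode_lt v)]

theorem pCode_zero {x : Equiv.Perm GolayPt} (hx : x ∈ genBy serGens) (h : pCode x = 0) :
    x = 1 ∨ x = pOf zL := by
  obtain ⟨k, hk, rfl⟩ := index_facts.2.1 x hx
  rw [pCode_elL hk] at h
  have h1 := List.all_eq_true.1 code_checks.2.2.2.2.1 k (List.mem_range.2 hk)
  simp only [h, Bool.or_eq_true, Nat.ble_eq, Bool.not_eq_true'] at h1
  rcases h1 with h1 | h1
  · interval_cases k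
    · exact Or.inl (by rw [code_checks.1]; exact pOf_range)
    · exact Or.inr (by rw [code_checks.2.1])
  · exact absurd h1 (by decide)

/-- Coordinates on a group with these generators modulo its centre. -/
theorem exists_coord_of_range {P : Type*} [Group P] [Finite P] (f : P →* Equiv.Perm GolayPt)
    (hf : Function.Injective f) (hr : f.range = genBy serGens) : Nonempty (Coord (P ⧸ Subgroup.center P)) := by
  obtain ⟨⟨hE, hgv, hcardE⟩, hzg, hcen, hz1⟩ := series_facts
  have hzv : validL 24 zL = true := hgv zL List.mem_cons_self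
  have hone : validL 24 one24 = true := by decide
  have hin : ∀ p : P, f p ∈ genBy serGens := fun p => hr ▸ ⟨p, rfl⟩
  obtain ⟨z, hz⟩ : pOf zL ∈ f.range := hr ▸ mem_genBy List.mem_cons_self
  have hcenter : ∀ p : P, p ∈ Subgroup.center P ↔ p = 1 ∨ p = z := by
    intro p
    constructor
    · intro hp
      obtain ⟨a, ha, hap⟩ := (hE.2 _).1 (hin p)
      have hmem : a ∈ [one24, zL] := by
        rw [← hcen, List.mem_filter, List.all_eq_true]
        refine ⟨ha, fun g hg => decide_eq_true ((commute_lists (hE.1 a ha) (hgv g hg)).2 ?_)⟩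
        obtain ⟨q, hq⟩ : pOf g ∈ f.range := hr ▸ mem_genBy hg
        rw [hap, ← hq, ← map_mul, ← map_mul, (Subgroup.mem_center_iff.1 hp q)]
      rcases List.mem_cons.1 hmem with rfl | hmem
      · exact Or.inl (hf (by rw [← hap, map_one]; exact pOf_range))
      · rw [List.mem_singleton] at hmem
        exact Or.inr (hf (by rw [← hap, hmem, hz]))
    · rintro (rfl | rfl)
      · exact one_mem _
      · refine Subgroup.mem_center_iff.2 fun q => hf ?_
        rw [map_mul, map_mul, hz]
        have hle : genBy serGens ≤ Subgroup.centralizer ({pOf zL} : Set (Equiv.Perm GolayPt)) :=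
          genBy_le fun g hg => Subgroup.mem_centralizer_singleton_iff.2
            ((commute_lists (hgv g hg) hzv).1 (hzg g hg))
        exact Subgroup.mem_centralizer_singleton_iff.1 (hle (hin q))
  have hzne : z ≠ 1 := fun h => hz1 (eq_of_pOf_eq hzv hone (by rw [← hz, h, map_one]; exact pOf_range.symm))
  have hcZ : Nat.card ↥(Subgroup.center P) = 2 := by
    have : ((Subgroup.center P : Subgroup P) : Set P) = {1, z} := by
      ext p; simpa using hcenter p
    rw [← SetLike.coe_sort_coe, Nat.card_coe_set_eq, this, Set.ncard_pair (Ne.symm hzne)]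
  have hcard : Nat.card (P ⧸ Subgroup.center P) = 512 := by
    have h1 := Subgroup.card_eq_card_quotient_mul_card_subgroup (Subgroup.center P)
    rw [hcZ, Nat.card_congr (MonoidHom.ofInjective hf).toEquiv, hr, hcardE] at h1
    omega
  have hmul : ∀ p q : P, pCode (f (p * q)) = mMul (pCode (f p)) (pCode (f q)) := fun p q => by
    rw [map_mul, pCode_mul (hin p) (hin q)]
  have hcz : ∀ c ∈ Subgroup.center P, pCode (f c) = 0 := fun c hc => by
    rcases (hcenter c).1 hc with rfl | rfl
    · rw [map_one, pCode_one]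
    · rw [hz, pCode_z]
  let code : P ⧸ Subgroup.center P → ℕ := fun x => Quotient.liftOn' x (fun p => pCode (f p)) fun p q h => by
    rw [QuotientGroup.leftRel_apply] at h
    show pCode (f p) = pCode (f q)
    rw [show q = p * (p⁻¹ * q) by group, hmul, hcz _ h, (mMul_zero _ (pCode_lt _)).1]
  have hlt : ∀ x, code x < 512 := by rintro ⟨p⟩; exact pCode_lt _
  have hinj : Function.Injective code := by
    rintro ⟨p⟩ ⟨q⟩ h
    change pCode (f p) = pCode (f q) at h
    refine Quotient.sound' ?_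
    rw [QuotientGroup.leftRel_apply]
    have h0 : pCode (f (p⁻¹ * q)) = 0 := by
      rw [hmul, ← h, ← hmul, inv_mul_cancel, map_one, pCode_one]
    rcases pCode_zero (hin _) h0 with e | e
    · exact (hcenter _).2 (Or.inl (hf (e.trans (map_one f).symm)))
    · exact (hcenter _).2 (Or.inr (hf (e.trans hz.symm)))
  have hbij : Function.Bijective fun x => (⟨code x, hlt x⟩ : Fin 512) :=
    Function.Injective.bijective_of_nat_card_le (fun x y h => hinj (congrArg Fin.val h)) (by rw [hcard, Nat.card_fin])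
  refine ⟨⟨code, hinj, hlt, fun n hn => ?_, ?_⟩⟩
  · obtain ⟨x, hx⟩ := hbij.2 ⟨n, hn⟩
    exact ⟨x, congrArg Fin.val hx⟩
  · rintro ⟨p⟩ ⟨q⟩
    exact hmul p q

/-- Coordinates on a Sylow 2-subgroup of the Mathieu group of degree 24 modulo its centre. -/
theorem exists_coord (P : Sylow 2 ↥Cfsg.M24) :
    Nonempty (Coord (↥(P : Subgroup ↥Cfsg.M24) ⧸ Subgroup.center ↥(P : Subgroup ↥Cfsg.M24))) := by
  classical
  have : Fact (Nat.Prime 2) := ⟨Nat.prime_two⟩
  obtain ⟨-, hgv, hcard⟩ := series_facts.1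
  have hle : genBy serGens ≤ Cfsg.M24 := genBy_le fun a ha => mem_M24_of_test (mem_gensAT ha)
  set T : Subgroup ↥Cfsg.M24 := (genBy serGens).subgroupOf Cfsg.M24 with hT
  have hTcard : Nat.card T = 1024 := (Nat.card_congr (Subgroup.subgroupOfEquivOfLe hle).toEquiv).trans hcard
  have hTp : IsPGroup 2 T := IsPGroup.of_card (n := 10) (by rw [hTcard]; norm_num)
  have hTi : ¬ 2 ∣ T.index := by
    have h1 := T.card_mul_index
    rw [hTcard, CfsgLib.Golay.card_M24] at h1
    omega
  obtain ⟨k, hk⟩ := MulAction.exists_smul_eq ↥Cfsg.M24 P (hTp.toSylow hTi)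
  have hmap : (P : Subgroup ↥Cfsg.M24).map (MulAut.conj k).toMonoidHom = T :=
    congrArg (fun Q : Sylow 2 ↥Cfsg.M24 => (Q : Subgroup ↥Cfsg.M24)) hk
  refine exists_coord_of_range
    ((Cfsg.M24.subtype.comp (MulAut.conj k).toMonoidHom).comp (P : Subgroup ↥Cfsg.M24).subtype) ?_ ?_
  · exact (Subtype.val_injective.comp (MulAut.conj k).injective).comp Subtype.val_injective
  · rw [MonoidHom.range_comp, Subgroup.range_subtype, ← Subgroup.map_map, hmap, hT,
      Subgroup.map_subgroupOf_eq_of_le hle]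

end CfsgLib.M24Quot
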