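import Cfsg.Prelude.Def_Transfer
import Cfsg.Agent.Lib.Invol.ZStarBasic
import Cfsg.Agent.Lib.PGroup.Basic
import Cfsg.Agent.Lib.M24Quot.Iso
import Cfsg.Agent.S3171

/-!
# From the quotient by the centre to the group with a Sylow 2-subgroup of type M24

The extraspecial subgroup contains the centre of the Sylow subgroup, which is central, and its image is the only
abelian subgroup of order 64 of the image of the Sylow subgroup.
-/

set_option autoImplicit false

universe u

namespace CfsgLib.M24Quot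

open Subgroup Cfsg
open scoped commutatorElement

/-- Uniqueness of the abelian subgroup of order 64 passes along isomorphisms. -/
theorem unique_of_equiv {S R : Type*} [Group S] [Group R] (e : S ≃* R)
    (h : ∀ A B : Subgroup R, IsMulCommutative ↥A → Nat.card ↥A = 64 → IsMulCommutative ↥B → Nat.card ↥B = 64 → A = B)
    (A B : Subgroup S) (hA : IsMulCommutative ↥A) (hA' : Nat.card ↥A = 64) (hB : IsMulCommutative ↥B)
    (hB' : Nat.card ↥B = 64) : A = B := by
  have hc : ∀ U : Subgroup S, IsMulCommutative ↥U → IsMulCommutative ↥(U.map e.toMonoidHom) := fun U hU =>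
    ⟨⟨fun x y => by
      obtain ⟨a, ha, hx⟩ := x.2
      obtain ⟨b, hb, hy⟩ := y.2
      refine Subtype.ext ?_
      show (x : R) * y = y * x
      rw [← hx, ← hy, ← map_mul, ← map_mul]
      exact congrArg e.toMonoidHom (congrArg Subtype.val (hU.is_comm.comm ⟨a, ha⟩ ⟨b, hb⟩))⟩⟩
  have hn : ∀ U : Subgroup S, Nat.card ↥(U.map e.toMonoidHom) = Nat.card ↥U := fun U =>
    card_map_of_injective e.injective
  exact map_injective (f := e.toMonoidHom) e.injective
    (h _ _ (hc A hA) ((hn A).trans hA') (hc B hB) ((hn B).trans hB'))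

/-- The extraspecial subgroup is normal, given the result on the quotient by the centre. -/
theorem extraspecial_normal {H : Type u} [Group H] [Finite H]
    (hmain : ∀ (G : Type u) [Group G] [Finite G], oddCore G = ⊥ → ∀ (S : Sylow 2 G), Coord ↥(S : Subgroup G) →
      ∀ A : Subgroup G, A ≤ (S : Subgroup G) →
        (∀ B : Subgroup G, B ≤ (S : Subgroup G) → IsMulCommutative ↥B → Nat.card ↥B = 64 → B = A) → A.Normal)
    (hO : oddCore H = ⊥) (T : Sylow 2 H) (P : Sylow 2 ↥Cfsg.M24)
    (hT : Nonempty (↥(T : Subgroup H) ≃* ↥(P : Subgroup ↥Cfsg.M24)))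
    (hZ : ∀ z ∈ (T : Subgroup H), (∀ t ∈ (T : Subgroup H), z * t = t * z) → z ∈ Subgroup.center H)
    (E : Subgroup H) (hE : E ≤ (T : Subgroup H)) (hEn : (E.subgroupOf (T : Subgroup H)).Normal)
    (hEx : Cfsg.IsExtraspecial 2 ↥E) (hE7 : Nat.card ↥E = 2 ^ 7) : E.Normal := by
  have : Fact (Nat.Prime 2) := ⟨Nat.prime_two⟩
  obtain ⟨e⟩ := hT
  obtain ⟨c⟩ := exists_coord P
  set Z : Subgroup ↥(T : Subgroup H) := center ↥(T : Subgroup H)
  set N : Subgroup H := Z.map (T : Subgroup H).subtype with hN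
  -- the centre has order two
  have hcomap : Z.map e.toMonoidHom = center ↥(P : Subgroup ↥Cfsg.M24) := by
    ext y
    simp only [mem_map_equiv, Z, mem_center_iff]
    refine ⟨fun h g => ?_, fun h g => ?_⟩
    · have := h (e.symm g)
      rw [← map_mul, ← map_mul] at this
      exact e.symm.injective this
    · apply e.injective
      rw [map_mul, map_mul, e.apply_symm_apply]
      exact h (e g)
  have hPcard : Nat.card (↥(P : Subgroup ↥Cfsg.M24) ⧸ center ↥(P : Subgroup ↥Cfsg.M24)) = 512 := by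
    have hb : Function.Bijective fun x => (⟨c.code x, c.lt x⟩ : Fin 512) :=
      ⟨fun x y h => c.inj (congrArg Fin.val h), fun n => by
        obtain ⟨s, hs⟩ := c.surj n n.2
        exact ⟨s, Fin.ext hs⟩⟩
    simpa using Nat.card_congr (Equiv.ofBijective _ hb)
  have hP10 : Nat.card ↥(P : Subgroup ↥Cfsg.M24) = 1024 := by
    rw [Sylow.card_eq_multiplicity, CfsgLib.Golay.card_M24,
      show (244823040 : ℕ) = 2 ^ 10 * 239085 by norm_num, Nat.factorization_mul (by norm_num) (by norm_num),
      Finsupp.add_apply, Nat.prime_two.factorization_pow, Finsupp.single_eq_same,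
      Nat.factorization_eq_zero_of_not_dvd (show ¬ 2 ∣ 239085 by norm_num)]
    norm_num
  have hZ2 : Nat.card ↥Z = 2 := by
    have h1 := Subgroup.card_eq_card_quotient_mul_card_subgroup (center ↥(P : Subgroup ↥Cfsg.M24))
    rw [hPcard, hP10] at h1
    rw [← card_map_of_injective (f := e.toMonoidHom) e.injective, hcomap]
    omega
  have hN2 : Nat.card ↥N = 2 := (card_map_of_injective (Subgroup.subtype_injective _)).trans hZ2
  have hNc : N ≤ center H := by
    rintro _ ⟨t, ht, rfl⟩
    exact hZ t t.2 fun s hs => (congrArg Subtype.val (mem_center_iff.1 ht ⟨s, hs⟩)).symm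
  have hNn : N.Normal := ⟨fun n hn g => by
    rwa [mem_center_iff.1 (hNc hn) g, mul_inv_cancel_right]⟩
  have hNE : N ≤ E := by
    have hTp : IsPGroup 2 ↥(T : Subgroup H) := T.isPGroup'
    have hne : E.subgroupOf (T : Subgroup H) ≠ ⊥ := by
      intro h
      have h1 := Nat.card_congr (subgroupOfEquivOfLe hE).toEquiv
      rw [h, hE7, Subgroup.card_bot] at h1
      norm_num at h1
    have hmeet : E.subgroupOf (T : Subgroup H) ⊓ Z ≠ ⊥ :=
      CfsgLib.PGroup.inf_center_ne_bot (p := 2) hTp _ hne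
    have hZle : Z ≤ E.subgroupOf (T : Subgroup H) := by
      have hle : E.subgroupOf (T : Subgroup H) ⊓ Z ≤ Z := inf_le_right
      have h2 := (Nat.dvd_prime Nat.prime_two).1 (hZ2 ▸ card_dvd_of_le hle)
      rcases h2 with h2 | h2
      · exact absurd (Subgroup.card_eq_one.1 h2) hmeet
      · exact (eq_of_le_of_card_ge hle (by rw [hZ2, h2])).ge.trans inf_le_left
    rintro _ ⟨t, ht, rfl⟩
    exact hZle ht
  set π := QuotientGroup.mk' N with hπ
  set S : Sylow 2 (H ⧸ N) := T.mapSurjective (f := π) (QuotientGroup.mk'_surjective N) with hS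
  have hScoe : (S : Subgroup (H ⧸ N)) = (T : Subgroup H).map π := Sylow.coe_mapSurjective _ _
  -- the image of the Sylow subgroup is the quotient by the centre
  let q : ↥(T : Subgroup H) →* H ⧸ N := π.comp (T : Subgroup H).subtype
  have hker : q.ker = Z := by
    ext t
    rw [MonoidHom.mem_ker]
    show π t = 1 ↔ _
    rw [hπ, QuotientGroup.mk'_apply, QuotientGroup.eq_one_iff]
    exact ⟨fun ⟨s, hs, he⟩ => Subtype.ext he ▸ hs, fun h => ⟨t, h, rfl⟩⟩
  have hrange : q.range = (S : Subgroup (H ⧸ N)) := by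
    rw [hScoe, MonoidHom.range_comp, Subgroup.range_subtype]
  let eS : ↥(S : Subgroup (H ⧸ N)) ≃* (↥(P : Subgroup ↥Cfsg.M24) ⧸ center ↥(P : Subgroup ↥Cfsg.M24)) :=
    (MulEquiv.subgroupCongr hrange.symm).trans ((QuotientGroup.quotientKerEquivRange q).symm.trans
      ((QuotientGroup.quotientMulEquivOfEq hker).trans (QuotientGroup.congr Z _ e hcomap)))
  have huS := unique_of_equiv eS (Cfsg.Agent.S3171.result P).2.2
  -- the image of the extraspecial subgroup
  set A : Subgroup (H ⧸ N) := E.map π with hA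
  have hAle : A ≤ (S : Subgroup (H ⧸ N)) := hScoe ▸ map_mono hE
  have hAcard : Nat.card ↥A = 64 := by
    have h1 := Subgroup.card_mul_index (N.subgroupOf E)
    rw [Nat.card_congr (subgroupOfEquivOfLe hNE).toEquiv, hN2, hE7] at h1
    have h2 : N.subgroupOf E = (π.comp E.subtype).ker := by
      rw [← MonoidHom.comap_ker, hπ, QuotientGroup.ker_mk']; rfl
    rw [h2, Subgroup.index_ker, MonoidHom.range_comp, Subgroup.range_subtype] at h1
    rw [hA]; omega
  have hNZE : N.subgroupOf E = center ↥E := by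
    refine eq_of_le_of_card_ge (fun x hx => mem_center_iff.2 fun y => Subtype.ext ?_) ?_
    · exact mem_center_iff.1 (hNc hx) y
    · rw [hEx.2, Nat.card_congr (subgroupOfEquivOfLe hNE).toEquiv, hN2]
  have hAc : IsMulCommutative ↥A := ⟨⟨fun x y => by
    obtain ⟨a, ha, hx⟩ := x.2
    obtain ⟨b, hb, hy⟩ := y.2
    refine Subtype.ext ?_
    show (x : H ⧸ N) * y = y * x
    rw [← hx, ← hy, ← map_mul, ← map_mul, hπ, QuotientGroup.mk'_eq_mk']
    have hcm : ⁅(⟨b, hb⟩ : E)⁻¹, (⟨a, ha⟩ : E)⁻¹⁆ ∈ N.subgroupOf E := by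
      rw [hNZE, ← hEx.1.2.2]
      exact commutator_mem_commutator (mem_top _) (mem_top _)
    refine ⟨_, mem_subgroupOf.1 hcm, ?_⟩
    simp only [commutatorElement_def, inv_inv, Subgroup.coe_mul, InvMemClass.coe_inv]
    group⟩⟩
  have hu : ∀ B : Subgroup (H ⧸ N), B ≤ (S : Subgroup (H ⧸ N)) → IsMulCommutative ↥B → Nat.card ↥B = 64 → B = A := by
    intro B hB hBc hB64
    have hsub : ∀ U : Subgroup (H ⧸ N), U ≤ (S : Subgroup (H ⧸ N)) → IsMulCommutative ↥U →
        IsMulCommutative ↥(U.subgroupOf (S : Subgroup (H ⧸ N))) := fun U _ hU =>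
      ⟨⟨fun x y => by
        apply Subtype.ext
        apply Subtype.ext
        exact congrArg (fun w : ↥U => (w : H ⧸ N)) (hU.is_comm.comm ⟨x.1.1, x.2⟩ ⟨y.1.1, y.2⟩)⟩⟩
    have h1 := huS _ _ (hsub B hB hBc) ((Nat.card_congr (subgroupOfEquivOfLe hB).toEquiv).trans hB64)
      (hsub A hAle hAc) ((Nat.card_congr (subgroupOfEquivOfLe hAle).toEquiv).trans hAcard)
    rw [← inf_eq_left.2 hB, ← inf_eq_left.2 hAle, subgroupOf_inj.1 h1]
  have hn := hmain (H ⧸ N) (CfsgLib.Invol.oddCore_quotient_two hO N hN2 hNc) S (c.comp eS) A hAle hu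
  have hEeq : A.comap π = E := by
    rw [hA, comap_map_eq, hπ, QuotientGroup.ker_mk', sup_eq_left.2 hNE]
  exact hEeq ▸ hn.comap π

end CfsgLib.M24Quot
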