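import Cfsg.Agent.Lib.M24Quot.Elem
import Cfsg.Prelude.Def_TwoFusion

/-!
The abelian subgroup of order 64 is strongly closed in the Sylow subgroup.
-/

set_option autoImplicit false
set_option maxRecDepth 8000

namespace CfsgLib.M24Quot

open Subgroup

theorem EP_mul : ∀ h < 8, ∀ x < 512, ∀ y < 512, h ≠ 0 → hMul h h = 0 → EP h x → EP h y → EP h (mMul x y) := by
  intro h hh x hx y hy h0 h2 hxP hyP
  obtain ⟨hxd, hxv⟩ := hxP
  obtain ⟨hyd, hyv⟩ := hyP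
  have hxl : x % 64 < 64 := Nat.mod_lt _ (by norm_num)
  have hyl : y % 64 < 64 := Nat.mod_lt _ (by norm_num)
  have hact : mAct (x / 64) (y % 64) = y % 64 := by
    rcases hxd with e | e <;> rw [e]
    · exact mAct_zero_left _ hyl
    · exact hyv
  refine ⟨?_, ?_⟩
  · rw [mMul_div]
    rcases hxd with e | e <;> rcases hyd with e' | e' <;> rw [e, e']
    · exact Or.inl ((hMul_zero 0 (by norm_num)).1)
    · exact Or.inr ((hMul_zero h hh).1)
    · exact Or.inr ((hMul_zero h hh).2)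
    · exact Or.inl h2
  · rw [mMul_mod, hact, mAct_xor h hh _ hxl _ hyl, hxv, hyv]

set_option linter.unusedSectionVars false

namespace Setting

variable {G : Type*} [Group G] [Finite G] (σ : Setting G)

theorem code_eq (x : ↥(σ.S : Subgroup G)) : 64 * σ.hdG x + σ.vecG x = σ.c.code x := by
  rw [σ.hdG_coe, σ.vecG_coe, Coord.hd]; omega

/-- The elementary abelian subgroup of order 32 over an involution of the dihedral group. -/
def esub (h : ℕ) (h0 : h ≠ 0) (h8 : h < 8) (h2 : hMul h h = 0) : Subgroup ↥(σ.S : Subgroup G) where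
  carrier := {x | EP h (σ.c.code x)}
  one_mem' := by
    show EP h (σ.c.code 1)
    rw [σ.c.code_one]
    exact ⟨Or.inl rfl, mAct_zero_right h h8⟩
  mul_mem' := fun {x y} hx hy => by
    show EP h (σ.c.code (x * y))
    rw [σ.c.code_mul]
    exact EP_mul h h8 _ (σ.c.lt x) _ (σ.c.lt y) h0 h2 hx hy
  inv_mem' := fun {x} hx => by
    have hx' : EP h (σ.c.code x) := hx
    have hsq : (x : G) * x = 1 := by
      refine (σ.sq_eq_one_iff x.2).2 ?_
      rw [σ.hdG_coe, σ.vecG_coe, Coord.hd]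
      rcases hx'.1 with e | e <;> rw [e]
      · exact ⟨(hMul_zero 0 (by norm_num)).1, mAct_zero_left _ (Nat.mod_lt _ (by norm_num))⟩
      · exact ⟨h2, hx'.2⟩
    rw [show x⁻¹ = x from inv_eq_of_mul_eq_one_right (Subtype.ext hsq)]
    exact hx

theorem esub_props (h : ℕ) (h0 : h ≠ 0) (h8 : h < 8) (h2 : hMul h h = 0) :
    let E := (σ.esub h h0 h8 h2).map (σ.S : Subgroup G).subtype
    E ≤ (σ.S : Subgroup G) ∧ (∀ x ∈ E, x * x = 1) ∧ Nat.card ↥E = 32 ∧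
      ∀ x, x ∈ E ↔ x ∈ (σ.S : Subgroup G) ∧ EP h (64 * σ.hdG x + σ.vecG x) := by
  intro E
  have hmem : ∀ x, x ∈ E ↔ x ∈ (σ.S : Subgroup G) ∧ EP h (64 * σ.hdG x + σ.vecG x) := by
    intro x
    constructor
    · rintro ⟨s, hs, rfl⟩
      refine ⟨s.2, ?_⟩
      show EP h (64 * σ.hdG (s : G) + σ.vecG (s : G))
      rw [σ.code_eq s]
      exact hs
    · rintro ⟨hx, hx'⟩
      rw [show x = ((⟨x, hx⟩ : ↥(σ.S : Subgroup G)) : G) from rfl, σ.code_eq] at hx'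
      exact ⟨⟨x, hx⟩, hx', rfl⟩
  refine ⟨Subgroup.map_subtype_le _, fun x hx => ?_, ?_, hmem⟩
  · obtain ⟨hxS, hd, hv⟩ := (hmem x).1 hx
    have hvl := σ.vecG_lt hxS
    rw [show (64 * σ.hdG x + σ.vecG x) / 64 = σ.hdG x by omega] at hd
    rw [show (64 * σ.hdG x + σ.vecG x) % 64 = σ.vecG x by omega] at hv
    refine (σ.sq_eq_one_iff hxS).2 ?_
    rcases hd with e | e <;> rw [e]
    · exact ⟨(hMul_zero 0 (by norm_num)).1, mAct_zero_left _ hvl⟩
    · exact ⟨h2, hv⟩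
  · show Nat.card ↥((σ.esub h h0 h8 h2).map (σ.S : Subgroup G).subtype) = 32
    rw [card_map_of_injective (Subgroup.subtype_injective _), ← card_EP h h8 h0 h2]
    have : Function.Bijective fun x : ↥(σ.esub h h0 h8 h2) =>
        (⟨σ.c.code x, Finset.mem_filter.2 ⟨Finset.mem_range.2 (σ.c.lt _), x.2⟩⟩ :
          ↥((Finset.range 512).filter (EP h))) :=
      ⟨fun a b he => Subtype.ext (σ.c.inj (congrArg Subtype.val he)), fun n => by
        obtain ⟨hn, hnP⟩ := Finset.mem_filter.1 n.2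
        obtain ⟨s, hs⟩ := σ.c.surj n (Finset.mem_range.1 hn)
        exact ⟨⟨s, show EP h (σ.c.code s) by rw [hs]; exact hnP⟩, Subtype.ext hs⟩⟩
    have h1 := Nat.card_congr (Equiv.ofBijective _ this)
    rwa [Nat.card_eq_fintype_card (α := ↥((Finset.range 512).filter (EP h))), Fintype.card_coe] at h1

/-- An elementary abelian subgroup of order 32 of the Sylow subgroup outside `A` is normalised by `A`. -/
theorem le_normalizer_elem {E : Subgroup G} (hE : E ≤ (σ.S : Subgroup G)) (hE2 : ∀ x ∈ E, x * x = 1)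
    (hcard : Nat.card ↥E = 32) (hA : ¬ E ≤ σ.A) : σ.A ≤ normalizer (E : Set G) := by
  obtain ⟨e, he, heA⟩ := SetLike.not_le_iff_exists.1 hA
  have h := (σ.elem_thirtyTwo hE hE2 hcard he heA).1
  have hconj : ∀ b ∈ σ.A, ∀ x ∈ E, b * x * b⁻¹ ∈ E := fun b hb x hx => by
    rw [(σ.bracket hb (hE hx)).2.2]
    exact mul_mem (h b hb x hx) hx
  intro b hb
  refine mem_normalizer_iff.2 fun x => ⟨fun hx => hconj b hb x hx, fun hx => ?_⟩
  have := hconj b⁻¹ (inv_mem hb) _ hx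
  simpa [mul_assoc] using this

/-- No subgroup normalised by `A`, not inside `A`, is conjugate into `A`. -/
theorem not_conj_into {U V : Subgroup G} (hU : σ.A ≤ normalizer (U : Set G)) (hV : V ≤ σ.A)
    (hUA : ¬ U ≤ σ.A) {g : G} (hg : ∀ x, x ∈ U ↔ g * x * g⁻¹ ∈ V) : False := by
  have hVn : σ.A ≤ normalizer (V : Set G) := fun b hb => by
    refine mem_normalizer_iff.2 fun x => ⟨fun hx => ?_, fun hx => ?_⟩
    · rwa [σ.mul_comm_of_mem hb (hV hx), mul_inv_cancel_right]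
    · have h := σ.mul_comm_of_mem hb (hV hx)
      rw [inv_mul_cancel_right] at h
      rw [mul_left_cancel (a := b) (b := x) (c := b * x * b⁻¹) (by rw [h])]
      exact hx
  obtain ⟨n, hn, hn'⟩ := σ.exists_normalizer_conj hU hVn hg
  exact hUA fun x hx => (mem_normalizer_iff.1 hn x).2 (hV ((hn' x).1 hx))

/-- A conjugate of `E ⊓ A` under the normaliser of `E` is equal to it or misses a bracket. -/
theorem exists_bracket_not_mem {E : Subgroup G} (hE : E ≤ (σ.S : Subgroup G)) (hE2 : ∀ x ∈ E, x * x = 1)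
    (hcard : Nat.card ↥E = 32) {t : G} (ht : t ∈ E) (htA : t ∉ σ.A)
    (hcoset : ∀ x ∈ E, x ∈ σ.A ∨ x * t ∈ σ.A) {r : G} (hr : ∀ x, x ∈ E ↔ r * x * r⁻¹ ∈ E)
    (hW : ¬ ∀ x, x ∈ E ⊓ σ.A → r * x * r⁻¹ ∈ σ.A) :
    ∃ b ∈ σ.A, r⁻¹ * (b * (t * b * t⁻¹)) * r ∉ σ.A := by
  by_contra hcon
  push Not at hcon
  set V : Subgroup G := (E ⊓ σ.A).map (MulAut.conj r).toMonoidHom with hV
  have hVmem : ∀ x, x ∈ V ↔ r⁻¹ * x * r ∈ E ⊓ σ.A := fun x => by
    constructor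
    · rintro ⟨w, hw, rfl⟩; simpa [mul_assoc] using hw
    · intro h; exact ⟨_, h, by simp [mul_assoc]⟩
  have hEn := σ.le_normalizer_elem hE hE2 hcard (fun h => htA (h ht))
  have hbr : ∀ b ∈ σ.A, b * (t * b * t⁻¹) ∈ E := fun b hb => (σ.elem_thirtyTwo hE hE2 hcard ht htA).1 b hb t ht
  have hVE : ∀ x ∈ V, x ∈ E := fun x hx => by
    have h := (hr _).1 ((hVmem x).1 hx).1
    simpa [mul_assoc] using h
  have hconj : ∀ b ∈ σ.A, ∀ x ∈ V, b * x * b⁻¹ ∈ V := fun b hb x hx => by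
    rcases hcoset x (hVE x hx) with hxA | hxA
    · rwa [σ.mul_comm_of_mem hb hxA, mul_inv_cancel_right]
    · have hsplit : x = x * t * t := by rw [mul_assoc, hE2 t ht, mul_one]
      have hbt := (σ.bracket hb (hE ht)).2.2
      have hb2 : b * x * b⁻¹ = b * (t * b * t⁻¹) * x := by
        conv_lhs => rw [hsplit]
        rw [show b * (x * t * t) * b⁻¹ = (b * (x * t)) * t * b⁻¹ by group, σ.mul_comm_of_mem hb hxA,
          show x * t * b * t * b⁻¹ = x * t * (b * t * b⁻¹) by group, hbt]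
        have hcE : ∀ y ∈ E, ∀ z ∈ E, y * z = z * y := fun y hy z hz => by
          have h := inv_eq_of_mul_eq_one_right (hE2 _ (mul_mem hy hz))
          rwa [mul_inv_rev, inv_eq_of_mul_eq_one_right (hE2 y hy), inv_eq_of_mul_eq_one_right (hE2 z hz),
            eq_comm] at h
        rw [hcE _ (mul_mem (hVE x hx) ht) _ (mul_mem (hbr b hb) ht), mul_assoc, hcE _ (hVE x hx) t ht,
          ← mul_assoc t t x, hE2 t ht, one_mul]
      rw [hb2]
      refine mul_mem ((hVmem _).2 ⟨?_, hcon b hb⟩) hx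
      have h := hbr b hb
      refine (hr _).2 ?_
      simpa [mul_assoc] using h
  have hVn : σ.A ≤ normalizer (V : Set G) := fun b hb => by
    refine mem_normalizer_iff.2 fun x => ⟨fun hx => hconj b hb x hx, fun hx => ?_⟩
    have := hconj b⁻¹ (inv_mem hb) _ hx
    simpa [mul_assoc] using this
  by_cases hVA : V ≤ σ.A
  · exact hW fun x hx => hVA ⟨x, hx, rfl⟩
  · exact σ.not_conj_into hVn inf_le_right hVA (g := r⁻¹) fun x => by rw [hVmem, inv_inv]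

/-- No element of the normaliser of such a subgroup moves an element outside `A` into `A`. -/
theorem no_move {E : Subgroup G} (hE : E ≤ (σ.S : Subgroup G)) (hE2 : ∀ x ∈ E, x * x = 1)
    (hcard : Nat.card ↥E = 32) {t : G} (ht : t ∈ E) (htA : t ∉ σ.A)
    (hcoset : ∀ x ∈ E, x ∈ σ.A ∨ x * t ∈ σ.A) (h16 : Nat.card ↥(E ⊓ σ.A) = 16)
    (hbb : ∃ b ∈ σ.A, ∃ b' ∈ σ.A, b * (t * b * t⁻¹) ≠ 1 ∧ b' * (t * b' * t⁻¹) ≠ 1 ∧
      b * (t * b * t⁻¹) ≠ b' * (t * b' * t⁻¹))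
    {q : G} (hq : ∀ x, x ∈ E ↔ q * x * q⁻¹ ∈ E) (hqt : q * t * q⁻¹ ∈ σ.A) : False := by
  classical
  have : Fact (Nat.Prime 2) := ⟨Nat.prime_two⟩
  have hq' : ∀ x, x ∈ E ↔ q⁻¹ * x * q ∈ E := fun x => by
    conv_rhs => rw [hq]
    simp [mul_assoc]
  have hcE : ∀ y ∈ E, ∀ z ∈ E, y * z = z * y := fun y hy z hz => by
    have h := inv_eq_of_mul_eq_one_right (hE2 _ (mul_mem hy hz))
    rwa [mul_inv_rev, inv_eq_of_mul_eq_one_right (hE2 y hy), inv_eq_of_mul_eq_one_right (hE2 z hz), eq_comm] at h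
  -- `q` does not fix the part in `A`
  set W : Subgroup G := E ⊓ σ.A with hWdef
  set W' : Subgroup G := W.map (MulAut.conj q).toMonoidHom with hW'def
  have hW'mem : ∀ x, x ∈ W' ↔ q⁻¹ * x * q ∈ W := fun x => by
    constructor
    · rintro ⟨w, hw, rfl⟩; simpa [mul_assoc] using hw
    · intro h; exact ⟨_, h, by simp [mul_assoc]⟩
  have hW'E : ∀ x ∈ W', x ∈ E := fun x hx => (hq' x).2 ((hW'mem x).1 hx).1
  have hW'16 : Nat.card ↥W' = 16 := (card_map_of_injective (MulAut.conj q).injective).trans h16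
  have hfinW : Finite ↥W := Nat.finite_of_card_ne_zero (by omega)
  have hne : ¬ ∀ x ∈ W, x ∈ W' := fun hle => by
    have e : W = W' := eq_of_le_of_card_ge hle (by rw [h16, hW'16])
    have h1 : q * t * q⁻¹ ∈ W' := e ▸ ⟨(hq t).1 ht, hqt⟩
    obtain ⟨w, hw, he⟩ := h1
    exact htA ((MulAut.conj q).injective he ▸ hw.2)
  obtain ⟨e, heW, heW'⟩ : ∃ e ∈ W, e ∉ W' := by simpa using hne
  obtain ⟨b₁, hb₁, hd'W⟩ := σ.exists_bracket_not_mem hE hE2 hcard ht htA hcoset (r := q⁻¹)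
    (fun x => by rw [inv_inv]; exact hq' x) (fun hall => by
      refine heW' ((hW'mem e).2 ⟨(hq' e).1 heW.1, ?_⟩)
      have := hall e heW
      rwa [inv_inv] at this)
  rw [inv_inv] at hd'W
  -- the bracket of an element of `A` in `W'`
  have hbE : ∀ b ∈ σ.A, b * (t * b * t⁻¹) ∈ W := fun b hb =>
    ⟨(σ.elem_thirtyTwo hE hE2 hcard ht htA).1 b hb t ht, (σ.bracket hb (hE ht)).1⟩
  obtain ⟨b₀, hb₀, hd0ne, hd0W'⟩ : ∃ b ∈ σ.A, b * (t * b * t⁻¹) ≠ 1 ∧ b * (t * b * t⁻¹) ∈ W' := by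
    obtain ⟨b, hb, b', hb', h1, h1', hne'⟩ := hbb
    by_contra hcon
    push Not at hcon
    have hn := hcon b hb h1
    have hn' := hcon b' hb' h1'
    have hidx : (W'.subgroupOf E).index = 2 := by
      have h1 := (W'.subgroupOf E).card_mul_index
      rw [Nat.card_congr (subgroupOfEquivOfLe (show W' ≤ E from hW'E)).toEquiv, hW'16, hcard] at h1
      omega
    have h3 := (Subgroup.mul_mem_iff_of_index_two hidx (a := ⟨_, (hbE b hb).1⟩) (b := ⟨_, (hbE b' hb').1⟩)).2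
      (by simp [mem_subgroupOf, hn, hn'])
    have hprod : (b * b') * (t * (b * b') * t⁻¹) = b * (t * b * t⁻¹) * (b' * (t * b' * t⁻¹)) := by
      rw [show b * b' * (t * (b * b') * t⁻¹) = b * (b' * (t * b * t⁻¹)) * (t * b' * t⁻¹) by group,
        σ.mul_comm_of_mem hb' (σ.conj_mem (hE ht) hb)]
      group
    refine hcon (b * b') (mul_mem hb hb') ?_ (hprod ▸ h3)
    intro h
    rw [hprod] at h
    refine hne' ?_
    have := inv_eq_of_mul_eq_one_right h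
    rw [inv_eq_of_mul_eq_one_right (hE2 _ (hbE b hb).1)] at this
    exact this
  set d₀ := b₀ * (t * b₀ * t⁻¹) with hd₀
  set d' := q * (b₁ * (t * b₁ * t⁻¹)) * q⁻¹ with hd'
  have hd0 : d₀ ∈ W := hbE b₀ hb₀
  have hd'mem : d' ∈ W' := ⟨_, hbE b₁ hb₁, rfl⟩
  -- the actions
  have hact : ∀ b ∈ σ.A, ∀ x ∈ E, x ∉ σ.A → b * x * b⁻¹ = b * (t * b * t⁻¹) * x := by
    intro b hb x hx hxA
    have hxt := (hcoset x hx).resolve_left hxA
    have hsplit : x = x * t * t := by rw [mul_assoc, hE2 t ht, mul_one]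
    conv_lhs => rw [hsplit]
    rw [show b * (x * t * t) * b⁻¹ = (b * (x * t)) * t * b⁻¹ by group, σ.mul_comm_of_mem hb hxt,
      show x * t * b * t * b⁻¹ = x * t * (b * t * b⁻¹) by group, (σ.bracket hb (hE ht)).2.2]
    rw [hcE _ (mul_mem hx ht) _ (mul_mem (hbE b hb).1 ht), mul_assoc, hcE _ hx t ht,
      ← mul_assoc t t x, hE2 t ht, one_mul]
  have hfixA : ∀ b ∈ σ.A, ∀ x ∈ W, b * x * b⁻¹ = x := fun b hb x hx => by
    rw [σ.mul_comm_of_mem hb hx.2, mul_inv_cancel_right]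
  set β := q * b₁ * q⁻¹ with hβ
  have hfixβ : ∀ x ∈ W', β * x * β⁻¹ = x := fun x hx => by
    have h := hfixA b₁ hb₁ _ ((hW'mem x).1 hx)
    calc β * x * β⁻¹ = q * (b₁ * (q⁻¹ * x * q) * b₁⁻¹) * q⁻¹ := by simp [hβ, mul_assoc]
      _ = x := by rw [h]; group
  have hmovβ : ∀ x ∈ E, x ∉ W' → β * x * β⁻¹ = d' * x := fun x hx hx' => by
    have hxE := (hq' x).1 hx
    have h := hact b₁ hb₁ _ hxE (fun hA => hx' ((hW'mem x).2 ⟨hxE, hA⟩))
    calc β * x * β⁻¹ = q * (b₁ * (q⁻¹ * x * q) * b₁⁻¹) * q⁻¹ := by simp [hβ, mul_assoc]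
      _ = d' * x := by rw [h, hd']; group
  set y := β * b₀ with hy
  have hyconj : ∀ x, y * x * y⁻¹ = β * (b₀ * x * b₀⁻¹) * β⁻¹ := fun x => by simp [hy, mul_assoc]
  have hye : y * e * y⁻¹ = d' * e := by rw [hyconj, hfixA b₀ hb₀ e heW, hmovβ e heW.1 heW']
  have hyd' : y * d' * y⁻¹ = d₀ * d' := by
    have hfix : β * (d₀ * d') * β⁻¹ = d₀ * d' := hfixβ _ (mul_mem hd0W' hd'mem)
    rw [hyconj, hact b₀ hb₀ d' (hW'E _ hd'mem) hd'W, hfix]
  have hyd0 : y * d₀ * y⁻¹ = d₀ := by rw [hyconj, hfixA b₀ hb₀ _ hd0, hfixβ _ hd0W']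
  have hy2 : y ^ 2 * e * (y ^ 2)⁻¹ = d₀ * e := by
    calc y ^ 2 * e * (y ^ 2)⁻¹ = (y * d' * y⁻¹) * (y * e * y⁻¹) := by
          have hh : y ^ 2 * e * (y ^ 2)⁻¹ = y * (y * e * y⁻¹) * y⁻¹ := by simp [pow_two, mul_assoc]
          rw [hh]
          conv_lhs => rw [hye]
          simp [mul_assoc]
      _ = d₀ * e := by
          rw [hyd', hye, mul_assoc d₀ d', ← mul_assoc d' d', hE2 d' (hW'E _ hd'mem), one_mul]
  have hy4 : ∀ k : ℕ, (y ^ 2) ^ k * e * ((y ^ 2) ^ k)⁻¹ = if Even k then e else d₀ * e := by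
    intro k
    induction k with
    | zero => simp
    | succ k ih =>
      rw [pow_succ', show y ^ 2 * (y ^ 2) ^ k * e * (y ^ 2 * (y ^ 2) ^ k)⁻¹ =
        y ^ 2 * ((y ^ 2) ^ k * e * ((y ^ 2) ^ k)⁻¹) * (y ^ 2)⁻¹ by group, ih]
      have hfix2 : y ^ 2 * d₀ * (y ^ 2)⁻¹ = d₀ := by
        rw [show y ^ 2 * d₀ * (y ^ 2)⁻¹ = y * (y * d₀ * y⁻¹) * y⁻¹ by simp [pow_two, mul_assoc], hyd0, hyd0]
      rcases Nat.even_or_odd k with hk | hk
      · rw [if_pos hk, if_neg (Nat.not_even_iff_odd.2 hk.add_one), hy2]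
      · rw [if_neg (Nat.not_even_iff_odd.2 hk), if_pos hk.add_one,
          show y ^ 2 * (d₀ * e) * (y ^ 2)⁻¹ = (y ^ 2 * d₀ * (y ^ 2)⁻¹) * (y ^ 2 * e * (y ^ 2)⁻¹) by group,
          hfix2, hy2, ← mul_assoc, hE2 d₀ hd0.1, one_mul]
  -- a 2-element
  set N : Subgroup G := normalizer (E : Set G) with hN
  have hAN : σ.A ≤ N := σ.le_normalizer_elem hE hE2 hcard fun h => htA (h ht)
  have hqN : q ∈ N := mem_normalizer_iff.2 hq
  have hyN : y ∈ N := mul_mem (mul_mem (mul_mem hqN (hAN hb₁)) (inv_mem hqN)) (hAN hb₀)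
  obtain ⟨k, m, hmodd, hom⟩ := Nat.exists_eq_two_pow_mul_odd (orderOf_pos y).ne'
  set z := y ^ m with hz
  have hzN : z ∈ N := pow_mem hyN m
  have hz2 : z * z * e ≠ e * (z * z) := fun h => by
    have h1 := hy4 m
    rw [if_neg (Nat.not_even_iff_odd.2 hmodd), ← pow_mul, mul_comm 2 m, pow_mul, ← hz, pow_two, h,
      mul_inv_cancel_right] at h1
    exact hd0ne (by simpa using h1.symm)
  have hzP : IsPGroup 2 ↥(zpowers (⟨z, hzN⟩ : ↥N)) := by
    refine IsPGroup.of_card (n := Nat.log 2 (Nat.card ↥(zpowers (⟨z, hzN⟩ : ↥N)))) ?_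
    have h1 : orderOf (⟨z, hzN⟩ : ↥N) ∣ 2 ^ k := orderOf_dvd_of_pow_eq_one (Subtype.ext (by
      rw [SubmonoidClass.coe_pow, OneMemClass.coe_one]
      show (y ^ m) ^ 2 ^ k = 1
      rw [← pow_mul, mul_comm, ← hom, pow_orderOf_eq_one]))
    obtain ⟨j, -, hj⟩ := (Nat.dvd_prime_pow Nat.prime_two).1 h1
    rw [Nat.card_zpowers, hj, Nat.log_pow (by norm_num)]
  obtain ⟨R₁, hR₁⟩ := hzP.exists_le_sylow
  obtain ⟨R, hR⟩ := (σ.isPGroup_A.comap_of_injective N.subtype N.subtype_injective).exists_le_sylow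
  obtain ⟨w, hw⟩ := MulAction.exists_smul_eq ↥N R₁ R
  have hzR : w * ⟨z, hzN⟩ * w⁻¹ ∈ (R : Subgroup ↥N) := by
    rw [← hw, Sylow.coe_subgroup_smul]
    exact ⟨_, hR₁ (mem_zpowers _), rfl⟩
  obtain ⟨n, hn, hnR⟩ := σ.exists_conj_le (Q := (R : Subgroup ↥N).map N.subtype) (R.isPGroup'.map _)
    fun a ha => ⟨⟨a, hAN ha⟩, hR (show N.subtype ⟨a, hAN ha⟩ ∈ σ.A from ha), rfl⟩
  have hER : ∀ x, (hx : x ∈ E) → (⟨x, le_normalizer hx⟩ : ↥N) ∈ (R : Subgroup ↥N) := fun x hx => by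
    have hEN : (E.subgroupOf N).Normal := normal_in_normalizer
    have hE2g : IsPGroup 2 ↥(E.subgroupOf N) := by
      refine IsPGroup.of_card (n := 5) ?_
      rw [Nat.card_congr (subgroupOfEquivOfLe le_normalizer).toEquiv, hcard]; rfl
    obtain ⟨R₂, hR₂⟩ := hE2g.exists_le_sylow
    obtain ⟨u, hu⟩ := MulAction.exists_smul_eq ↥N R₂ R
    rw [← hu, Sylow.coe_subgroup_smul]
    refine ⟨u⁻¹ * ⟨x, le_normalizer hx⟩ * u, hR₂ ?_, ?_⟩
    swap
    · show u * (u⁻¹ * ⟨x, _⟩ * u) * u⁻¹ = _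
      group
    exact hEN.conj_mem' _ hx u
  -- the moved subgroup is one of the standard ones
  set E' : Subgroup G := E.map (MulAut.conj n).toMonoidHom with hE'
  have hE'S : E' ≤ (σ.S : Subgroup G) := by
    rintro _ ⟨x, hx, rfl⟩; exact hnR _ ⟨_, hER x hx, rfl⟩
  have hE'2 : ∀ x ∈ E', x * x = 1 := by
    rintro _ ⟨x, hx, rfl⟩; rw [← map_mul, hE2 x hx, map_one]
  have hE'card : Nat.card ↥E' = 32 := (card_map_of_injective (MulAut.conj n).injective).trans hcard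
  have ht' : n * t * n⁻¹ ∈ E' := ⟨t, ht, rfl⟩
  have ht'A : n * t * n⁻¹ ∉ σ.A := fun h => htA ((mem_normalizer_iff.1 hn t).2 h)
  have hE'16 : Nat.card ↥(E' ⊓ σ.A) = 16 := by
    rw [← h16, show E' ⊓ σ.A = W.map (MulAut.conj n).toMonoidHom from ?_,
      card_map_of_injective (MulAut.conj n).injective]
    ext x
    constructor
    · rintro ⟨⟨w', hw', rfl⟩, hxA⟩
      exact ⟨w', ⟨hw', (mem_normalizer_iff.1 hn w').2 hxA⟩, rfl⟩
    · rintro ⟨w', hw', rfl⟩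
      exact ⟨⟨w', hw'.1, rfl⟩, (mem_normalizer_iff.1 hn w').1 hw'.2⟩
  have hEP := (σ.elem_thirtyTwo hE'S hE'2 hE'card ht' ht'A).2 hE'16
  set h := σ.hdG (n * t * n⁻¹) with hh
  have hh8 : h < 8 := σ.hdG_lt (hE'S ht')
  have hh0 : h ≠ 0 := fun e => ht'A ((σ.hdG_eq_zero_iff (hE'S ht')).1 e)
  have hh2 : hMul h h = 0 := ((σ.sq_eq_one_iff (hE'S ht')).1 (hE'2 _ ht')).1
  -- the element in the Sylow subgroup
  set x := n * ((w : G) * z * (w : G)⁻¹) * n⁻¹ with hx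
  have hxS : x ∈ (σ.S : Subgroup G) := hnR _ ⟨_, hzR, rfl⟩
  have hxE' : ∀ e' ∈ E', x * e' * x⁻¹ ∈ E' := by
    rintro _ ⟨e', he', rfl⟩
    have hm : (w : G) * z * (w : G)⁻¹ ∈ N := mul_mem (mul_mem w.2 hzN) (inv_mem w.2)
    exact ⟨_, (mem_normalizer_iff.1 hm e').1 he', by simp [hx, mul_assoc]⟩
  obtain ⟨hxcom, hxsq⟩ : hMul (σ.hdG x) h = hMul h (σ.hdG x) ∧
      x * x ∈ E' := by
    set t' := n * t * n⁻¹ with ht'def
    obtain ⟨-, hd, hv⟩ := (hEP _).1 (hxE' t' ht')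
    rw [show (64 * σ.hdG (x * t' * x⁻¹) + σ.vecG (x * t' * x⁻¹)) / 64 = σ.hdG (x * t' * x⁻¹) by
      have := σ.vecG_lt (hE'S (hxE' t' ht')); omega] at hd
    have hne0 : σ.hdG (x * t' * x⁻¹) ≠ 0 := fun h0 => by
      have hA0 := (σ.hdG_eq_zero_iff (hE'S (hxE' t' ht'))).1 h0
      have := σ.conj_mem (inv_mem hxS) hA0
      exact ht'A (by simpa [mul_assoc] using this)
    have hd' := hd.resolve_left hne0
    have h1 := σ.hdG_mul (hE'S (hxE' t' ht')) hxS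
    rw [inv_mul_cancel_right, σ.hdG_mul hxS (hE'S ht'), hd'] at h1
    refine ⟨h1, (hEP _).2 ⟨mul_mem hxS hxS, ?_⟩⟩
    have hl := σ.vecG_lt (mul_mem hxS hxS)
    refine ⟨?_, ?_⟩
    · rw [show (64 * σ.hdG (x * x) + σ.vecG (x * x)) / 64 = σ.hdG (x * x) by omega, σ.hdG_mul hxS hxS]
      exact sq_of_commute _ (σ.hdG_lt hxS) h hh8 hh0 hh2 h1
    · rw [show (64 * σ.hdG (x * x) + σ.vecG (x * x)) % 64 = σ.vecG (x * x) by omega, σ.vecG_mul hxS hxS]
      exact act_bracket _ (σ.hdG_lt hxS) h hh8 hh0 hh2 h1 _ (σ.vecG_lt hxS)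
  -- contradiction
  have hwe : (w : G) * e * (w : G)⁻¹ ∈ E := (mem_normalizer_iff.1 w.2 e).1 heW.1
  have hcE' : ∀ a ∈ E', ∀ b ∈ E', a * b = b * a := fun a ha b hb => by
    obtain ⟨a', ha', rfl⟩ := ha
    obtain ⟨b', hb', rfl⟩ := hb
    rw [← map_mul, ← map_mul, hcE a' ha' b' hb']
  have h := hcE' _ hxsq _ ⟨_, hwe, rfl⟩
  apply hz2
  have h2 : MulAut.conj (n * (w : G)) (z * z * e) = MulAut.conj (n * (w : G)) (e * (z * z)) := by
    simp only [hx, MulEquiv.coe_toMonoidHom, MulAut.conj_apply] at h ⊢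
    simpa [mul_assoc] using h
  exact (MulAut.conj (n * (w : G))).injective h2

/-- `A` is strongly closed in the Sylow subgroup. -/
theorem isStronglyClosed : Cfsg.IsStronglyClosed σ.A (σ.S : Subgroup G) := by
  have : Fact (Nat.Prime 2) := ⟨Nat.prime_two⟩
  refine ⟨σ.le, fun a ha g hgS => ?_⟩
  by_contra htA
  set t := g * a * g⁻¹ with ht
  have htt : t * t = 1 := by rw [ht, ← MulAut.conj_apply, ← map_mul, σ.sq_of_mem ha, map_one]
  obtain ⟨hh2, hhv⟩ := (σ.sq_eq_one_iff hgS).1 htt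
  have hh0 : σ.hdG t ≠ 0 := fun e => htA ((σ.hdG_eq_zero_iff hgS).1 e)
  have hh8 := σ.hdG_lt hgS
  obtain ⟨hE, hE2, hcard, hmem⟩ := σ.esub_props _ hh0 hh8 hh2
  set E := (σ.esub _ hh0 hh8 hh2).map (σ.S : Subgroup G).subtype with hEdef
  have htE : t ∈ E := (hmem t).2 ⟨hgS, by
    have := σ.vecG_lt hgS
    exact ⟨Or.inr (by omega), by rw [show (64 * σ.hdG t + σ.vecG t) % 64 = σ.vecG t by omega]; exact hhv⟩⟩
  have hcoset : ∀ x ∈ E, x ∈ σ.A ∨ x * t ∈ σ.A := fun x hx => by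
    obtain ⟨hxS, hd, -⟩ := (hmem x).1 hx
    rw [show (64 * σ.hdG x + σ.vecG x) / 64 = σ.hdG x by have := σ.vecG_lt hxS; omega] at hd
    rcases hd with e | e
    · exact Or.inl ((σ.hdG_eq_zero_iff hxS).1 e)
    · exact Or.inr ((σ.hdG_eq_zero_iff (mul_mem hxS hgS)).1 (by rw [σ.hdG_mul hxS hgS, e]; exact hh2))
  have h16 : Nat.card ↥(E ⊓ σ.A) = 16 := by
    have hfinE : Finite ↥E := Nat.finite_of_card_ne_zero (by omega)
    have hidx : ((E ⊓ σ.A).subgroupOf E).index = 2 := by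
      refine Subgroup.index_eq_two_iff.2 ⟨⟨t, htE⟩, fun b => ?_⟩
      by_cases hbA : (b : G) ∈ σ.A
      · refine Or.inr ⟨⟨b.2, hbA⟩, fun h => htA ?_⟩
        have := mul_mem (inv_mem hbA) h.2
        simpa using this
      · exact Or.inl ⟨⟨mul_mem b.2 htE, (hcoset b b.2).resolve_left hbA⟩, fun h => hbA h.2⟩
    have h1 := ((E ⊓ σ.A).subgroupOf E).card_mul_index
    rw [hidx, Nat.card_congr (subgroupOfEquivOfLe inf_le_left).toEquiv, hcard] at h1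
    omega
  have hbb : ∃ b ∈ σ.A, ∃ b' ∈ σ.A, b * (t * b * t⁻¹) ≠ 1 ∧ b' * (t * b' * t⁻¹) ≠ 1 ∧
      b * (t * b * t⁻¹) ≠ b' * (t * b' * t⁻¹) := by
    obtain ⟨v, hv, w, hw, h1, h2, h3⟩ := two_brackets _ hh8 hh0 hh2
    obtain ⟨b, hb, hbv⟩ := σ.exists_mem_A hv
    obtain ⟨b', hb', hbv'⟩ := σ.exists_mem_A hw
    have e1 := (σ.bracket hb hgS).2.1
    have e2 := (σ.bracket hb' hgS).2.1
    rw [hbv] at e1; rw [hbv'] at e2
    exact ⟨b, hb, b', hb', fun h => h1 (by rw [← e1, h, σ.vecG_one]),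
      fun h => h2 (by rw [← e2, h, σ.vecG_one]), fun h => h3 (by rw [← e1, ← e2, h])⟩
  -- move a conjugate of `E` into the Sylow subgroup, keeping the image of `t` in `A`
  set C : Subgroup G := centralizer ({a} : Set G) with hC
  set E₀ : Subgroup G := E.map (MulAut.conj g⁻¹).toMonoidHom with hE₀
  have hE₀C : E₀ ≤ C := by
    rintro _ ⟨x, hx, rfl⟩
    have hc : x * t = t * x := by
      have h := inv_eq_of_mul_eq_one_right (hE2 _ (mul_mem hx htE))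
      rwa [mul_inv_rev, inv_eq_of_mul_eq_one_right (hE2 x hx), inv_eq_of_mul_eq_one_right htt, eq_comm] at h
    refine mem_centralizer_singleton_iff.2 ?_
    have := congrArg (MulAut.conj g⁻¹) hc
    simpa [ht, mul_assoc] using this
  have hE₀2 : IsPGroup 2 ↥E₀ := (IsPGroup.of_card (n := 5) (by rw [hcard]; rfl) : IsPGroup 2 ↥E).map _
  have hAC : σ.A ≤ C := fun b hb => mem_centralizer_singleton_iff.2 (σ.mul_comm_of_mem hb ha)
  obtain ⟨R₁, h1⟩ := (hE₀2.comap_of_injective C.subtype C.subtype_injective).exists_le_sylow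
  obtain ⟨R₂, h2⟩ := (σ.isPGroup_A.comap_of_injective C.subtype C.subtype_injective).exists_le_sylow
  obtain ⟨m, hm⟩ := MulAction.exists_smul_eq ↥C R₁ R₂
  obtain ⟨n, hn, hnR⟩ := σ.exists_conj_le (Q := (R₂ : Subgroup ↥C).map C.subtype) (R₂.isPGroup'.map _)
    fun b hb => ⟨⟨b, hAC hb⟩, h2 (show C.subtype ⟨b, hAC hb⟩ ∈ σ.A from hb), rfl⟩
  set u := n * (m : G) * g⁻¹ with hu
  set E₁ : Subgroup G := E.map (MulAut.conj u).toMonoidHom with hE₁
  have hut : u * t * u⁻¹ = n * a * n⁻¹ := by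
    have hma : (m : G) * a * (m : G)⁻¹ = a := by
      rw [mem_centralizer_singleton_iff.1 m.2, mul_inv_cancel_right]
    calc u * t * u⁻¹ = n * ((m : G) * a * (m : G)⁻¹) * n⁻¹ := by simp [hu, ht, mul_assoc]
      _ = _ := by rw [hma]
  have hutA : u * t * u⁻¹ ∈ σ.A := hut ▸ (mem_normalizer_iff.1 hn a).1 ha
  have hE₁S : E₁ ≤ (σ.S : Subgroup G) := by
    rintro _ ⟨x, hx, rfl⟩
    have hmem0 : MulAut.conj g⁻¹ x ∈ E₀ := ⟨x, hx, rfl⟩
    have h3 : m * ⟨_, hE₀C hmem0⟩ * m⁻¹ ∈ (R₂ : Subgroup ↥C) := by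
      rw [← hm, Sylow.coe_subgroup_smul]
      exact ⟨_, h1 (show C.subtype ⟨_, hE₀C hmem0⟩ ∈ E₀ from hmem0), rfl⟩
    have h4 := hnR _ ⟨_, h3, rfl⟩
    simpa [hu, mul_assoc] using h4
  have hE₁2 : ∀ x ∈ E₁, x * x = 1 := by
    rintro _ ⟨x, hx, rfl⟩; rw [← map_mul, hE2 x hx, map_one]
  have hE₁card : Nat.card ↥E₁ = 32 := (card_map_of_injective (MulAut.conj u).injective).trans hcard
  have hEn : σ.A ≤ normalizer (E : Set G) := σ.le_normalizer_elem hE hE2 hcard fun h => htA (h htE)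
  have hu' : ∀ x, x ∈ E ↔ u * x * u⁻¹ ∈ E₁ := fun x =>
    ⟨fun hx => ⟨x, hx, rfl⟩, fun ⟨y, hy, he⟩ => (MulAut.conj u).injective he ▸ hy⟩
  by_cases hE₁A : E₁ ≤ σ.A
  · exact σ.not_conj_into hEn hE₁A (fun h => htA (h htE)) hu'
  obtain ⟨r, hr, hr'⟩ := σ.exists_normalizer_conj hEn (σ.le_normalizer_elem hE₁S hE₁2 hE₁card hE₁A) hu'
  refine σ.no_move hE hE2 hcard htE htA hcoset h16 hbb (q := r⁻¹ * u) (fun x => ?_) ?_
  · rw [hr' (r⁻¹ * u * x * (r⁻¹ * u)⁻¹), hu' x]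
    simp [mul_assoc]
  · have := (mem_normalizer_iff.1 (inv_mem hr) _).1 hutA
    simpa [mul_assoc] using this

end Setting

end CfsgLib.M24Quot
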