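import Cfsg.Agent.Lib.M24Quot.DecompMain

/-!
The decomposition of the abelian subgroup of order 64 under its normaliser.
-/

set_option autoImplicit false

namespace CfsgLib.M24Quot

open Subgroup Cfsg

namespace Setting

variable {G : Type*} [Group G] (σ : Setting G)

/-- The vectors as the elements of the subgroup of order 64. -/
noncomputable def vecEquiv : ↥σ.A ≃ Fin 64 :=
  Equiv.ofBijective (fun a => ⟨σ.vec a, σ.vec_lt a⟩) ⟨fun _ _ h => σ.vec_inj (congrArg Fin.val h), fun n => by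
    obtain ⟨a, ha⟩ := σ.vec_surj n.2
    exact ⟨a, Fin.ext ha⟩⟩

theorem normalizer_conj_mem {g : G} (hg : g ∈ normalizer (σ.A : Set G)) {a : G} (ha : a ∈ σ.A) :
    g * a * g⁻¹ ∈ σ.A :=
  (mem_normalizer_iff.1 hg a).1 ha

/-- Conjugation by an element of the normaliser. -/
def conjPerm (g : ↥(normalizer (σ.A : Set G))) : Equiv.Perm ↥σ.A where
  toFun a := ⟨g * a * (g : G)⁻¹, σ.normalizer_conj_mem g.2 a.2⟩
  invFun a := ⟨(g : G)⁻¹ * a * g, by simpa using σ.normalizer_conj_mem (inv_mem g.2) a.2⟩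
  left_inv a := Subtype.ext (by simp [mul_assoc])
  right_inv a := Subtype.ext (by simp [mul_assoc])

/-- The action of the normaliser on the vectors. -/
noncomputable def actHom : ↥(normalizer (σ.A : Set G)) →* Equiv.Perm (Fin 64) :=
  MonoidHom.mk' (fun g => σ.vecEquiv.permCongr (σ.conjPerm g)) fun g k => Equiv.ext fun v => by
    simp only [Equiv.permCongr_apply, Equiv.Perm.mul_apply, Equiv.symm_apply_apply]
    exact congrArg σ.vecEquiv (Subtype.ext (by simp [conjPerm, mul_assoc]))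

theorem actHom_vec (g : ↥(normalizer (σ.A : Set G))) (a : ↥σ.A) :
    natF (σ.actHom g) (σ.vec a) = σ.vec ⟨g * a * (g : G)⁻¹, σ.normalizer_conj_mem g.2 a.2⟩ := by
  rw [← natF_apply _ ⟨σ.vec a, σ.vec_lt a⟩]
  show (σ.vecEquiv (σ.conjPerm g (σ.vecEquiv.symm ⟨σ.vec a, σ.vec_lt a⟩))).1 = _
  rw [show σ.vecEquiv.symm ⟨σ.vec a, σ.vec_lt a⟩ = a from σ.vecEquiv.symm_apply_eq.2 (Fin.ext rfl)]
  rfl

theorem actHom_lin (g : ↥(normalizer (σ.A : Set G))) : LinF (natF (σ.actHom g)) := by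
  refine ⟨fun v hv => natF_lt _ hv, fun v hv w hw => ?_⟩
  obtain ⟨a, rfl⟩ := σ.vec_surj hv
  obtain ⟨b, rfl⟩ := σ.vec_surj hw
  rw [← σ.vec_mul, σ.actHom_vec, σ.actHom_vec, σ.actHom_vec, ← σ.vec_mul]
  exact congrArg σ.vec (Subtype.ext (by simp [mul_assoc]))

theorem D8_le_range : D8 ≤ σ.actHom.range := by
  rintro _ ⟨h, rfl⟩
  obtain ⟨s, hs⟩ := σ.c.surj (64 * h) (by omega)
  refine ⟨⟨s, σ.sylow_le_normalizer s.2⟩, natF_ext fun v hv => ?_⟩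
  obtain ⟨a, rfl⟩ := σ.vec_surj hv
  rw [σ.actHom_vec, natF_hM _ hv]
  refine (σ.vec_conj s a).trans ?_
  rw [Coord.hd, hs, Nat.mul_div_cancel_left _ (by norm_num)]

theorem card_sylow : Nat.card ↥(σ.S : Subgroup G) = 512 := by
  have : Function.Bijective fun s : ↥(σ.S : Subgroup G) => (⟨σ.c.code s, σ.c.lt s⟩ : Fin 512) :=
    ⟨fun a b h => σ.c.inj (congrArg Fin.val h), fun n => by
      obtain ⟨a, ha⟩ := σ.c.surj n n.2
      exact ⟨a, Fin.ext ha⟩⟩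
  simpa using Nat.card_congr (Equiv.ofBijective _ this)

theorem not_dvd_card_range [Finite G] : ¬ 16 ∣ Nat.card ↥σ.actHom.range := fun h => by
  haveI : Fact (Nat.Prime 2) := ⟨Nat.prime_two⟩
  have hA : σ.A ≤ normalizer (σ.A : Set G) := le_normalizer
  have hker : σ.A.subgroupOf (normalizer (σ.A : Set G)) ≤ σ.actHom.ker := fun a ha => by
    refine natF_ext fun v hv => ?_
    obtain ⟨b, rfl⟩ := σ.vec_surj hv
    rw [σ.actHom_vec, natF_one hv]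
    refine congrArg σ.vec (Subtype.ext ?_)
    show (a : G) * b * (a : G)⁻¹ = b
    rw [σ.mul_comm_of_mem (mem_subgroupOf.1 ha) b.2, mul_inv_cancel_right]
  have h64 : 64 ∣ Nat.card ↥σ.actHom.ker := by
    have := card_dvd_of_le hker
    rwa [Nat.card_congr (subgroupOfEquivOfLe hA).toEquiv, σ.card_A] at this
  have hN := σ.actHom.ker.card_mul_index
  rw [index_ker] at hN
  have hd : 2 ^ 10 ∣ Nat.card G :=
    ((show 2 ^ 10 = 64 * 16 from rfl) ▸ hN ▸ mul_dvd_mul h64 h :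
      2 ^ 10 ∣ Nat.card ↥(normalizer (σ.A : Set G))).trans (card_subgroup_dvd_card _)
  have := σ.S.pow_dvd_card_of_pow_dvd_card hd
  rw [σ.card_sylow] at this
  exact absurd (Nat.le_of_dvd (by norm_num) this) (by norm_num)

/-- The elements of `A` with vector in a set. -/
def part (m : ℕ) (h0 : inM m 0 = true) (hx : ∀ u < 64, ∀ w < 64, inM m u = true → inM m w = true →
    inM m (u ^^^ w) = true) : Subgroup G where
  carrier := {g | ∃ h : g ∈ σ.A, inM m (σ.vec ⟨g, h⟩) = true}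
  one_mem' := ⟨one_mem _, by rw [← h0, ← σ.vec_one]; rfl⟩
  mul_mem' := by
    rintro a b ⟨ha, ha'⟩ ⟨hb, hb'⟩
    refine ⟨mul_mem ha hb, ?_⟩
    rw [show (⟨a * b, mul_mem ha hb⟩ : ↥σ.A) = ⟨a, ha⟩ * ⟨b, hb⟩ from rfl, σ.vec_mul]
    exact hx _ (σ.vec_lt _) _ (σ.vec_lt _) ha' hb'
  inv_mem' := by
    rintro a ⟨ha, ha'⟩
    have e : a⁻¹ = a := inv_eq_of_mul_eq_one_right (σ.sq_of_mem ha)
    refine ⟨e.symm ▸ ha, ?_⟩
    convert ha' using 4

/-- The properties of a part cut out by an invariant set. -/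
theorem part_props [Finite G] (m : ℕ) (h0 : inM m 0 = true)
    (hx : ∀ u < 64, ∀ w < 64, inM m u = true → inM m w = true → inM m (u ^^^ w) = true)
    (hl : ((List.range 64).filter (inM m)).length = 8)
    (hmov : ∀ h < 8, h ≠ 0 → ∃ u < 64, inM m u = true ∧ mAct h u ≠ u)
    (hk : ∀ g : ↥(normalizer (σ.A : Set G)), ∀ u < 64, inM m u = true → inM m (natF (σ.actHom g) u) = true) :
    σ.part m h0 hx ≤ σ.A ∧ Nat.card ↥(σ.part m h0 hx) = 8 ∧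
      normalizer (σ.A : Set G) ≤ normalizer (σ.part m h0 hx : Set G) ∧
      ∀ s ∈ (σ.S : Subgroup G), (∀ a ∈ σ.part m h0 hx, s * a = a * s) → s ∈ σ.A := by
  refine ⟨fun g hg => hg.1, ?_, fun g hg => ?_, fun s hs hc => ?_⟩
  · let F : Finset ℕ := ((List.range 64).filter (inM m)).toFinset
    have hF : F.card = 8 := by
      rw [List.toFinset_card_of_nodup (List.nodup_range.filter _), hl]
    have hb : Function.Bijective fun g : ↥(σ.part m h0 hx) =>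
        (⟨σ.vec ⟨g, g.2.1⟩, List.mem_toFinset.2 (List.mem_filter.2 ⟨List.mem_range.2 (σ.vec_lt _), g.2.2⟩)⟩ : F) := by
      refine ⟨fun a b e => Subtype.ext ?_, fun n => ?_⟩
      · exact Subtype.mk.inj (σ.vec_inj (congrArg Subtype.val e))
      · obtain ⟨h1, h2⟩ := List.mem_filter.1 (List.mem_toFinset.1 n.2)
        obtain ⟨a, ha⟩ := σ.vec_surj (List.mem_range.1 h1)
        exact ⟨⟨a, a.2, by rw [show σ.vec ⟨a, a.2⟩ = n.1 from ha]; exact h2⟩, Subtype.ext ha⟩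
    rw [Nat.card_congr (Equiv.ofBijective _ hb), Nat.card_eq_fintype_card, Fintype.card_coe, hF]
  · have fwd : ∀ k ∈ normalizer (σ.A : Set G), ∀ a ∈ σ.part m h0 hx, k * a * k⁻¹ ∈ σ.part m h0 hx := by
      rintro k hk' a ⟨ha, ha'⟩
      refine ⟨σ.normalizer_conj_mem hk' ha, ?_⟩
      have := hk ⟨k, hk'⟩ _ (σ.vec_lt ⟨a, ha⟩) ha'
      rwa [σ.actHom_vec] at this
    refine mem_normalizer_iff.2 fun a => ⟨fwd g hg a, fun h => ?_⟩
    have := fwd g⁻¹ (inv_mem hg) _ h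
    simpa [mul_assoc] using this
  · by_contra hsA
    obtain ⟨u, hu, hum, hmv⟩ := hmov (σ.c.hd ⟨s, hs⟩) (σ.c.hd_lt _) fun e => hsA ((σ.hd_zero_iff ⟨s, hs⟩).1 e)
    obtain ⟨a, rfl⟩ := σ.vec_surj hu
    refine hmv ((σ.vec_conj ⟨s, hs⟩ a).symm.trans (congrArg σ.vec (Subtype.ext ?_)))
    show s * a * s⁻¹ = a
    rw [hc a ⟨a.2, hum⟩, mul_inv_cancel_right]

/-- The decomposition of the subgroup of order 64. -/
theorem exists_decomposition [Finite G] :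
    ∃ A₁ A₂ : Subgroup G, A₁ ≤ σ.A ∧ A₂ ≤ σ.A ∧ A₁ ⊓ A₂ = ⊥ ∧ A₁ ⊔ A₂ = σ.A ∧
      Nat.card ↥A₁ = 8 ∧ Nat.card ↥A₂ = 8 ∧
      normalizer (σ.A : Set G) ≤ normalizer (A₁ : Set G) ∧ normalizer (σ.A : Set G) ≤ normalizer (A₂ : Set G) ∧
      (∀ s ∈ (σ.S : Subgroup G), (∀ a ∈ A₁, s * a = a * s) → s ∈ σ.A) ∧
      (∀ s ∈ (σ.S : Subgroup G), (∀ a ∈ A₂, s * a = a * s) → s ∈ σ.A) := by
  obtain ⟨i, hi, hk⟩ := invariant_pair σ.actHom.range
    (fun _ ⟨g, hg⟩ => hg ▸ σ.actHom_lin g) σ.D8_le_range σ.not_dvd_card_range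
  obtain ⟨p, hp⟩ : ∃ p, pairTab.getD i (0, 0) = p := ⟨_, rfl⟩
  rw [hp] at hk
  have hmem : p ∈ pairTab := by
    rw [← hp, List.getD_eq_getElem _ _ hi]
    exact List.getElem_mem hi
  have hb := List.all_eq_true.1 pairs_ok p hmem
  simp only [pairB, Bool.and_eq_true, List.all_eq_true, List.mem_filter, List.mem_range, Bool.or_eq_true,
    Bool.not_eq_true', Nat.beq_eq, List.any_eq_true] at hb
  obtain ⟨⟨⟨⟨⟨⟨a1, a2⟩, a3⟩, -⟩, a5⟩, ⟨⟨⟨⟨b1, b2⟩, b3⟩, -⟩, b5⟩⟩, hmeet⟩ := hb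
  have mov : ∀ {m : ℕ}, (∀ h < 8, h = 0 ∨ ∃ u, (u < 64 ∧ inM m u = true) ∧ Nat.beq (mAct h u) u = false) →
      ∀ h < 8, h ≠ 0 → ∃ u < 64, inM m u = true ∧ mAct h u ≠ u := fun H h hh h0 => by
    obtain ⟨u, ⟨hu, hm⟩, hne⟩ := (H h hh).resolve_left h0
    exact ⟨u, hu, hm, fun e => by rw [e, (Nat.beq_eq ▸ rfl : Nat.beq u u = true)] at hne; exact Bool.noConfusion hne⟩
  obtain ⟨P1, c1, n1, f1⟩ := σ.part_props p.1 a2 (fun u hu w hw h h' => a3 u ⟨hu, h⟩ w ⟨hw, h'⟩) a1 (mov a5)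
    fun g u hu => (hk _ ⟨g, rfl⟩ u hu).1
  obtain ⟨P2, c2, n2, f2⟩ := σ.part_props p.2 b2 (fun u hu w hw h h' => b3 u ⟨hu, h⟩ w ⟨hw, h'⟩) b1 (mov b5)
    fun g u hu => (hk _ ⟨g, rfl⟩ u hu).2
  set A₁ := σ.part p.1 a2 (fun u hu w hw h h' => a3 u ⟨hu, h⟩ w ⟨hw, h'⟩)
  set A₂ := σ.part p.2 b2 (fun u hu w hw h h' => b3 u ⟨hu, h⟩ w ⟨hw, h'⟩)
  have hdis : A₁ ⊓ A₂ = ⊥ := eq_bot_iff.2 fun g ⟨⟨ha, h1⟩, ⟨_, h2⟩⟩ => by
    have hz : σ.vec ⟨g, ha⟩ = 0 := (hmeet _ ⟨σ.vec_lt _, h1⟩).resolve_left (by rw [h2]; exact Bool.noConfusion)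
    exact mem_bot.2 (congrArg Subtype.val (σ.vec_inj (hz.trans σ.vec_one.symm)))
  refine ⟨A₁, A₂, P1, P2, hdis, eq_of_le_of_card_ge (sup_le P1 P2) ?_, c1, c2, n1, n2, f1, f2⟩
  refine le_of_eq_of_le (show Nat.card ↥σ.A = Nat.card (↥A₁ × ↥A₂) by rw [σ.card_A, Nat.card_prod, c1, c2])
    (Nat.card_le_card_of_injective (fun x => (⟨x.1 * x.2, mul_mem (mem_sup_left x.1.2) (mem_sup_right x.2.2)⟩ : ↥(A₁ ⊔ A₂)))
      fun x y e => Subgroup.mul_injective_of_disjoint (disjoint_iff.2 hdis) (congrArg Subtype.val e))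

end Setting

end CfsgLib.M24Quot
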