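import Cfsg.Agent.Lib.M24Quot.DecompModel

/-!
A group of linear permutations of the 64 vectors with the dihedral group of order 8 as Sylow 2-subgroup:
every centraliser of an involution of that group is a 2-group.
-/

set_option autoImplicit false
set_option maxRecDepth 100000
set_option linter.style.haveILetI false

namespace CfsgLib.M24Quot

open Subgroup

/-- The inverse in the dihedral group. -/
def hInv (h : ℕ) : ℕ := (List.range 8).findIdx fun k => Nat.beq (hMul h k) 0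

theorem model_facts : (∀ h < 8, hInv h < 8 ∧ ∀ v < 64, mAct (hInv h) (mAct h v) = v ∧ mAct h (mAct (hInv h) v) = v) ∧
    ∀ h < 8, ∀ k < 8, ∀ v < 64, mAct h (mAct k v) = mAct (hMul h k) v := by
  decide +kernel

/-- An element of the dihedral group as a permutation. -/
def hM (h : Fin 8) : Equiv.Perm (Fin 64) where
  toFun v := ⟨mAct h v, mAct_lt _ _⟩
  invFun v := ⟨mAct (hInv h) v, mAct_lt _ _⟩
  left_inv v := Fin.ext ((model_facts.1 h h.2).2 v v.2).1
  right_inv v := Fin.ext ((model_facts.1 h h.2).2 v v.2).2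

theorem hM_apply (h : Fin 8) (v : Fin 64) : (hM h v).1 = mAct h v := rfl

/-- The product of the dihedral group. -/
def hF (h k : Fin 8) : Fin 8 := ⟨hMul h k, hMul_lt _ _⟩

theorem hM_mul (h k : Fin 8) : hM h * hM k = hM (hF h k) :=
  Equiv.ext fun v => Fin.ext (model_facts.2 h h.2 k k.2 v v.2)

theorem hM_inj : ∀ h k : Fin 8, hM h = hM k → h = k := by
  have key : ∀ h k : Fin 8, (∀ i : Fin 6, mAct h (2 ^ (i : ℕ)) = mAct k (2 ^ (i : ℕ))) → h = k := by decide +kernel
  intro h k e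
  refine key h k fun i => ?_
  have hi : 2 ^ (i : ℕ) < 64 := (Nat.pow_lt_pow_right (by norm_num) i.2).trans_le (by norm_num)
  exact congrArg (fun σ : Equiv.Perm (Fin 64) => (σ ⟨_, hi⟩).1) e

theorem hM_zero : hM 0 = 1 := Equiv.ext fun v => Fin.ext (mAct_zero_left v v.2)

theorem hM_commute_iff (h k : Fin 8) : Commute (hM h) (hM k) ↔ hF h k = hF k h := by
  show hM h * hM k = hM k * hM h ↔ _
  rw [hM_mul, hM_mul]
  exact ⟨hM_inj _ _, fun e => by rw [e]⟩

/-- The dihedral group as permutations. -/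
def D8 : Subgroup (Equiv.Perm (Fin 64)) where
  carrier := {σ | ∃ h, hM h = σ}
  one_mem' := ⟨0, hM_zero⟩
  mul_mem' := by
    rintro _ _ ⟨h, rfl⟩ ⟨k, rfl⟩
    exact ⟨hF h k, (hM_mul h k).symm⟩
  inv_mem' := by
    rintro _ ⟨h, rfl⟩
    exact ⟨⟨hInv h, (model_facts.1 h h.2).1⟩, eq_inv_of_mul_eq_one_left (Equiv.ext fun v =>
      Fin.ext ((model_facts.1 h h.2).2 v v.2).1)⟩

theorem card_D8 : Nat.card D8 = 8 := by
  have e : (D8 : Set (Equiv.Perm (Fin 64))) = Set.range hM := rfl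
  rw [show Nat.card D8 = Nat.card ↥(D8 : Set (Equiv.Perm (Fin 64))) from rfl, Nat.card_coe_set_eq, e,
    Set.ncard_range_of_injective (fun h k => hM_inj h k)]
  simp

/-- The function of a permutation. -/
def natF (σ : Equiv.Perm (Fin 64)) (v : ℕ) : ℕ := if h : v < 64 then (σ ⟨v, h⟩).1 else v

theorem natF_apply (σ : Equiv.Perm (Fin 64)) (v : Fin 64) : (σ v).1 = natF σ v := by
  rw [natF, dif_pos v.2]

theorem natF_mul (σ τ : Equiv.Perm (Fin 64)) {v : ℕ} (hv : v < 64) : natF (σ * τ) v = natF σ (natF τ v) := by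
  rw [natF, dif_pos hv, Equiv.Perm.mul_apply, natF_apply, natF_apply]

theorem natF_one {v : ℕ} (hv : v < 64) : natF 1 v = v := by
  rw [natF, dif_pos hv, Equiv.Perm.one_apply]

theorem natF_hM (h : Fin 8) {v : ℕ} (hv : v < 64) : natF (hM h) v = mAct h v := by
  rw [natF, dif_pos hv, hM_apply]

theorem natF_lt (σ : Equiv.Perm (Fin 64)) {v : ℕ} (hv : v < 64) : natF σ v < 64 := by
  rw [natF, dif_pos hv]; exact Fin.isLt _

theorem natF_pow (σ : Equiv.Perm (Fin 64)) (n : ℕ) {v : ℕ} (hv : v < 64) : natF (σ ^ n) v = (natF σ)^[n] v := by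
  induction n generalizing v with
  | zero => rw [pow_zero, natF_one hv]; rfl
  | succ n ih => rw [pow_succ, natF_mul _ _ hv, ih (natF_lt σ hv), Function.iterate_succ_apply]

theorem natF_ext {σ τ : Equiv.Perm (Fin 64)} (h : ∀ v < 64, natF σ v = natF τ v) : σ = τ :=
  Equiv.ext fun v => Fin.ext (by rw [natF_apply, natF_apply]; exact h v v.2)

/-- Commuting with an element of the dihedral group, on vectors. -/
theorem natF_comm {x : Equiv.Perm (Fin 64)} {h : Fin 8} (hc : Commute x (hM h)) {v : ℕ} (hv : v < 64) :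
    natF x (mAct h v) = mAct h (natF x v) := by
  rw [← natF_hM h hv, ← natF_mul _ _ hv, hc.eq, natF_mul _ _ hv, natF_hM h (natF_lt x hv)]

theorem xor_cancel (a b : ℕ) : a ^^^ b ^^^ b = a := by rw [Nat.xor_assoc, Nat.xor_self, Nat.xor_zero]

theorem xor_eq_zero_iff' {a b : ℕ} : a ^^^ b = 0 ↔ a = b :=
  ⟨fun h => by rw [← xor_cancel a b, h, Nat.zero_xor], fun h => by rw [h, Nat.xor_self]⟩

/-! ### Elements trivial on the three layers of an involution -/

/-- The fixed vectors. -/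
def FixS (v : Fin 8) (u : ℕ) : Prop := u < 64 ∧ mAct v u = u

/-- The commutator vectors. -/
def ImgS (v : Fin 8) (u : ℕ) : Prop := ∃ w < 64, mAct v w ^^^ w = u

/-- Trivial on the three layers. -/
def Lay (v : Fin 8) (x : Equiv.Perm (Fin 64)) : Prop :=
  (∀ u < 64, FixS v (natF x u ^^^ u)) ∧ (∀ u, FixS v u → ImgS v (natF x u ^^^ u)) ∧
    ∀ u, ImgS v u → natF x u = u

/-- The check that an element is trivial on the layers of another. -/
def layB (v h : ℕ) : Bool :=
  (List.range 64).all (fun u => Nat.beq (mAct v (mAct h u ^^^ u)) (mAct h u ^^^ u)) &&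
    (List.range 64).all (fun u => !Nat.beq (mAct v u) u ||
      (List.range 64).any fun w => Nat.beq (mAct v w ^^^ w) (mAct h u ^^^ u)) &&
    (List.range 64).all fun w => Nat.beq (mAct h (mAct v w ^^^ w)) (mAct v w ^^^ w)

theorem lay_checks : (List.range 8).all (fun h => layB 1 h) = true ∧
    [1, 2, 3, 4, 5].all (fun v => layB v v && layB v 1) = true ∧
    [1, 2, 3, 4, 5].all (fun v => (List.range 64).all fun w => Nat.beq (mAct v (mAct v w ^^^ w)) (mAct v w ^^^ w)) = true := by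
  decide +kernel

theorem lay_of_check {v h : Fin 8} (hb : layB v h = true) : Lay v (hM h) := by
  simp only [layB, Bool.and_eq_true, List.all_eq_true, List.mem_range, Nat.beq_eq, Bool.or_eq_true,
    Bool.not_eq_true', List.any_eq_true] at hb
  obtain ⟨⟨b1, b2⟩, b3⟩ := hb
  refine ⟨fun u hu => ?_, fun u hu => ?_, ?_⟩
  · rw [natF_hM h hu]
    exact ⟨xor_lt (mAct_lt _ _) hu, b1 u hu⟩
  · rw [natF_hM h hu.1]
    rcases b2 u hu.1 with e | ⟨w, hw, e⟩
    · rw [← Bool.not_eq_true, Nat.beq_eq] at e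
      exact absurd hu.2 e
    · exact ⟨w, hw, e⟩
  · rintro u ⟨w, hw, rfl⟩
    rw [natF_hM h (xor_lt (mAct_lt _ _) hw)]
    exact b3 w hw

section

variable (X : Subgroup (Equiv.Perm (Fin 64))) (hlin : ∀ x ∈ X, LinF (natF x)) (hD : D8 ≤ X)
  (h16 : ¬ 16 ∣ Nat.card X)

include hlin

theorem lay_mul {v : Fin 8} {x y : Equiv.Perm (Fin 64)} (hx : x ∈ X) (hy : y ∈ X) (hcy : Commute y (hM v))
    (lx : Lay v x) (ly : Lay v y) : Lay v (x * y) := by
  have hd : ∀ u < 64, natF (x * y) u ^^^ u = (natF x (natF y u) ^^^ natF y u) ^^^ (natF y u ^^^ u) := fun u hu => by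
    rw [natF_mul _ _ hu, Nat.xor_assoc, ← Nat.xor_assoc (natF y u) (natF y u), Nat.xor_self, Nat.zero_xor]
  refine ⟨fun u hu => ?_, fun u hu => ?_, fun u hu => ?_⟩
  · obtain ⟨a1, a2⟩ := lx.1 (natF y u) (natF_lt y hu)
    obtain ⟨b1, b2⟩ := ly.1 u hu
    rw [hd u hu]
    exact ⟨xor_lt a1 b1, by rw [mAct_xor _ v.2 _ a1 _ b1, a2, b2]⟩
  · have hyu : FixS v (natF y u) := ⟨natF_lt y hu.1, by rw [← natF_comm hcy hu.1, hu.2]⟩
    obtain ⟨w, hw, e⟩ := lx.2.1 _ hyu
    obtain ⟨w', hw', e'⟩ := ly.2.1 u hu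
    refine ⟨w ^^^ w', xor_lt hw hw', ?_⟩
    rw [hd u hu.1, ← e, ← e', mAct_xor _ v.2 _ hw _ hw']
    ac_rfl
  · have hu' : u < 64 := by obtain ⟨w, hw, rfl⟩ := hu; exact xor_lt (mAct_lt _ _) hw
    rw [natF_mul _ _ hu', ly.2.2 u hu, lx.2.2 u hu]

theorem lay_pow_four {v : Fin 8} (hv : (v : ℕ) ∈ [1, 2, 3, 4, 5]) {x : Equiv.Perm (Fin 64)} (hx : x ∈ X)
    (lx : Lay v x) : x ^ 4 = 1 := by
  refine natF_ext fun u hu => ?_
  rw [natF_one hu, natF_pow _ _ hu]
  set f := natF x with hf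
  have hlin' : LinF f := hlin x hx
  let d : ℕ → ℕ := fun u => f u ^^^ u
  have d2 : ∀ u < 64, f (f u) ^^^ u = d (d u) := fun u hu => by
    show _ = f (f u ^^^ u) ^^^ (f u ^^^ u)
    rw [hlin'.2 _ (natF_lt x hu) _ hu]
    calc f (f u) ^^^ u = f (f u) ^^^ (f u ^^^ f u) ^^^ u := by rw [Nat.xor_self, Nat.xor_zero]
      _ = (f (f u) ^^^ f u) ^^^ (f u ^^^ u) := by ac_rfl
  have hdlt : ∀ u < 64, d u < 64 := fun u hu => xor_lt (natF_lt x hu) hu
  show f (f (f (f u))) = u
  rw [← xor_eq_zero_iff']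
  have hfu := natF_lt x hu
  have hffu := natF_lt x hfu
  have e1 := d2 u hu
  have e2 : f (f (f (f u))) ^^^ f (f u) = d (d (f (f u))) := d2 _ hffu
  have hI : ImgS v (d (d u)) := lx.2.1 _ (lx.1 u hu)
  have hddlin : d (d (f (f u))) = d (d u) ^^^ d (d (d (d u))) := by
    have hsum : f (f u) = u ^^^ d (d u) := by
      rw [← e1, Nat.xor_comm, xor_cancel]
    have hdl : ∀ a < 64, ∀ b < 64, d (a ^^^ b) = d a ^^^ d b := fun a ha b hb => by
      show f (a ^^^ b) ^^^ (a ^^^ b) = (f a ^^^ a) ^^^ (f b ^^^ b)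
      rw [hlin'.2 a ha b hb]; ac_rfl
    have hdd := hdlt _ (hdlt u hu)
    rw [hsum, hdl u hu _ hdd, hdl _ (hdlt u hu) _ (hdlt _ hdd)]
  have hzero : d (d (d u)) = 0 := by
    show f (d (d u)) ^^^ d (d u) = 0
    rw [show f (d (d u)) = d (d u) from lx.2.2 _ hI, Nat.xor_self]
  have hd0 : d 0 = 0 := by show f 0 ^^^ 0 = 0; rw [hlin'.zero, Nat.xor_self]
  rw [hzero, hd0, Nat.xor_zero, ← e2, ← e1] at hddlin
  calc f (f (f (f u))) ^^^ u = (f (f (f (f u))) ^^^ f (f u)) ^^^ (f (f u) ^^^ u) := by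
        conv_rhs => rw [show (f (f (f (f u))) ^^^ f (f u)) ^^^ (f (f u) ^^^ u) =
          f (f (f (f u))) ^^^ (f (f u) ^^^ f (f u)) ^^^ u by ac_rfl, Nat.xor_self, Nat.xor_zero]
    _ = 0 := by rw [hddlin, Nat.xor_self]

/-- The elements of the centraliser trivial on the layers. -/
def layGroup (v : Fin 8) (hv : (v : ℕ) ∈ [1, 2, 3, 4, 5]) : Subgroup (Equiv.Perm (Fin 64)) where
  carrier := {x | x ∈ X ∧ Commute x (hM v) ∧ Lay v x}
  one_mem' := ⟨one_mem X, Commute.one_left _, by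
    refine ⟨fun u hu => ?_, fun u hu => ?_, fun u hu => ?_⟩
    · rw [natF_one hu, Nat.xor_self]
      exact ⟨by norm_num, mAct_zero_right _ v.2⟩
    · rw [natF_one hu.1, Nat.xor_self]
      exact ⟨0, by norm_num, by rw [mAct_zero_right _ v.2, Nat.xor_self]⟩
    · obtain ⟨w, hw, rfl⟩ := hu
      exact natF_one (xor_lt (mAct_lt _ _) hw)⟩
  mul_mem' := fun {a b} ha hb => ⟨mul_mem ha.1 hb.1, ha.2.1.mul_left hb.2.1, lay_mul X hlin ha.1 hb.1 hb.2.1 ha.2.2 hb.2.2⟩
  inv_mem' := fun {a} ha => by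
    have h4 := lay_pow_four X hlin hv ha.1 ha.2.2
    have e : a⁻¹ = a * (a * a) := inv_eq_of_mul_eq_one_right (by rw [← h4]; simp [pow_succ, mul_assoc])
    rw [e]
    exact ⟨mul_mem ha.1 (mul_mem ha.1 ha.1), ha.2.1.mul_left (ha.2.1.mul_left ha.2.1),
      lay_mul X hlin ha.1 (mul_mem ha.1 ha.1) (ha.2.1.mul_left ha.2.1) ha.2.2
        (lay_mul X hlin ha.1 ha.1 ha.2.1 ha.2.2 ha.2.2)⟩

theorem layGroup_conj {v : Fin 8} (hv : (v : ℕ) ∈ [1, 2, 3, 4, 5]) {g x : Equiv.Perm (Fin 64)} (hg : g ∈ X)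
    (hgv : Commute g (hM v)) (hx : x ∈ layGroup X hlin v hv) : g * x * g⁻¹ ∈ layGroup X hlin v hv := by
  obtain ⟨hxX, hxv, l1, l2, l3⟩ := hx
  have hgi : Commute g⁻¹ (hM v) := hgv.inv_left
  have hl := hlin g hg
  have key : ∀ u < 64, natF (g * x * g⁻¹) u ^^^ u = natF g (natF x (natF g⁻¹ u) ^^^ natF g⁻¹ u) := fun u hu => by
    rw [hl.2 _ (natF_lt x (natF_lt _ hu)) _ (natF_lt _ hu), natF_mul _ _ hu, natF_mul _ _ (natF_lt _ hu),
      ← natF_mul g g⁻¹ hu, mul_inv_cancel, natF_one hu]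
  refine ⟨mul_mem (mul_mem hg hxX) (inv_mem hg), (hgv.mul_left hxv).mul_left hgi, fun u hu => ?_, fun u hu => ?_, ?_⟩
  · obtain ⟨a1, a2⟩ := l1 _ (natF_lt g⁻¹ hu)
    rw [key u hu]
    exact ⟨natF_lt g a1, by rw [← natF_comm hgv a1, a2]⟩
  · obtain ⟨w, hw, e⟩ := l2 (natF g⁻¹ u) ⟨natF_lt _ hu.1, by rw [← natF_comm hgi hu.1, hu.2]⟩
    refine ⟨natF g w, natF_lt g hw, ?_⟩
    rw [key u hu.1, ← e, hl.2 _ (mAct_lt _ _) _ hw, natF_comm hgv hw]
  · rintro u ⟨w, hw, rfl⟩
    have hu := xor_lt (mAct_lt (v : ℕ) w) hw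
    rw [← xor_eq_zero_iff', key _ hu]
    have hI : ImgS v (natF g⁻¹ (mAct v w ^^^ w)) := ⟨natF g⁻¹ w, natF_lt _ hw, by
      rw [(hlin g⁻¹ (inv_mem hg)).2 _ (mAct_lt _ _) _ hw, natF_comm hgi hw]⟩
    rw [l3 _ hI, Nat.xor_self, hl.zero]

include hD h16

theorem card_two_group {K : Subgroup (Equiv.Perm (Fin 64))} (hK : K ≤ X) (h : ∀ g ∈ K, g ^ 32 = 1) :
    Nat.card K ∣ 8 := by
  haveI : Fact (Nat.Prime 2) := ⟨Nat.prime_two⟩
  have hp : IsPGroup 2 K := fun g => ⟨5, Subtype.ext (h g.1 g.2)⟩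
  obtain ⟨n, hn⟩ := IsPGroup.iff_card.1 hp
  rcases Nat.lt_or_ge n 4 with h4 | h4
  · rw [hn]; exact Nat.pow_dvd_pow 2 (by omega : n ≤ 3)
  · exact absurd ((hn ▸ Nat.pow_dvd_pow 2 h4 : 2 ^ 4 ∣ Nat.card K).trans (card_dvd_of_le hK)) h16

theorem cent_order {g : Equiv.Perm (Fin 64)} (hg : g ∈ X) (hc : ∀ h, Commute g (hM h)) : g ^ 4 = 1 := by
  have hf := hlin g hg
  obtain ⟨xs, hxs, e⟩ := twist_options hf spec_D (fun h hh _ v hv => by
    have e1 : (List.range 8).getD h 8 = h := by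
      rw [List.getD_eq_getElem _ _ (by simpa using hh), List.getElem_range]
    rw [e1]
    exact natF_comm (hc ⟨h, hh⟩) hv)
  have hb := List.all_eq_true.1 cent_D xs hxs
  simp only [Bool.or_eq_true, List.all_eq_true, List.any_eq_true, List.mem_range, Nat.beq_eq] at hb
  rcases hb with hb | ⟨v, hv, hb⟩
  · have hbit : ∀ k < 6, bitV k < 64 := fun k hk =>
      (bit_expand 0 (by norm_num)).2 k (List.mem_range.2 hk)
    refine natF_ext fun v hv => LinF.ext (hlin _ (pow_mem hg 4)) (hlin _ (one_mem X)) (fun k hk => ?_) hv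
    have hk' := hbit k hk
    rw [natF_one hk', natF_pow _ _ hk']
    show natF g (natF g (natF g (natF g (bitV k)))) = _
    have h1 := natF_lt g hk'
    have h2 := natF_lt g h1
    rw [e _ (natF_lt g h2), e _ h2, e _ h1, e _ hk']
    exact hb k hk
  · exfalso
    have hv' : v + 1 < 64 := by omega
    rw [← e _ hv'] at hb
    have h1 := congrArg (natF g⁻¹) hb
    rw [← natF_mul _ _ hv', inv_mul_cancel, natF_one hv', (hlin g⁻¹ (inv_mem hg)).zero] at h1
    omega

theorem cent_one : X ⊓ centralizer {hM 1} = D8 := by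
  haveI : Fact (Nat.Prime 2) := ⟨Nat.prime_two⟩
  have h1mem : ((1 : Fin 8) : ℕ) ∈ [1, 2, 3, 4, 5] := by decide
  set K := layGroup X hlin 1 h1mem with hK
  have hDK : D8 ≤ K := by
    rintro _ ⟨h, rfl⟩
    refine ⟨hD ⟨h, rfl⟩, (hM_commute_iff h 1).2 ?_, lay_of_check ?_⟩
    · revert h; decide +kernel
    · exact List.all_eq_true.1 lay_checks.1 _ (List.mem_range.2 h.2)
  have hKD : K = D8 := by
    refine (eq_of_le_of_card_ge hDK ?_).symm
    rw [card_D8]
    refine Nat.le_of_dvd (by norm_num) (card_two_group X hlin hD h16 (fun g hg => hg.1) fun g hg => ?_)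
    rw [show 32 = 4 * 8 from rfl, pow_mul, lay_pow_four X hlin h1mem hg.1 hg.2.2, one_pow]
  -- the automorphisms of the dihedral group have order dividing eight
  let word : Fin 8 → Fin 8 → Fin 8 → Fin 8 := fun x y h =>
    hF (hF (if h.1.testBit 1 then y else 0) (if h.1.testBit 2 then x else 0))
      (if h.1.testBit 0 then hF (hF x y) (hF x y) else 0)
  have haut : ∀ x y : Fin 8,
      (∀ h, word x y h = 0 → h = 0) → (∀ h k, word x y (hF h k) = hF (word x y h) (word x y k)) →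
        ∀ h, (word x y)^[8] h = h := by decide +kernel
  have hword : ∀ h, word 4 2 h = h := by decide +kernel
  have hC32 : ∀ g ∈ X ⊓ centralizer {hM 1}, g ^ 32 = 1 := by
    rintro g ⟨hg, hg1⟩
    have hg1' : Commute g (hM 1) := mem_centralizer_singleton_iff.1 hg1
    have hnorm : ∀ h, ∃ k, hM k = g * hM h * g⁻¹ := fun h =>
      (hKD ▸ layGroup_conj X hlin h1mem hg hg1' (hDK ⟨h, rfl⟩) : g * hM h * g⁻¹ ∈ D8)
    choose a ha using hnorm
    have amul : ∀ h k, a (hF h k) = hF (a h) (a k) := fun h k => hM_inj _ _ (by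
      rw [ha, ← hM_mul, ← hM_mul, ha, ha]; group)
    have a0 : a 0 = 0 := hM_inj _ _ (by rw [ha, hM_zero, mul_one, mul_inv_cancel])
    have ainj : ∀ h, a h = 0 → h = 0 := fun h e => hM_inj _ _ (by
      have := ha h
      rw [e, hM_zero] at this
      rw [hM_zero]; exact (conj_eq_one_iff.1 this.symm))
    have aword : ∀ h, a h = word (a 4) (a 2) h := fun h => by
      conv_lhs => rw [← hword h]
      simp only [word]
      rw [amul, amul]
      congr 1
      · congr 1 <;> split <;> simp [a0]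
      · split <;> simp [a0, amul]
    have ea : a = word (a 4) (a 2) := funext aword
    have hiter := haut (a 4) (a 2) (fun h e => ainj h (by rw [aword]; exact e))
      (fun h k => by rw [← aword, ← aword, ← aword]; exact amul h k)
    rw [← ea] at hiter
    have hn : ∀ n h, g ^ n * hM h * (g ^ n)⁻¹ = hM (a^[n] h) := fun n h => by
      induction n generalizing h with
      | zero => simp
      | succ n ih =>
        rw [Function.iterate_succ_apply, ← ih (a h), ha, pow_succ]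
        group
    have h8 : ∀ h, Commute (g ^ 8) (hM h) := fun h => by
      have := hn 8 h
      rw [hiter] at this
      exact mul_inv_eq_iff_eq_mul.1 this
    rw [show 32 = 8 * 4 from rfl, pow_mul]
    exact cent_order X hlin hD h16 (pow_mem hg 8) h8
  refine (eq_of_le_of_card_ge (K := X ⊓ centralizer {hM 1}) (fun x hx => ?_) ?_).symm
  · exact ⟨hD hx, mem_centralizer_singleton_iff.2 (hDK hx).2.1⟩
  · rw [card_D8]
    exact Nat.le_of_dvd (by norm_num) (card_two_group X hlin hD h16 inf_le_left hC32)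

/-- The centraliser of every involution of the dihedral group is a 2-group. -/
theorem cent_two {v : Fin 8} (hv : (v : ℕ) ∈ [1, 2, 3, 4, 5]) {g : Equiv.Perm (Fin 64)} (hg : g ∈ X)
    (hgv : Commute g (hM v)) : g ^ 32 = 1 := by
  haveI : Fact (Nat.Prime 2) := ⟨Nat.prime_two⟩
  have hc1 := cent_one X hlin hD h16
  have hone : ∀ x ∈ X, Commute x (hM 1) → x ^ 16 = 1 := fun x hx hx1 => by
    obtain ⟨h, rfl⟩ : x ∈ D8 := hc1 ▸ ⟨hx, mem_centralizer_singleton_iff.2 hx1⟩
    have : (hM h) ^ 8 = 1 := by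
      have h' : hM h ∈ D8 := ⟨h, rfl⟩
      have := congrArg Subtype.val (pow_card_eq_one' (x := (⟨hM h, h'⟩ : D8)))
      rwa [card_D8] at this
    rw [show 16 = 8 * 2 from rfl, pow_mul, this, one_pow]
  by_cases hv1 : v = 1
  · subst hv1
    rw [show 32 = 16 * 2 from rfl, pow_mul, hone g hg hgv, one_pow]
  set K := layGroup X hlin v hv with hK
  have hlv := List.all_eq_true.1 lay_checks.2.1 _ hv
  rw [Bool.and_eq_true] at hlv
  have hcomm : Commute (hM 1) (hM v) :=
    (hM_commute_iff 1 v).2 ((by decide +kernel : ∀ h : Fin 8, hF 1 h = hF h 1) v)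
  have hvK : hM v ∈ K := ⟨hD ⟨v, rfl⟩, Commute.refl _, lay_of_check hlv.1⟩
  have h1K : hM 1 ∈ K := ⟨hD ⟨1, rfl⟩, hcomm, lay_of_check hlv.2⟩
  have hsq : ∀ h : Fin 8, (h : ℕ) ∈ [1, 2, 3, 4, 5] → hF h h = 0 ∧ h ≠ 0 := by decide +kernel
  have hord : ∀ h : Fin 8, (h : ℕ) ∈ [1, 2, 3, 4, 5] → hM h * hM h = 1 ∧ hM h ≠ 1 := fun h hh =>
    ⟨by rw [hM_mul, (hsq h hh).1, hM_zero], fun e => (hsq h hh).2 (hM_inj _ _ (e.trans hM_zero.symm))⟩
  have hK8 : Nat.card K ∣ 8 := card_two_group X hlin hD h16 (fun x hx => hx.1) fun x hx => by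
    rw [show 32 = 4 * 8 from rfl, pow_mul, lay_pow_four X hlin hv hx.1 hx.2.2, one_pow]
  by_cases h8 : Nat.card K = 8
  · -- a Sylow subgroup with `v` central
    have hK2 : IsPGroup 2 (K.subgroupOf X) :=
      IsPGroup.of_card (n := 3) (by
        have hKX : K ≤ X := fun _ hz => hz.1
        rw [Nat.card_congr (subgroupOfEquivOfLe hKX).toEquiv, h8]; rfl)
    have hD2 : IsPGroup 2 (D8.subgroupOf X) :=
      IsPGroup.of_card (n := 3) (by rw [Nat.card_congr (subgroupOfEquivOfLe hD).toEquiv, card_D8]; rfl)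
    obtain ⟨P, hP⟩ := hK2.exists_le_sylow
    obtain ⟨R, hR⟩ := hD2.exists_le_sylow
    obtain ⟨x, hx⟩ := MulAction.exists_smul_eq X P R
    have hR8 : (R : Subgroup X) = D8.subgroupOf X := by
      refine (eq_of_le_of_card_ge hR ?_).symm
      rw [Nat.card_congr (subgroupOfEquivOfLe hD).toEquiv, card_D8]
      obtain ⟨n, hn⟩ := IsPGroup.iff_card.1 R.isPGroup'
      rcases Nat.lt_or_ge n 4 with h4 | h4
      · rw [hn]; exact (Nat.pow_le_pow_right (by norm_num) (by omega : n ≤ 3)).trans le_rfl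
      · exact absurd ((hn ▸ Nat.pow_dvd_pow 2 h4 : 2 ^ 4 ∣ Nat.card R).trans R.1.card_subgroup_dvd_card) h16
    have hmem : ∀ y ∈ K, (x : Equiv.Perm (Fin 64)) * y * (x : Equiv.Perm (Fin 64))⁻¹ ∈ D8 := fun y hy => by
      have h1 : x * ⟨y, hy.1⟩ * x⁻¹ ∈ (R : Subgroup X) := by
        rw [← hx, Sylow.coe_subgroup_smul]
        exact ⟨_, hP (show (⟨y, hy.1⟩ : X) ∈ K.subgroupOf X from hy), rfl⟩
      rw [hR8] at h1
      exact h1
    obtain ⟨k, hk⟩ := hmem _ hvK
    set y := (x : Equiv.Perm (Fin 64)) with hy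
    have hcen : ∀ h, hF k h = hF h k := fun h => by
      have hKall : D8 ≤ K.map (MulAut.conj y).toMonoidHom := by
        refine (eq_of_le_of_card_ge (fun z hz => ?_) ?_).ge
        · obtain ⟨w, hw, rfl⟩ := hz; exact hmem w hw
        · rw [card_D8, card_map_of_injective (MulAut.conj y).injective, h8]
      obtain ⟨w, hw, ew⟩ := hKall ⟨h, rfl⟩
      refine (hM_commute_iff k h).1 ?_
      rw [hk, ← ew]
      show Commute (y * hM v * y⁻¹) (y * w * y⁻¹)
      exact (Commute.conj_iff y).2 hw.2.1.symm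
    have hk01 : ∀ k : Fin 8, (∀ h, hF k h = hF h k) → k = 0 ∨ k = 1 := by decide +kernel
    rcases hk01 k hcen with rfl | rfl
    · exfalso
      rw [hM_zero] at hk
      exact (hord v hv).2 (conj_eq_one_iff.1 hk.symm)
    · have h1 : Commute (y * g * y⁻¹) (hM 1) := hk ▸ (Commute.conj_iff y).2 hgv
      have := hone _ (mul_mem (mul_mem x.2 hg) (inv_mem x.2)) h1
      rw [conj_pow, conj_eq_one_iff] at this
      rw [show 32 = 16 * 2 from rfl, pow_mul, this, one_pow]
  · -- the four group is the whole kernel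
    have hK4 : ∀ y ∈ K, y = 1 ∨ y = hM 1 ∨ y = hM v ∨ y = hM 1 * hM v := by
      intro y hy
      let f : Fin 4 → K := ![1, ⟨_, h1K⟩, ⟨_, hvK⟩, ⟨_, mul_mem h1K hvK⟩]
      have hne1 : hM 1 ≠ hM v := fun e => hv1 (hM_inj _ _ e).symm
      have hinj : Function.Injective f := by
        obtain ⟨a1, a2⟩ := hord 1 (by decide)
        obtain ⟨b1, b2⟩ := hord v hv
        have hp : hM 1 * hM v ≠ 1 := fun e => hne1 ((eq_inv_of_mul_eq_one_left e).trans (inv_eq_of_mul_eq_one_right b1))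
        intro i j e
        have e' := congrArg Subtype.val e
        fin_cases i <;> fin_cases j <;> simp [f] at e' ⊢
        all_goals first
          | exact a2 e' | exact b2 e' | exact a2 e'.symm | exact b2 e'.symm | exact hne1 e' | exact hne1 e'.symm
          | exact hp e' | exact hp e'.symm
      have hge : 4 ≤ Nat.card K := by simpa using Nat.card_le_card_of_injective f hinj
      have h4 : Nat.card K = 4 := by
        rcases (show Nat.card K = 4 ∨ Nat.card K = 8 by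
          have := Nat.le_of_dvd (by norm_num) hK8
          interval_cases h : Nat.card K <;> simp_all) with h | h
        exacts [h, absurd h h8]
      have hsurj : Function.Surjective f := by
        haveI := Fintype.ofFinite K
        exact ((Fintype.bijective_iff_injective_and_card f).2 ⟨hinj, by
          rw [← Nat.card_eq_fintype_card (α := K), h4]; simp⟩).2
      obtain ⟨i, hi⟩ := hsurj ⟨y, hy⟩
      have hi' := congrArg Subtype.val hi
      fin_cases i <;> simp [f] at hi' <;> simp [← hi']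
    have hne : ∀ {y}, y * hM 1 * y⁻¹ = 1 → False := fun h => (hord 1 (by decide)).2 (conj_eq_one_iff.1 h)
    have hgv' : g * hM v * g⁻¹ = hM v := by rw [hgv.eq, mul_inv_cancel_right]
    have h2 : Commute (g ^ 2) (hM 1) := by
      refine mul_inv_eq_iff_eq_mul.1 ?_
      rw [show g ^ 2 * hM 1 * (g ^ 2)⁻¹ = g * (g * hM 1 * g⁻¹) * g⁻¹ by rw [pow_two]; group]
      rcases hK4 _ (layGroup_conj X hlin hv hg hgv h1K) with e | e | e | e
      · exact (hne e).elim
      · rw [e, e]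
      · exfalso
        exact hv1 (hM_inj _ _ ((MulAut.conj g).injective (show g * hM 1 * g⁻¹ = g * hM v * g⁻¹ by rw [e, hgv']))).symm
      · rw [e, show g * (hM 1 * hM v) * g⁻¹ = (g * hM 1 * g⁻¹) * (g * hM v * g⁻¹) by group, e, hgv', mul_assoc,
          (hord v hv).1, mul_one]
    rw [show 32 = 2 * 16 from rfl, pow_mul]
    exact hone _ (pow_mem hg 2) h2

end

end CfsgLib.M24Quot
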