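import Cfsg.Agent.Lib.M24Quot.DecompModel

/-!
The elements of order three inverted by an outer involution are all listed: first four group.
-/

set_option autoImplicit false
set_option maxRecDepth 100000

namespace CfsgLib.M24Quot

theorem listed_one0 : listedPartB relOne exprOne 4 candOne 0 = true := by decide +kernel

theorem listed_one1 : listedPartB relOne exprOne 4 candOne 1 = true := by decide +kernel

theorem listed_one2 : listedPartB relOne exprOne 4 candOne 2 = true := by decide +kernel

theorem listed_one3 : listedPartB relOne exprOne 4 candOne 3 = true := by decide +kernel

theorem listed_one : ∀ xs ∈ stageOpts relOne [], okXsB exprOne 4 candOne xs = true :=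
  listed_of_parts listed_one0 listed_one1 listed_one2 listed_one3

end CfsgLib.M24Quot
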