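import Cfsg.Agent.Lib.M24Quot.DecompModel

/-!
The elements of order three inverted by an outer involution are all listed: second four group.
-/

set_option autoImplicit false
set_option maxRecDepth 100000

namespace CfsgLib.M24Quot

theorem listed_two0 : listedPartB relTwo exprTwo 2 candTwo 0 = true := by decide +kernel

theorem listed_two1 : listedPartB relTwo exprTwo 2 candTwo 1 = true := by decide +kernel

theorem listed_two2 : listedPartB relTwo exprTwo 2 candTwo 2 = true := by decide +kernel

theorem listed_two3 : listedPartB relTwo exprTwo 2 candTwo 3 = true := by decide +kernel

theorem listed_two : ∀ xs ∈ stageOpts relTwo [], okXsB exprTwo 2 candTwo xs = true :=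
  listed_of_parts listed_two0 listed_two1 listed_two2 listed_two3

end CfsgLib.M24Quot
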