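import Cfsg.Agent.Lib.M24Quot.DecompPair

/-!
The pair of invariant subspaces, by the classification of groups with an involution centraliser of order 8.
-/

set_option autoImplicit false
set_option maxRecDepth 100000
set_option linter.style.haveILetI false

namespace CfsgLib.M24Quot

open Subgroup Cfsg

theorem first_facts : (hF 1 2 = 3 ∧ hF 2 1 = 3 ∧ hF 4 2 = hF 3 4 ∧ hF 4 1 = hF 1 4 ∧ hF 4 4 = 0) ∧
    ((2 : Fin 8) ≠ 0 ∧ (3 : Fin 8) ≠ 0 ∧ (2 : Fin 8) ≠ 1 ∧ (3 : Fin 8) ≠ 1 ∧ (2 : Fin 8) ≠ 3 ∧ (4 : Fin 8) ≠ 0) ∧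
    (∀ h, hF h 2 = hF 2 h → h = 0 ∨ h = 1 ∨ h = 2 ∨ h = 3) ∧
    (∀ h, hF h 3 = hF 3 h → h = 0 ∨ h = 1 ∨ h = 2 ∨ h = 3) ∧
    ((4 : Fin 8) ≠ 1 ∧ (4 : Fin 8) ≠ 2 ∧ (4 : Fin 8) ≠ 3) ∧
    (hF 2 2 = 0 ∧ (2 : Fin 8) ≠ 0 ∧ (2 : Fin 8) ≠ 1 ∧ hF 1 2 = hF 2 1) ∧
    ∀ h : Fin 8, phiOne.getD h 8 < 8 → h = 0 ∧ phiOne.getD h 8 = 0 ∨ h = 1 ∧ phiOne.getD h 8 = 2 ∨
      h = 2 ∧ phiOne.getD h 8 = 3 ∨ h = 3 ∧ phiOne.getD h 8 = 1 := by
  decide +kernel

theorem second_facts : (hF 1 4 = 5 ∧ hF 4 1 = 5 ∧ hF 2 4 = hF 5 2 ∧ hF 2 1 = hF 1 2 ∧ hF 2 2 = 0) ∧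
    ((4 : Fin 8) ≠ 0 ∧ (5 : Fin 8) ≠ 0 ∧ (4 : Fin 8) ≠ 1 ∧ (5 : Fin 8) ≠ 1 ∧ (4 : Fin 8) ≠ 5 ∧ (2 : Fin 8) ≠ 0) ∧
    (∀ h, hF h 4 = hF 4 h → h = 0 ∨ h = 1 ∨ h = 4 ∨ h = 5) ∧
    (∀ h, hF h 5 = hF 5 h → h = 0 ∨ h = 1 ∨ h = 4 ∨ h = 5) ∧
    ((2 : Fin 8) ≠ 1 ∧ (2 : Fin 8) ≠ 4 ∧ (2 : Fin 8) ≠ 5) ∧
    (hF 4 4 = 0 ∧ (4 : Fin 8) ≠ 0 ∧ (4 : Fin 8) ≠ 1 ∧ hF 1 4 = hF 4 1) ∧
    ∀ h : Fin 8, phiTwo.getD h 8 < 8 → h = 0 ∧ phiTwo.getD h 8 = 0 ∨ h = 1 ∧ phiTwo.getD h 8 = 4 ∨
      h = 4 ∧ phiTwo.getD h 8 = 5 ∨ h = 5 ∧ phiTwo.getD h 8 = 1 := by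
  decide +kernel

set_option synthInstance.maxSize 2000 in
set_option synthInstance.maxHeartbeats 100000 in
/-- The elements inside a subgroup of index 2 of the dihedral group. -/
theorem four_masks : ∀ b : Fin 8 → Bool, b 0 = true → (∀ h k, b h = true → b k = true → b (hF h k) = true) →
    (Finset.univ.filter fun h => b h = true).card = 4 →
      (∀ h, b h = true ↔ h = 0 ∨ h = 1 ∨ h = 2 ∨ h = 3) ∨ (∀ h, b h = true ↔ h = 0 ∨ h = 1 ∨ h = 4 ∨ h = 5) ∨
        (∀ h, b h = true ↔ h = 0 ∨ h = 1 ∨ h = 6 ∨ h = 7) := by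
  decide +kernel

/-- The model of the dihedral group. -/
def dihF : DihedralGroup 4 → Fin 8
  | .r i => ![0, 6, 1, 7] i
  | .sr i => hF 4 (![0, 6, 1, 7] i)

theorem dihF_ok : (∀ x y : DihedralGroup 4, dihF (x * y) = hF (dihF x) (dihF y)) ∧ Function.Injective dihF := by
  refine ⟨?_, ?_⟩ <;> decide +kernel

section

variable (X : Subgroup (Equiv.Perm (Fin 64))) (hlin : ∀ x ∈ X, LinF (natF x)) (hD : D8 ≤ X)
  (h16 : ¬ 16 ∣ Nat.card X)

include hlin hD h16

/-- A commuting element of odd order is trivial. -/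
theorem odd_trivial {v : Fin 8} (hv : (v : ℕ) ∈ [1, 2, 3, 4, 5]) {g : Equiv.Perm (Fin 64)} (hg : g ∈ X)
    (hgv : Commute g (hM v)) (hodd : Odd (orderOf g)) : g = 1 := by
  have h := orderOf_dvd_of_pow_eq_one (cent_two X hlin hD h16 hv hg hgv)
  obtain ⟨i, -, hi⟩ := (Nat.dvd_prime_pow Nat.prime_two).1 (show orderOf g ∣ 2 ^ 5 from h)
  rcases i with _ | i
  · exact orderOf_eq_one_iff.1 (by simpa using hi)
  · rw [hi, Nat.odd_iff, pow_succ', Nat.mul_mod_right] at hodd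
    exact absurd hodd (by norm_num)

/-- No element of order three commutes with an involution. -/
theorem no_six {u w : Equiv.Perm (Fin 64)} (hu : u ∈ X) (hu2 : orderOf u = 2) (hw : w ∈ X) (hw3 : orderOf w = 3)
    (hc : Commute w u) : False := by
  haveI : Fact (Nat.Prime 2) := ⟨Nat.prime_two⟩
  obtain ⟨P, hP⟩ := (IsPGroup.of_card (p := 2) (n := 1) (G := zpowers (⟨u, hu⟩ : X))
    (by rw [Nat.card_zpowers, orderOf_mk, hu2]; rfl)).exists_le_sylow
  have hD2 : IsPGroup 2 (D8.subgroupOf X) :=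
    IsPGroup.of_card (n := 3) (by rw [Nat.card_congr (subgroupOfEquivOfLe hD).toEquiv, card_D8]; rfl)
  obtain ⟨R, hR⟩ := hD2.exists_le_sylow
  have hR8 : (R : Subgroup X) = D8.subgroupOf X := by
    refine (eq_of_le_of_card_ge hR ?_).symm
    rw [Nat.card_congr (subgroupOfEquivOfLe hD).toEquiv, card_D8]
    obtain ⟨n, hn⟩ := IsPGroup.iff_card.1 R.isPGroup'
    rcases Nat.lt_or_ge n 4 with h4 | h4
    · rw [hn]; exact (Nat.pow_le_pow_right (by norm_num) (by omega : n ≤ 3)).trans le_rfl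
    · exact absurd ((hn ▸ Nat.pow_dvd_pow 2 h4 : 2 ^ 4 ∣ Nat.card R).trans R.1.card_subgroup_dvd_card) h16
  obtain ⟨x, hx⟩ := MulAction.exists_smul_eq X P R
  have h1 : x * ⟨u, hu⟩ * x⁻¹ ∈ (R : Subgroup X) := by
    rw [← hx, Sylow.coe_subgroup_smul]
    exact ⟨_, hP (mem_zpowers _), rfl⟩
  rw [hR8] at h1
  obtain ⟨h, hh⟩ := h1
  set y := (x : Equiv.Perm (Fin 64)) with hy
  have hu2' : u * u = 1 := by rw [← pow_two, ← hu2, pow_orderOf_eq_one]
  have hh' : hM h = y * u * y⁻¹ := hh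
  have hh2 : hF h h = 0 := hM_inj _ _ (by
    rw [← hM_mul, hh', show y * u * y⁻¹ * (y * u * y⁻¹) = y * (u * u) * y⁻¹ by group, hu2', hM_zero]; group)
  have hh0 : h ≠ 0 := fun e => by
    rw [e, hM_zero] at hh'
    rw [conj_eq_one_iff.1 hh'.symm, orderOf_one] at hu2
    omega
  have hv : (h : ℕ) ∈ [1, 2, 3, 4, 5] :=
    (by decide +kernel : ∀ h : Fin 8, hF h h = 0 → h ≠ 0 → (h : ℕ) ∈ [1, 2, 3, 4, 5]) h hh2 hh0
  have h3 : orderOf (y * w * y⁻¹) = 3 := (MulEquiv.orderOf_eq (MulAut.conj y) w).trans hw3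
  have := odd_trivial X hlin hD h16 hv (mul_mem (mul_mem x.2 hw) (inv_mem x.2))
    (hh' ▸ (Commute.conj_iff y).2 hc) (by rw [h3]; decide)
  rw [this, orderOf_one] at h3
  omega

omit hlin hD h16 in
/-- The dihedral group keeps every listed pair. -/
theorem keeps_D8 : ∀ i < pairTab.length, ∀ x ∈ D8, Keeps x (pairTab.getD i (0, 0)) := by
  rintro i hi _ ⟨h, rfl⟩ u hu
  have hk := List.all_eq_true.1 keeps_D _ (List.getD_eq_getElem (l := pairTab) (d := (0, 0)) hi ▸ List.getElem_mem hi)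
  simp only [keepD, List.all_eq_true, List.mem_range, Bool.and_eq_true, Bool.or_eq_true, Bool.not_eq_true'] at hk
  obtain ⟨k1, k2⟩ := hk h h.2 u hu
  rw [natF_hM h hu]
  exact ⟨fun e => k1.resolve_left (by rw [e]; exact Bool.noConfusion),
    fun e => k2.resolve_left (by rw [e]; exact Bool.noConfusion)⟩

omit hlin hD h16 in
theorem not_mem_D8 {t u s : Fin 8} {g : Equiv.Perm (Fin 64)} (hg : ThreeElt X t u s g) (ht : t ≠ 1) :
    g ∉ D8 := by
  rintro ⟨h, rfl⟩
  refine ht (hM_inj _ _ ?_)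
  rw [← hg.ct, ((hM_commute_iff h 1).2 ((by decide +kernel : ∀ h : Fin 8, hF h 1 = hF 1 h) h)).eq,
    mul_inv_cancel_right]

omit hD h16 in
theorem list_one {g : Equiv.Perm (Fin 64)} (hg : ThreeElt X 2 3 4 g) :
    ∃ c ∈ candOne, ∀ i ∈ c.2, i < pairTab.length ∧ Keeps g (pairTab.getD i (0, 0)) :=
  listed_of_elt hlin hg spec_one listed_one cands_ok.1 cands_lin.1 first_facts.1.2.2.2.2 first_facts.2.2.2.2.2.2

omit hD h16 in
theorem list_two {g : Equiv.Perm (Fin 64)} (hg : ThreeElt X 4 5 2 g) :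
    ∃ c ∈ candTwo, ∀ i ∈ c.2, i < pairTab.length ∧ Keeps g (pairTab.getD i (0, 0)) :=
  listed_of_elt hlin hg spec_two listed_two cands_ok.2 cands_lin.2 second_facts.1.2.2.2.2 second_facts.2.2.2.2.2.2

omit hlin hD h16 in
theorem cand_nonempty {cs : List (ℕ × List ℕ)} (h : cs.all candB = true) {c : ℕ × List ℕ} (hc : c ∈ cs) :
    ∃ i, i ∈ c.2 := by
  have := List.all_eq_true.1 h c hc
  simp only [candB, Bool.and_eq_true, Bool.not_eq_true', List.isEmpty_eq_false_iff_exists_mem] at this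
  exact this.1

/-- The central involution inside `X`. -/
def zC : X := ⟨hM 1, hD ⟨1, rfl⟩⟩

theorem mem_centralizer_zC (x : X) :
    x ∈ centralizer ({zC X hD} : Set X) ↔ (x : Equiv.Perm (Fin 64)) ∈ D8 := by
  have hc1 := cent_one X hlin hD h16
  rw [← hc1, mem_centralizer_singleton_iff, Subgroup.mem_inf, mem_centralizer_singleton_iff]
  exact ⟨fun h => ⟨x.2, congrArg Subtype.val h⟩, fun h => Subtype.ext h.2⟩

theorem centralizer_zC_equiv : Nonempty (centralizer ({zC X hD} : Set X) ≃* DihedralGroup 4) := by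
  classical
  have hcent := mem_centralizer_zC X hlin hD h16
  let toC : DihedralGroup 4 →* centralizer ({zC X hD} : Set X) :=
    MonoidHom.mk' (fun x => ⟨⟨hM (dihF x), hD ⟨_, rfl⟩⟩, (hcent _).2 ⟨_, rfl⟩⟩) fun x y =>
      Subtype.ext (Subtype.ext (by
        show hM (dihF (x * y)) = hM (dihF x) * hM (dihF y)
        rw [hM_mul, dihF_ok.1]))
  have htoC : Function.Bijective toC := by
    have hinj : Function.Injective toC := fun x y e =>
      dihF_ok.2 (hM_inj _ _ (congrArg (fun w : centralizer ({zC X hD} : Set X) => ((w : X) : Equiv.Perm (Fin 64))) e))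
    haveI := Fintype.ofFinite (centralizer ({zC X hD} : Set X))
    refine (Fintype.bijective_iff_injective_and_card _).2 ⟨hinj, ?_⟩
    rw [← Nat.card_eq_fintype_card, ← Nat.card_eq_fintype_card, DihedralGroup.nat_card]
    refine card_D8.symm.trans ?_
    exact Nat.card_congr
      { toFun := fun h => ⟨⟨h.1, hD h.2⟩, (hcent _).2 h.2⟩
        invFun := fun x => ⟨x.1.1, (hcent x.1).1 x.2⟩
        left_inv := fun _ => rfl
        right_inv := fun _ => rfl }
  exact ⟨(MulEquiv.ofBijective toC htoC).symm⟩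

omit hlin h16 in
theorem orderOf_zC : orderOf (zC X hD) = 2 := by
  rw [orderOf_eq_prime_iff]
  refine ⟨Subtype.ext ?_, fun e => ?_⟩
  · show (hM 1) ^ 2 = 1
    rw [pow_two, hM_mul, show hF 1 1 = 0 by decide +kernel, hM_zero]
  · have : hM 1 = hM 0 := (congrArg Subtype.val e).trans hM_zero.symm
    exact absurd (hM_inj _ _ this) (by decide)

/-- The two simple cases. -/
theorem simple_case (hconj : ∀ u : X, orderOf u = 2 → IsConj (zC X hD) u) (hs : IsSimpleGroup X)
    (hcard : Nat.card X = 168 ∨ Nat.card X = 360) : ∃ i < pairTab.length, ∀ x ∈ X, Keeps x (pairTab.getD i (0, 0)) := by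
  classical
  have hc1 := cent_one X hlin hD h16
  obtain ⟨hfV, hfne, hfct, hfcu, hfs, hft, -⟩ := first_facts
  obtain ⟨hgV, hgne, hgct, hgcu, hgs, hgt, -⟩ := second_facts
  have mover : ∀ {t u : Fin 8}, hF 1 t = u → (hF t t = 0 ∧ t ≠ 0 ∧ t ≠ 1 ∧ hF 1 t = hF t 1) →
      ∃ n ∈ X, n * hM 1 * n⁻¹ = hM u ∧ n * hM t * n⁻¹ = hM t ∧ n * hM u * n⁻¹ = hM 1 := by
    intro t u h1 ht
    have hto : orderOf (⟨hM t, hD ⟨t, rfl⟩⟩ : X) = 2 := by
      rw [orderOf_mk, orderOf_eq_prime_iff]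
      exact ⟨by rw [pow_two, hM_mul, ht.1, hM_zero], fun e => ht.2.1 (hM_inj _ _ (e.trans hM_zero.symm))⟩
    obtain ⟨x, hx⟩ := isConj_iff.1 (hconj _ hto)
    exact exists_mover_of_conj hc1 hD h1 ht x.2 (congrArg Subtype.val hx)
  have get : ∀ {t u s : Fin 8}, (hF 1 t = u ∧ hF t 1 = u ∧ hF s t = hF u s ∧ hF s 1 = hF 1 s ∧ hF s s = 0) →
      (t ≠ 0 ∧ u ≠ 0 ∧ t ≠ 1 ∧ u ≠ 1 ∧ t ≠ u ∧ s ≠ 0) →
      (∀ h, hF h t = hF t h → h = 0 ∨ h = 1 ∨ h = t ∨ h = u) →
      (∀ h, hF h u = hF u h → h = 0 ∨ h = 1 ∨ h = t ∨ h = u) → (s ≠ 1 ∧ s ≠ t ∧ s ≠ u) →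
      (hF t t = 0 ∧ t ≠ 0 ∧ t ≠ 1 ∧ hF 1 t = hF t 1) → ∃ g, ThreeElt X t u s g := by
    intro t u s hV hne hct hcu hsV ht
    obtain ⟨n, hn, n1, n2, n3⟩ := mover hV.1 ht
    refine exists_three hc1 hD hV hne hct hcu hsV hn (fun h hh => ?_) fun e => hne.2.2.2.1 ?_
    · rcases hh with e | e | e <;> rw [e]
      exacts [⟨u, Or.inr (Or.inr rfl), n1⟩, ⟨t, Or.inr (Or.inl rfl), n2⟩, ⟨1, Or.inl rfl, n3⟩]
    · exact (hM_inj _ _ (e.symm.trans n1)).symm
  obtain ⟨g, hg⟩ := get hfV hfne hfct hfcu hfs hft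
  obtain ⟨g', hg'⟩ := get hgV hgne hgct hgcu hgs hgt
  obtain ⟨c, hcm, hci⟩ := list_one X hlin hg
  obtain ⟨c', hcm', hci'⟩ := list_two X hlin hg'
  have hmeet := List.all_eq_true.1 (List.all_eq_true.1 cands_meet c hcm) c' hcm'
  simp only [List.any_eq_true, List.contains_iff_mem] at hmeet
  obtain ⟨i, hi, hi'⟩ := hmeet
  obtain ⟨hil, hik⟩ := hci i hi
  obtain ⟨-, hik'⟩ := hci' i hi'
  refine ⟨i, hil, ?_⟩
  set H : Subgroup (Equiv.Perm (Fin 64)) := closure ((D8 : Set (Equiv.Perm (Fin 64))) ∪ {g, g'}) with hH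
  have hHX : H ≤ X := (closure_le _).2 (Set.union_subset hD (Set.insert_subset hg.mem (Set.singleton_subset_iff.2 hg'.mem)))
  have hkeep : ∀ x ∈ H, Keeps x (pairTab.getD i (0, 0)) := fun x hx => keeps_closure (fun σ hσ => by
    rcases hσ with h | rfl | rfl
    exacts [keeps_D8 i hil σ h, hik, hik']) hx
  suffices hHeq : H = X from fun x hx => hkeep x (hHeq.symm ▸ hx)
  have hDH : D8 ≤ H := fun x hx => subset_closure (Or.inl hx)
  have hgH : g ∈ H := subset_closure (Or.inr (Or.inl rfl))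
  have hg'H : g' ∈ H := subset_closure (Or.inr (Or.inr rfl))
  have h8 : 8 ∣ Nat.card H := card_D8 ▸ card_dvd_of_le hDH
  have h3 : 3 ∣ Nat.card H := by
    have ho : orderOf g = 3 := orderOf_eq_prime hg.cube fun e => not_mem_D8 X hg hfne.2.2.1 (e ▸ one_mem _)
    rw [← ho]
    exact Subgroup.orderOf_dvd_natCard H hgH
  have h24 : 24 ∣ Nat.card H := Nat.Coprime.mul_dvd_of_dvd_of_dvd (by norm_num : Nat.Coprime 8 3) h8 h3
  set K := H.subgroupOf X with hK
  have hKc : Nat.card K = Nat.card H := Nat.card_congr (subgroupOfEquivOfLe hHX).toEquiv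
  have hmul : Nat.card H * K.index = Nat.card X := hKc ▸ K.card_mul_index
  by_contra hne
  have hidx1 : K.index ≠ 1 := fun e => hne (le_antisymm hHX (subgroupOf_eq_top.1 (index_eq_one.1 e)))
  by_cases hsmall : K.index ≤ 5
  · haveI := Fintype.ofFinite (X ⧸ K)
    have hcore : K.normalCore = ⊥ := by
      rcases hs.eq_bot_or_eq_top_of_normal K.normalCore inferInstance with h | h
      · exact h
      · exact absurd (index_eq_one.2 (top_le_iff.1 (h ▸ K.normalCore_le))) hidx1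
    have hinj : Function.Injective (MulAction.toPermHom X (X ⧸ K)) := by
      rw [← MonoidHom.ker_eq_bot_iff, ← normalCore_eq_ker, hcore]
    have hd := card_dvd_of_injective _ hinj
    rw [Nat.card_perm, show Nat.card (X ⧸ K) = K.index from (index_eq_card K).symm] at hd
    have hle := Nat.le_of_dvd (Nat.factorial_pos _) hd
    have : Nat.factorial K.index ≤ 120 := (Nat.factorial_le hsmall).trans (by decide)
    rcases hcard with e | e <;> omega
  · obtain ⟨k, hk⟩ := h24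
    -- the only possibility is order 24
    have hH24 : Nat.card H = 24 := by
      rcases hcard with e | e <;> rw [e, hk] at hmul
      · have : k * K.index = 7 := by linarith
        have : k ≤ 1 := by nlinarith
        interval_cases k <;> omega
      · have : k * K.index = 15 := by linarith
        have : k ≤ 2 := by nlinarith
        interval_cases k <;> omega
    set H1 : Subgroup (Equiv.Perm (Fin 64)) := closure ((D8 : Set (Equiv.Perm (Fin 64))) ∪ {g}) with hH1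
    have hle : H1 ≤ H := (closure_le _).2 (Set.union_subset hDH (Set.singleton_subset_iff.2 hgH))
    have h1c : 24 ∣ Nat.card H1 := by
      refine Nat.Coprime.mul_dvd_of_dvd_of_dvd (by norm_num : Nat.Coprime 8 3)
        (card_D8 ▸ card_dvd_of_le fun x hx => subset_closure (Or.inl hx)) ?_
      rw [← orderOf_eq_prime hg.cube fun e => not_mem_D8 X hg hfne.2.2.1 (e ▸ one_mem _)]
      exact Subgroup.orderOf_dvd_natCard H1 (subset_closure (Or.inr rfl))
    have heq : H1 = H := eq_of_le_of_card_ge hle (hH24 ▸ Nat.le_of_dvd Nat.card_pos h1c)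
    -- every element of `H1` permutes the first four group
    have hperm : ∀ x ∈ H1, ∀ h : Fin 8, (h : ℕ) < 4 → ∃ k : Fin 8, (k : ℕ) < 4 ∧ x * hM h * x⁻¹ = hM k := by
      intro x hx
      have hinv : ∀ y : Equiv.Perm (Fin 64), (∀ h : Fin 8, (h : ℕ) < 4 → ∃ k : Fin 8, (k : ℕ) < 4 ∧ y * hM h * y⁻¹ = hM k) →
          ∀ m : ℕ, ∀ h : Fin 8, (h : ℕ) < 4 → ∃ k : Fin 8, (k : ℕ) < 4 ∧ y ^ m * hM h * (y ^ m)⁻¹ = hM k := by
        intro y hy m
        induction m with
        | zero => exact fun h hh => ⟨h, hh, by simp⟩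
        | succ m ih =>
          intro h hh
          obtain ⟨k, hk, ek⟩ := hy h hh
          obtain ⟨l, hl, el⟩ := ih k hk
          exact ⟨l, hl, by rw [← el, ← ek, pow_succ]; group⟩
      induction hx using closure_induction with
      | mem y hy =>
        intro h hh
        rcases hy with ⟨d, rfl⟩ | rfl
        · obtain ⟨k, hk, ek⟩ := (by decide +kernel : ∀ d h : Fin 8, (h : ℕ) < 4 → ∃ k : Fin 8, (k : ℕ) < 4 ∧ hF d h = hF k d) d h hh
          exact ⟨k, hk, by rw [hM_mul, ek, ← hM_mul, mul_inv_cancel_right]⟩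
        · rcases (by decide +kernel : ∀ h : Fin 8, (h : ℕ) < 4 → h = 0 ∨ h = 1 ∨ h = 2 ∨ h = 3) h hh with rfl | rfl | rfl | rfl
          exacts [⟨0, by decide, by rw [hM_zero]; group⟩, ⟨2, by decide, hg.ct⟩, ⟨3, by decide, hg.tu⟩,
            ⟨1, by decide, hg.uc⟩]
      | one => exact fun h hh => ⟨h, hh, by simp⟩
      | mul a b _ _ ha hb =>
        intro h hh
        obtain ⟨k, hk, ek⟩ := hb h hh
        obtain ⟨l, hl, el⟩ := ha k hk
        exact ⟨l, hl, by rw [← el, ← ek]; group⟩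
      | inv a _ ha =>
        intro h hh
        rw [show a⁻¹ = a ^ (orderOf a - 1) from inv_eq_of_mul_eq_one_right (by
          rw [← pow_succ', Nat.sub_add_cancel (orderOf_pos a), pow_orderOf_eq_one])]
        exact hinv a ha _ h hh
    obtain ⟨k, hk, ek⟩ := hperm g' (heq.symm ▸ hg'H) 1 (by decide)
    rw [hg'.ct] at ek
    rw [← hM_inj _ _ ek] at hk
    exact absurd hk (by decide)

/-- No odd core: the group is dihedral. -/
theorem core_case (h : centralizer ({zC X hD} : Set X) ⊔ oddCore X = ⊤) : ∀ x ∈ X, x ∈ D8 := by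
  intro x hx
  have hcent := mem_centralizer_zC X hlin hD h16
  have hO : oddCore X = ⊥ := by
    rw [eq_bot_iff]
    intro w hw
    rw [mem_bot]
    have hodd := CfsgLib.Cores.odd_card_oddCore (G := X)
    have hwo : ∀ y ∈ oddCore X, Odd (orderOf (y : Equiv.Perm (Fin 64))) := fun y hy => by
      rw [Subgroup.orderOf_coe]
      exact Odd.of_dvd_nat hodd (Subgroup.orderOf_dvd_natCard _ hy)
    -- each involution of the four group inverts
    have inv : ∀ v : Fin 8, (v : ℕ) ∈ [1, 2, 3, 4, 5] → hF v v = 0 → ∀ y ∈ oddCore X,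
        hM v * (y : Equiv.Perm (Fin 64)) * hM v = (y : Equiv.Perm (Fin 64))⁻¹ := by
      intro v hv hv2 y hy
      let vX : X := ⟨hM v, hD ⟨v, rfl⟩⟩
      have hv2' : vX * vX = 1 := Subtype.ext (by show hM v * hM v = 1; rw [hM_mul, hv2, hM_zero])
      have hvi : vX⁻¹ = vX := inv_eq_of_mul_eq_one_right hv2'
      let θ : oddCore X →* oddCore X := MonoidHom.mk'
        (fun a => ⟨vX * a * vX⁻¹, (pPrimeCore_normal 2 X).conj_mem _ a.2 vX⟩) fun a b =>
          Subtype.ext (by simp [mul_assoc])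
      have hfp : MonoidHom.FixedPointFree θ := fun a ha => by
        have h1 : Commute ((a : X) : Equiv.Perm (Fin 64)) (hM v) := by
          have h2 : vX * a * vX⁻¹ = (a : X) := congrArg Subtype.val ha
          exact (congrArg Subtype.val (mul_inv_eq_iff_eq_mul.1 h2)).symm
        exact Subtype.ext (Subtype.ext (odd_trivial X hlin hD h16 hv a.1.2 h1 (hwo a a.2)))
      have hinv : Function.Involutive θ := fun a => Subtype.ext (by
        show vX * (vX * a * vX⁻¹) * vX⁻¹ = a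
        rw [hvi, show vX * (vX * a * vX) * vX = (vX * vX) * a * (vX * vX) by group, hv2', one_mul, mul_one])
      have := congrArg (fun a : oddCore X => ((a : X) : Equiv.Perm (Fin 64)))
        (congrFun (MonoidHom.FixedPointFree.coe_eq_inv_of_involutive hfp hinv) ⟨y, hy⟩)
      simp only [θ, MonoidHom.mk'_apply, coe_mul, coe_inv, vX] at this
      rwa [inv_eq_of_mul_eq_one_right (show hM v * hM v = 1 by rw [hM_mul, hv2, hM_zero])] at this
    have e2 := inv 2 (by decide) (by decide +kernel) w hw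
    have e3 := inv 3 (by decide) (by decide +kernel)
    have e3w := e3 w⁻¹ (inv_mem hw)
    have h1w : Commute (w : Equiv.Perm (Fin 64)) (hM 1) := by
      have hmul : hM 3 * hM 2 = hM 1 := by rw [hM_mul]; congr 1
      have hmul' : hM 2 * hM 3 = hM 1 := by rw [hM_mul]; congr 1
      have h : hM 1 * (w : Equiv.Perm (Fin 64)) * hM 1 = w := by
        calc hM 1 * (w : Equiv.Perm (Fin 64)) * hM 1 = hM 3 * (hM 2 * w * hM 2) * hM 3 := by
              conv_lhs => arg 1; rw [← hmul]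
              conv_lhs => arg 2; rw [← hmul']
              simp only [mul_assoc]
          _ = w := by rw [e2, ← coe_inv, e3w, coe_inv, inv_inv]
      have h11 : hM 1 * hM 1 = 1 := by rw [hM_mul, show hF 1 1 = 0 by decide +kernel, hM_zero]
      show (w : Equiv.Perm (Fin 64)) * hM 1 = hM 1 * w
      conv_lhs => rw [← h]
      rw [mul_assoc, h11, mul_one]
    exact Subtype.ext (odd_trivial X hlin hD h16 (by decide : ((1 : Fin 8) : ℕ) ∈ [1, 2, 3, 4, 5]) w.2 h1w (hwo w hw))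
  rw [hO, sup_bot_eq] at h
  exact (hcent ⟨x, hx⟩).1 (h.symm ▸ mem_top _)

set_option maxHeartbeats 1000000 in
/-- The symmetric group of degree four. -/
theorem four_case (hcard : Nat.card X = 24) : ∃ i < pairTab.length, ∀ x ∈ X, Keeps x (pairTab.getD i (0, 0)) := by
  classical
  have hc1 := cent_one X hlin hD h16
  have hcent := mem_centralizer_zC X hlin hD h16
  obtain ⟨hfV, hfne, hfct, hfcu, hfs, hft, -⟩ := first_facts
  obtain ⟨hgV, hgne, hgct, hgcu, hgs, hgt, -⟩ := second_facts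
  set C := D8.subgroupOf X with hC
  have hC8 : Nat.card C = 8 := by rw [Nat.card_congr (subgroupOfEquivOfLe hD).toEquiv, card_D8]
  have hCi : C.index = 3 := by
    have := C.card_mul_index
    rw [hC8, hcard] at this
    omega
  haveI := Fintype.ofFinite (X ⧸ C)
  set K := C.normalCore with hK
  have hKi : K.index ∣ 6 := by
    rw [hK, normalCore_eq_ker, index_ker]
    refine (card_subgroup_dvd_card _).trans ?_
    rw [Nat.card_perm, ← index_eq_card, hCi]; rfl
  have hKdvd : Nat.card K ∣ 8 := hC8 ▸ card_dvd_of_le C.normalCore_le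
  have hK4 : Nat.card K = 4 := by
    have h1 := K.card_mul_index
    rw [hcard] at h1
    have h2 := Nat.le_of_dvd (by norm_num) hKdvd
    have h3 := Nat.le_of_dvd (by norm_num) hKi
    by_contra hne
    have hK8 : Nat.card K = 8 := by
      interval_cases hk : Nat.card K <;> omega
    have hKC : K = C := eq_of_le_of_card_ge C.normalCore_le (by rw [hC8, hK8])
    haveI : C.Normal := hKC ▸ inferInstance
    -- then the central involution is central
    refine absurd hcard ?_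
    have htop : ∀ x : X, x ∈ C := fun x => by
      have hz : (zC X hD) ∈ C := ⟨1, rfl⟩
      obtain ⟨k, hk⟩ := (inferInstance : C.Normal).conj_mem (zC X hD) hz x
      have hcen : ∀ h, hF k h = hF h k := fun h => by
        refine (hM_commute_iff k h).1 ?_
        obtain ⟨y, hy, ey⟩ : ∃ y : X, y ∈ C ∧ hM h = (x : Equiv.Perm (Fin 64)) * y * (x : Equiv.Perm (Fin 64))⁻¹ :=
          ⟨x⁻¹ * ⟨hM h, hD ⟨h, rfl⟩⟩ * x, by simpa using (inferInstance : C.Normal).conj_mem _ (show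
            (⟨hM h, hD ⟨h, rfl⟩⟩ : X) ∈ C from ⟨h, rfl⟩) x⁻¹, by simp [mul_assoc]⟩
        obtain ⟨l, hl⟩ := hy
        rw [ey, hk]
        show Commute ((x : Equiv.Perm (Fin 64)) * hM 1 * (x : Equiv.Perm (Fin 64))⁻¹) _
        refine (Commute.conj_iff _).2 ?_
        rw [show (y : Equiv.Perm (Fin 64)) = hM l from hl.symm]
        exact (hM_commute_iff 1 l).2 ((by decide +kernel : ∀ l : Fin 8, hF 1 l = hF l 1) l)
      rcases (by decide +kernel : ∀ k : Fin 8, (∀ h, hF k h = hF h k) → k = 0 ∨ k = 1) k hcen with rfl | rfl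
      · exfalso
        rw [hM_zero] at hk
        have h1 := conj_eq_one_iff.1 hk.symm
        exact absurd (hM_inj 1 0 (h1.trans hM_zero.symm)) (by decide)
      · refine (hcent x).1 (mem_centralizer_singleton_iff.2 (Subtype.ext ?_))
        exact mul_inv_eq_iff_eq_mul.1 hk.symm
    have : C = ⊤ := eq_top_iff.2 fun x _ => htop x
    rw [this, index_top] at hCi
    omega
  -- the four group
  let b : Fin 8 → Bool := fun h => decide ((⟨hM h, hD ⟨h, rfl⟩⟩ : X) ∈ K)
  have hb : ∀ h, b h = true ↔ (⟨hM h, hD ⟨h, rfl⟩⟩ : X) ∈ K := fun h => decide_eq_true_iff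
  have hKnorm : ∀ x : X, ∀ h, b h = true → ∃ k, b k = true ∧ (x : Equiv.Perm (Fin 64)) * hM h * (x : Equiv.Perm (Fin 64))⁻¹ = hM k := by
    intro x h hh
    have h1 := C.normalCore_normal.conj_mem _ ((hb h).1 hh) x
    obtain ⟨k, hk⟩ := mem_subgroupOf.1 (C.normalCore_le h1)
    refine ⟨k, (hb k).2 ?_, Eq.trans (by simp only [coe_mul, coe_inv]) hk.symm⟩
    convert h1 using 1
    exact Subtype.ext hk
  have hb4 : (Finset.univ.filter fun h => b h = true).card = 4 := by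
    rw [← hK4, ← Fintype.card_subtype, ← Nat.card_eq_fintype_card]
    refine Nat.card_congr (Equiv.ofBijective (fun h : {h // b h = true} => (⟨_, (hb h.1).1 h.2⟩ : K))
      ⟨fun h k e => Subtype.ext (hM_inj _ _ (congrArg (fun y : K => ((y : X) : Equiv.Perm (Fin 64))) e)), fun y => ?_⟩)
    obtain ⟨h, hh⟩ : (y : X) ∈ C := C.normalCore_le y.2
    have e : (⟨hM h, hD ⟨h, rfl⟩⟩ : X) = y := Subtype.ext hh
    exact ⟨⟨h, (hb h).2 (e ▸ y.2)⟩, Subtype.ext e⟩
  obtain ⟨x, hxX, hxne⟩ : ∃ x ∈ X, x * hM 1 * x⁻¹ ≠ hM 1 := by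
    by_contra hno
    push Not at hno
    have : C = ⊤ := eq_top_iff.2 fun x _ => (hcent x).1 (mem_centralizer_singleton_iff.2
      (Subtype.ext (mul_inv_eq_iff_eq_mul.1 (hno x x.2))))
    rw [this, index_top] at hCi
    omega
  have gen : ∀ g, g ∈ X → g ∉ D8 → ∀ i < pairTab.length, Keeps g (pairTab.getD i (0, 0)) →
      ∀ y ∈ X, Keeps y (pairTab.getD i (0, 0)) := by
    intro g hg hgD i hi hk
    set H : Subgroup (Equiv.Perm (Fin 64)) := closure ((D8 : Set (Equiv.Perm (Fin 64))) ∪ {g}) with hH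
    have hHX : H ≤ X := (closure_le _).2 (Set.union_subset hD (Set.singleton_subset_iff.2 hg))
    have hlt : D8 < H := lt_of_le_of_ne (fun y hy => subset_closure (Or.inl hy)) fun e =>
      hgD (e.symm ▸ subset_closure (Or.inr rfl))
    have heq : H = X := by
      refine eq_of_le_of_card_ge hHX ?_
      have h8 := card_D8 ▸ card_dvd_of_le hlt.le
      have hd := hcard ▸ card_dvd_of_le hHX
      have hgt : 8 < Nat.card H := by
        by_contra h
        exact hlt.ne (eq_of_le_of_card_ge hlt.le (by rw [card_D8]; omega))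
      rw [hcard]
      obtain ⟨m, hm⟩ := h8
      rw [hm] at hd hgt ⊢
      have : 8 * m ≤ 24 := Nat.le_of_dvd (by norm_num) hd
      have : m ≤ 3 := by omega
      obtain rfl | rfl : m = 2 ∨ m = 3 := by omega
      · exact absurd hd (by norm_num)
      · norm_num
    intro y hy
    refine keeps_closure (fun σ hσ => ?_) (heq.symm ▸ hy : y ∈ H)
    rcases hσ with hσ | rfl
    exacts [keeps_D8 i hi σ hσ, hk]
  rcases four_masks b ((hb 0).2 (by
      rw [show (⟨hM 0, hD ⟨0, rfl⟩⟩ : X) = 1 from Subtype.ext hM_zero]; exact one_mem _))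
    (fun h k hh hk => (hb _).2 (by
      rw [show (⟨hM (hF h k), hD ⟨_, rfl⟩⟩ : X) = ⟨hM h, hD ⟨h, rfl⟩⟩ * ⟨hM k, hD ⟨k, rfl⟩⟩ from
        Subtype.ext (hM_mul h k).symm]
      exact mul_mem ((hb h).1 hh) ((hb k).1 hk))) hb4 with hV | hV | hV
  · obtain ⟨g, hg⟩ := exists_three hc1 hD hfV hfne hfct hfcu hfs hxX (fun h hh => by
      obtain ⟨k, hk, ek⟩ := hKnorm ⟨x, hxX⟩ h ((hV h).2 (by tauto))
      rcases (hV k).1 hk with rfl | rfl | rfl | rfl
      · exfalso
        rw [hM_zero] at ek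
        have h0 := hM_inj h 0 ((conj_eq_one_iff.1 ek).trans hM_zero.symm)
        rcases hh with rfl | rfl | rfl <;> exact absurd h0 (by decide)
      exacts [⟨1, Or.inl rfl, ek⟩, ⟨2, Or.inr (Or.inl rfl), ek⟩, ⟨3, Or.inr (Or.inr rfl), ek⟩]) hxne
    obtain ⟨c, hcm, hci⟩ := list_one X hlin hg
    obtain ⟨i, hi⟩ := cand_nonempty cands_ok.1 hcm
    exact ⟨i, (hci i hi).1, gen g hg.mem (not_mem_D8 X hg hfne.2.2.1) i (hci i hi).1 (hci i hi).2⟩
  · obtain ⟨g, hg⟩ := exists_three hc1 hD hgV hgne hgct hgcu hgs hxX (fun h hh => by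
      obtain ⟨k, hk, ek⟩ := hKnorm ⟨x, hxX⟩ h ((hV h).2 (by tauto))
      rcases (hV k).1 hk with rfl | rfl | rfl | rfl
      · exfalso
        rw [hM_zero] at ek
        have h0 := hM_inj h 0 ((conj_eq_one_iff.1 ek).trans hM_zero.symm)
        rcases hh with rfl | rfl | rfl <;> exact absurd h0 (by decide)
      exacts [⟨1, Or.inl rfl, ek⟩, ⟨4, Or.inr (Or.inl rfl), ek⟩, ⟨5, Or.inr (Or.inr rfl), ek⟩]) hxne
    obtain ⟨c, hcm, hci⟩ := list_two X hlin hg
    obtain ⟨i, hi⟩ := cand_nonempty cands_ok.2 hcm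
    exact ⟨i, (hci i hi).1, gen g hg.mem (not_mem_D8 X hg hgne.2.2.1) i (hci i hi).1 (hci i hi).2⟩
  · -- the cyclic one
    exfalso
    obtain ⟨k, hk, ek⟩ := hKnorm ⟨x, hxX⟩ 1 ((hV 1).2 (Or.inr (Or.inl rfl)))
    have h2 : hF k k = 0 := hM_inj _ _ (by
      rw [← hM_mul, ← ek, show x * hM 1 * x⁻¹ * (x * hM 1 * x⁻¹) = x * (hM 1 * hM 1) * x⁻¹ by group, hM_mul,
        show hF 1 1 = 0 by decide +kernel, hM_zero]
      group)
    rcases (hV k).1 hk with rfl | rfl | rfl | rfl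
    · rw [hM_zero] at ek
      exact absurd (hM_inj 1 0 ((conj_eq_one_iff.1 ek).trans hM_zero.symm)) (by decide)
    · exact hxne ek
    · exact absurd h2 (by decide +kernel)
    · exact absurd h2 (by decide +kernel)

/-- The pair of invariant subspaces. -/
theorem invariant_pair : ∃ i < pairTab.length, ∀ x ∈ X, Keeps x (pairTab.getD i (0, 0)) := by
  classical
  haveI : Fact (Nat.Prime 2) := ⟨Nat.prime_two⟩
  obtain ⟨eC⟩ := centralizer_zC_equiv X hlin hD h16
  have hz2 := orderOf_zC X hD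
  rcases Cfsg.Agent.S3035.result (zC X hD) hz2 ⟨eC⟩ with h | h | h | h | h
  · exact ⟨0, by decide, fun x hx => keeps_D8 0 (by decide) x (core_case X hlin hD h16 h x hx)⟩
  · obtain ⟨e⟩ := h
    exact four_case X hlin hD h16 (by rw [Nat.card_congr e.toEquiv, Nat.card_perm, Nat.card_fin]; rfl)
  · -- degree five does not occur
    exfalso
    obtain ⟨e⟩ := h
    let w : Equiv.Perm (Fin 5) := Equiv.swap 2 3 * Equiv.swap 3 4
    refine no_six X hlin hD h16 (e.symm (Equiv.swap 0 1)).2 ?_ (e.symm w).2 ?_ ?_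
    · rw [Subgroup.orderOf_coe, MulEquiv.orderOf_eq, orderOf_eq_prime_iff]
      exact ⟨by decide, by decide⟩
    · rw [Subgroup.orderOf_coe, MulEquiv.orderOf_eq]
      haveI : Fact (Nat.Prime 3) := ⟨Nat.prime_three⟩
      rw [orderOf_eq_prime_iff]
      exact ⟨by decide, by decide⟩
    · refine congrArg Subtype.val (?_ : Commute (e.symm w) (e.symm (Equiv.swap 0 1))).eq
      exact (show Commute w (Equiv.swap 0 1) from by unfold Commute SemiconjBy; decide).map e.symm.toMonoidHom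
  all_goals
    obtain ⟨e⟩ := h
    have hfus : ∀ hs : IsSimpleGroup X, Nat.card X ≠ 2 → ∀ u : X, orderOf u = 2 → IsConj (zC X hD) u := by
      intro hs h2
      have hidx : ∀ H : Subgroup X, H.index ≠ 2 := fun H hH => by
        haveI := normal_of_index_eq_two hH
        rcases hs.eq_bot_or_eq_top_of_normal H inferInstance with e' | e'
        · rw [e', index_bot] at hH; exact h2 hH
        · rw [e', index_top] at hH; omega
      refine (CfsgLib.InvolChar.dihedral_fusion hidx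
        (a := ((eC.symm (DihedralGroup.r 1)) : X)) (b := ((eC.symm (DihedralGroup.sr 0)) : X))
        (by rw [Nat.card_congr eC.toEquiv, DihedralGroup.nat_card]) hz2 (eC.symm _).2 ?_ (eC.symm _).2 ?_ ?_).2
      · rw [Subgroup.orderOf_coe, MulEquiv.orderOf_eq, DihedralGroup.orderOf_r_one]
      · rw [Subgroup.orderOf_coe, MulEquiv.orderOf_eq, DihedralGroup.orderOf_sr]
      · rw [← coe_inv, ← coe_inv, ← coe_mul, ← coe_mul, ← map_inv, ← map_inv, ← map_mul, ← map_mul]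
        exact congrArg (fun d => ((eC.symm d : centralizer ({(zC X hD)} : Set X)) : X)) (by decide)
  · let eS := CfsgLib.A8.glEquivSL (K := ZMod 2) (ι := Fin 3) fun g =>
      (CfsgLib.A8.zmod_two_cases _).resolve_left
        ((Matrix.isUnit_iff_isUnit_det (g : Matrix (Fin 3) (Fin 3) (ZMod 2))).1 g.isUnit).ne_zero
    haveI := CfsgLib.InvolChar.SubgroupsA8.gl3_simple
    haveI hs : IsSimpleGroup X := (e.trans eS.symm).isSimpleGroup
    have hc : Nat.card X = 168 := by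
      rw [Nat.card_congr (e.trans eS.symm).toEquiv]; exact CfsgLib.InvolChar.SubgroupsA8.gl3_card
    exact simple_case X hlin hD h16 (hfus hs (by omega)) hs (Or.inl hc)
  · haveI := alternatingGroup.isSimpleGroup (α := Fin 6) (by simp)
    haveI hs : IsSimpleGroup X := e.isSimpleGroup
    have hc : Nat.card X = 360 := by
      rw [Nat.card_congr e.toEquiv, nat_card_alternatingGroup, Nat.card_fin]; rfl
    exact simple_case X hlin hD h16 (hfus hs (by omega)) hs (Or.inr hc)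

end

end CfsgLib.M24Quot
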