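import Cfsg.Agent.Lib.M24Quot.Base
import Cfsg.Agent.Lib.M24Quot.DecompData
import Mathlib

/-!
Linear permutations of the 64 vectors: the dihedral group acting, what commutes with it, and the
elements of order three normalising a four group, each with its invariant pairs of subspaces.
-/

set_option autoImplicit false
set_option maxRecDepth 100000

namespace CfsgLib.M24Quot

/-- A permutation of the vectors respecting addition. -/
def LinF (f : ℕ → ℕ) : Prop :=
  (∀ v < 64, f v < 64) ∧ ∀ v < 64, ∀ w < 64, f (v ^^^ w) = f v ^^^ f w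

/-- Iterated addition. -/
def xsum : List ℕ → ℕ
  | [] => 0
  | a :: l => a ^^^ xsum l

theorem xsum_lt {l : List ℕ} (h : ∀ a ∈ l, a < 64) : xsum l < 64 := by
  induction l with
  | nil => exact (by norm_num : (0 : ℕ) < 64)
  | cons a l ih => exact xor_lt (h a (List.mem_cons_self ..)) (ih fun b hb => h b (List.mem_cons_of_mem _ hb))

theorem LinF.zero {f : ℕ → ℕ} (hf : LinF f) : f 0 = 0 := by
  have := hf.2 0 (by norm_num) 0 (by norm_num)
  rwa [Nat.xor_self, Nat.xor_self] at this

theorem LinF.xsum {f : ℕ → ℕ} (hf : LinF f) {α : Type*} (l : List α) (u : α → ℕ) (hu : ∀ a ∈ l, u a < 64) :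
    f (M24Quot.xsum (l.map u)) = M24Quot.xsum (l.map fun a => f (u a)) := by
  induction l with
  | nil => exact hf.zero
  | cons a l ih =>
    show f (u a ^^^ M24Quot.xsum (l.map u)) = f (u a) ^^^ _
    rw [hf.2 _ (hu a (List.mem_cons_self ..)) _ (xsum_lt (by
      intro b hb
      obtain ⟨c, hc, rfl⟩ := List.mem_map.1 hb
      exact hu c (List.mem_cons_of_mem _ hc)))]
    exact congrArg (f (u a) ^^^ ·) (ih fun b hb => hu b (List.mem_cons_of_mem _ hb))

/-- The six basis vectors. -/
def bitV (k : ℕ) : ℕ := 2 ^ k

theorem bit_expand : ∀ v < 64, xsum (((List.range 6).filter v.testBit).map bitV) = v ∧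
    ∀ k ∈ List.range 6, bitV k < 64 := by decide +kernel

theorem LinF.ext {f g : ℕ → ℕ} (hf : LinF f) (hg : LinF g) (h : ∀ k < 6, f (bitV k) = g (bitV k))
    {v : ℕ} (hv : v < 64) : f v = g v := by
  obtain ⟨e, hb⟩ := bit_expand v hv
  have hb' : ∀ k ∈ (List.range 6).filter v.testBit, bitV k < 64 := fun k hk => hb k (List.mem_filter.1 hk).1
  rw [← e, hf.xsum _ _ hb', hg.xsum _ _ hb']
  exact congrArg M24Quot.xsum (List.map_congr_left fun k hk =>
    h k (List.mem_range.1 (List.mem_filter.1 hk).1))

/-- The map with given images of the basis vectors. -/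
def lev (im : List ℕ) (v : ℕ) : ℕ := xsum (((List.range 6).filter v.testBit).map fun k => im.getD k 0)

theorem LinF.eq_lev {f : ℕ → ℕ} (hf : LinF f) {im : List ℕ} (h : ∀ k < 6, im.getD k 0 = f (bitV k))
    {v : ℕ} (hv : v < 64) : f v = lev im v := by
  obtain ⟨e, hb⟩ := bit_expand v hv
  conv_lhs => rw [← e]
  rw [hf.xsum _ _ fun k hk => hb k (List.mem_filter.1 hk).1]
  exact congrArg M24Quot.xsum (List.map_congr_left fun k hk =>
    (h k (List.mem_range.1 (List.mem_filter.1 hk).1)).symm)

/-- A map given by its table. -/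
def tabF (T v : ℕ) : ℕ := (T >>> (6 * v)) % 64

/-! ### Generators and relations -/

/-- A combination of the generators moved by the dihedral group. -/
def srcSum (gens : List ℕ) (l : List (ℕ × ℕ × ℕ)) : ℕ :=
  xsum (l.map fun e => mAct e.2.1 (gens.getD e.1 0))

/-- The same combination of the images, moved by the twisted elements. -/
def imgSum (xs : List ℕ) (l : List (ℕ × ℕ × ℕ)) : ℕ :=
  xsum (l.map fun e => mAct e.2.2 (xs.getD e.1 0))

/-- The images of the generators compatible with the relations of each stage. -/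
def stageOpts : List (List (List (ℕ × ℕ × ℕ))) → List ℕ → List (List ℕ)
  | [], pre => [pre]
  | R :: Rs, pre => ((List.range 64).filter fun x => R.all fun r => Nat.beq (imgSum (pre ++ [x]) r) 0).flatMap
      fun x => stageOpts Rs (pre ++ [x])

theorem mem_stageOpts (Rs : List (List (List (ℕ × ℕ × ℕ)))) : ∀ (pre rest : List ℕ), rest.length = Rs.length →
    (∀ x ∈ rest, x < 64) →
    (∀ i (_ : i < Rs.length), ∀ r ∈ Rs.getD i [], imgSum (pre ++ rest.take (i + 1)) r = 0) →
    pre ++ rest ∈ stageOpts Rs pre := by
  induction Rs with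
  | nil =>
    intro pre rest hl _ _
    rw [List.length_eq_zero_iff.1 hl, List.append_nil]
    exact List.mem_singleton_self _
  | cons R Rs ih =>
    intro pre rest hl hlt hrel
    match rest, hl with
    | x :: rest, hl =>
      refine List.mem_flatMap.2 ⟨x, List.mem_filter.2 ⟨List.mem_range.2 (hlt x (List.mem_cons_self ..)), ?_⟩, ?_⟩
      · refine List.all_eq_true.2 fun r hr => ?_
        rw [Nat.beq_eq]
        have := hrel 0 (Nat.succ_pos _) r hr
        simpa using this
      · rw [show pre ++ x :: rest = (pre ++ [x]) ++ rest by simp]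
        refine ih _ rest (Nat.succ_injective hl) (fun y hy => hlt y (List.mem_cons_of_mem _ hy)) fun i hi r hr => ?_
        have := hrel (i + 1) (Nat.succ_lt_succ hi) r (by simpa using hr)
        rw [List.take_succ_cons] at this
        simpa using this

/-- The images of the basis vectors. -/
def imOf (E : List (List (ℕ × ℕ × ℕ))) (xs : List ℕ) : List ℕ := E.map (imgSum xs)

/-- Well-formedness: the relations hold, and each expression gives its basis vector. -/
def specB (phi gens : List ℕ) (Rs : List (List (List (ℕ × ℕ × ℕ)))) (E : List (List (ℕ × ℕ × ℕ))) : Bool :=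
  let okT := fun (n : ℕ) (e : ℕ × ℕ × ℕ) =>
    decide (e.1 < n) && decide (e.2.1 < 8) && decide (e.2.2 < 8) && Nat.beq (phi.getD e.2.1 8) e.2.2
  Nat.beq Rs.length gens.length && Nat.beq E.length 6 && gens.all (fun g => decide (g < 64)) &&
    (List.range Rs.length).all (fun i => (Rs.getD i []).all fun r => r.all (okT (i + 1)) && Nat.beq (srcSum gens r) 0) &&
    (List.range 6).all fun k => (E.getD k []).all (okT gens.length) && Nat.beq (srcSum gens (E.getD k [])) (bitV k)

theorem twist_options {f : ℕ → ℕ} (hf : LinF f) {phi gens : List ℕ} {Rs : List (List (List (ℕ × ℕ × ℕ)))}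
    {E : List (List (ℕ × ℕ × ℕ))} (hs : specB phi gens Rs E = true)
    (htw : ∀ h < 8, phi.getD h 8 < 8 → ∀ v < 64, f (mAct h v) = mAct (phi.getD h 8) (f v)) :
    ∃ xs ∈ stageOpts Rs [], ∀ v < 64, f v = lev (imOf E xs) v := by
  simp only [specB, Bool.and_eq_true, Nat.beq_eq, List.all_eq_true, List.mem_range, decide_eq_true_eq] at hs
  obtain ⟨⟨⟨⟨hlen, hE⟩, hg⟩, hR⟩, hex⟩ := hs
  have hgl : ∀ j, gens.getD j 0 < 64 := fun j => by
    rw [List.getD_eq_getElem?_getD]
    rcases h : gens[j]? with _ | g
    · norm_num
    · exact hg g (List.mem_of_getElem? h)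
  have key : ∀ (n : ℕ) (r : List (ℕ × ℕ × ℕ)) (xs : List ℕ),
      (∀ e ∈ r, ((e.1 < n ∧ e.2.1 < 8) ∧ e.2.2 < 8) ∧ phi.getD e.2.1 8 = e.2.2) →
      (∀ j < n, xs.getD j 0 = f (gens.getD j 0)) → imgSum xs r = f (srcSum gens r) := by
    intro n r xs hr hxs
    unfold srcSum imgSum
    rw [hf.xsum r _ fun e _ => mAct_lt _ _]
    refine congrArg M24Quot.xsum (List.map_congr_left fun e he => ?_)
    obtain ⟨⟨⟨h1, h2⟩, h4⟩, h3⟩ := hr e he
    rw [hxs _ h1, htw _ h2 (h3.symm ▸ h4) _ (hgl _), h3]
  have hxs : ∀ j < gens.length, (gens.map f).getD j 0 = f (gens.getD j 0) := fun j hj => by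
    simp [List.getD_eq_getElem?_getD, List.getElem?_eq_getElem hj]
  refine ⟨gens.map f, ?_, fun v hv => hf.eq_lev (fun k hk => ?_) hv⟩
  · have := mem_stageOpts Rs [] (gens.map f) (by simp [hlen]) (fun x hx => by
        obtain ⟨g, hg', rfl⟩ := List.mem_map.1 hx
        exact hf.1 g (hg g hg')) fun i hi r hr => by
      obtain ⟨h1, h2⟩ := hR i hi r hr
      rw [List.nil_append, key (i + 1) r _ h1 (fun j hj => ?_), h2, hf.zero]
      rw [← hxs j (by omega)]
      simp only [List.getD_eq_getElem?_getD, List.getElem?_take]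
      rw [if_pos hj]
    simpa using this
  · obtain ⟨h1, h2⟩ := hex k hk
    have hk' : k < E.length := hE.symm ▸ hk
    rw [← h2, imOf, List.getD_eq_getElem?_getD, List.getElem?_map, List.getElem?_eq_getElem hk']
    show imgSum _ E[k] = _
    rw [← List.getD_eq_getElem E [] hk']
    exact key gens.length _ _ h1 hxs

/-! ### The finite checks -/

/-- Membership in a packed set. -/
def inM (m v : ℕ) : Bool := m.testBit v

/-- A pair of complementary invariant subspaces, neither fixed by a nontrivial element. -/
def pairB (p : ℕ × ℕ) : Bool :=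
  let L := fun m : ℕ => (List.range 64).filter (inM m)
  let one := fun m : ℕ => Nat.beq (L m).length 8 && inM m 0 &&
    (L m).all (fun u => (L m).all fun w => inM m (u ^^^ w)) &&
    (List.range 8).all (fun h => (L m).all fun u => inM m (mAct h u)) &&
    (List.range 8).all fun h => Nat.beq h 0 || (L m).any fun u => !Nat.beq (mAct h u) u
  one p.1 && one p.2 && (L p.1).all (fun u => !inM p.2 u || Nat.beq u 0)

/-- A table leaves a pair invariant. -/
def keepB (T : ℕ) (p : ℕ × ℕ) : Bool :=
  (List.range 64).all fun u => (!inM p.1 u || inM p.1 (tabF T u)) && (!inM p.2 u || inM p.2 (tabF T u))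

/-- A table with its list of invariant pairs. -/
def candB (c : ℕ × List ℕ) : Bool :=
  !c.2.isEmpty && c.2.all fun i => decide (i < pairTab.length) && keepB c.1 (pairTab.getD i (0, 0))

/-- A compatible map that is cubed to the identity and inverted by `s` is listed. -/
def okXsB (E : List (List (ℕ × ℕ × ℕ))) (s : ℕ) (cands : List (ℕ × List ℕ)) (xs : List ℕ) : Bool :=
  let im := imOf E xs
  !((List.range 6).all fun k => Nat.beq (lev im (lev im (lev im (bitV k)))) (bitV k) &&
      Nat.beq (lev im (mAct s (bitV k))) (mAct s (lev im (lev im (bitV k))))) ||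
    cands.any fun c => (List.range 6).all fun k => Nat.beq (tabF c.1 (bitV k)) (im.getD k 0)

/-- A quarter of the compatible maps, by the image of the first generator. -/
def listedPartB (Rs : List (List (List (ℕ × ℕ × ℕ)))) (E : List (List (ℕ × ℕ × ℕ))) (s : ℕ)
    (cands : List (ℕ × List ℕ)) (i : ℕ) : Bool :=
  match Rs with
  | [] => false
  | R :: Rest => (List.range' (16 * i) 16).all fun x =>
      !(R.all fun r => Nat.beq (imgSum [x] r) 0) || (stageOpts Rest [x]).all (okXsB E s cands)

theorem listed_of_parts {Rs : List (List (List (ℕ × ℕ × ℕ)))} {E : List (List (ℕ × ℕ × ℕ))} {s : ℕ}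
    {cands : List (ℕ × List ℕ)} (h0 : listedPartB Rs E s cands 0 = true) (h1 : listedPartB Rs E s cands 1 = true)
    (h2 : listedPartB Rs E s cands 2 = true) (h3 : listedPartB Rs E s cands 3 = true) :
    ∀ xs ∈ stageOpts Rs [], okXsB E s cands xs = true := by
  match Rs with
  | [] => exact Bool.noConfusion h0
  | R :: Rest =>
    intro xs hxs
    simp only [stageOpts, List.nil_append, List.mem_flatMap, List.mem_filter, List.mem_range] at hxs
    obtain ⟨x, ⟨hx, hR⟩, hxs⟩ := hxs
    have key : ∀ i, listedPartB (R :: Rest) E s cands i = true → 16 * i ≤ x → x < 16 * i + 16 →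
        okXsB E s cands xs = true := fun i h hl hu => by
      simp only [listedPartB, List.all_eq_true (p := fun x => !(R.all fun r => Nat.beq (imgSum [x] r) 0) ||
        (stageOpts Rest [x]).all (okXsB E s cands))] at h
      have := h x (List.mem_range'_1.2 ⟨hl, hu⟩)
      rw [hR, Bool.not_true, Bool.false_or] at this
      exact List.all_eq_true.1 this xs hxs
    rcases (show x < 16 ∨ (16 ≤ x ∧ x < 32) ∨ (32 ≤ x ∧ x < 48) ∨ 48 ≤ x by omega) with h | h | h | h
    exacts [key 0 h0 (by omega) (by omega), key 1 h1 (by omega) (by omega), key 2 h2 (by omega) (by omega),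
      key 3 h3 (by omega) (by omega)]

/-- Every map commuting with the dihedral group has order dividing four. -/
def centB : Bool :=
  (stageOpts relD []).all fun xs =>
    let im := imOf exprD xs
    ((List.range 6).all fun k => Nat.beq (lev im (lev im (lev im (lev im (bitV k))))) (bitV k)) ||
      (List.range 63).any fun v => Nat.beq (lev im (v + 1)) 0

/-- The two twists. -/
def phiOne : List ℕ := [0, 2, 3, 1, 8, 8, 8, 8]

/-- The second twist. -/
def phiTwo : List ℕ := [0, 4, 8, 8, 5, 1, 8, 8]

theorem spec_D : specB (List.range 8) genD relD exprD = true := by decide +kernel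

theorem spec_one : specB phiOne genOne relOne exprOne = true := by decide +kernel

theorem spec_two : specB phiTwo genTwo relTwo exprTwo = true := by decide +kernel

theorem cent_D : centB = true := by decide +kernel

theorem pairs_ok : pairTab.all pairB = true := by decide +kernel

theorem cands_ok : candOne.all candB = true ∧ candTwo.all candB = true := by
  constructor <;> decide +kernel

theorem cands_meet : candOne.all (fun a => candTwo.all fun b => a.2.any fun i => b.2.contains i) = true := by
  decide +kernel

end CfsgLib.M24Quot
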