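import Cfsg.Agent.Lib.M24Quot.DecompCIT
import Cfsg.Agent.Lib.M24Quot.DecompListedOne
import Cfsg.Agent.Lib.M24Quot.DecompListedTwo
import Cfsg.Agent.S3035

/-!
A group of linear permutations of the 64 vectors with the dihedral group of order 8 as Sylow 2-subgroup
leaves a pair of complementary subspaces invariant.
-/

set_option autoImplicit false
set_option maxRecDepth 100000
set_option linter.style.haveILetI false

namespace CfsgLib.M24Quot

open Subgroup Cfsg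

/-- A permutation leaves a pair of masks invariant. -/
def Keeps (σ : Equiv.Perm (Fin 64)) (p : ℕ × ℕ) : Prop :=
  ∀ u < 64, (inM p.1 u = true → inM p.1 (natF σ u) = true) ∧ (inM p.2 u = true → inM p.2 (natF σ u) = true)

/-- A check that a pair is invariant under the dihedral group. -/
def keepD (p : ℕ × ℕ) : Bool :=
  (List.range 8).all fun h => (List.range 64).all fun u =>
    (!inM p.1 u || inM p.1 (mAct h u)) && (!inM p.2 u || inM p.2 (mAct h u))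

theorem keeps_D : pairTab.all keepD = true := by decide +kernel

/-- A table is linear. -/
def linB (c : ℕ × List ℕ) : Bool :=
  (List.range 64).all fun u => Nat.beq (tabF c.1 u) (lev ((List.range 6).map fun k => tabF c.1 (bitV k)) u)

theorem cands_lin : candOne.all linB = true ∧ candTwo.all linB = true := by
  constructor <;> decide +kernel

theorem lev_bit (im : List ℕ) {k : ℕ} (hk : k < 6) : lev im (bitV k) = im.getD k 0 := by
  have e : ∀ k < 6, (List.range 6).filter (bitV k).testBit = [k] := by decide +kernel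
  rw [lev, e k hk]
  exact Nat.xor_zero _

theorem lev_congr {im im' : List ℕ} (h : ∀ k < 6, im.getD k 0 = im'.getD k 0) (v : ℕ) : lev im v = lev im' v :=
  congrArg xsum (List.map_congr_left fun k hk => h k (List.mem_range.1 (List.mem_filter.1 hk).1))

theorem keeps_closure {S : Set (Equiv.Perm (Fin 64))} {p : ℕ × ℕ} (h : ∀ σ ∈ S, Keeps σ p)
    {σ : Equiv.Perm (Fin 64)} (hσ : σ ∈ closure S) : Keeps σ p := by
  have key : ∀ τ, Keeps τ p → ∀ n, Keeps (τ ^ n) p := fun τ hτ n u hu => by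
    induction n generalizing u with
    | zero => rw [pow_zero, natF_one hu]; exact ⟨id, id⟩
    | succ n ih =>
      rw [pow_succ', natF_mul _ _ hu]
      exact ⟨fun h1 => (hτ _ (natF_lt _ hu)).1 ((ih u hu).1 h1), fun h2 => (hτ _ (natF_lt _ hu)).2 ((ih u hu).2 h2)⟩
  induction hσ using closure_induction with
  | mem x hx => exact h x hx
  | one => intro u hu; rw [natF_one hu]; exact ⟨id, id⟩
  | mul a b _ _ ha hb =>
    intro u hu
    rw [natF_mul _ _ hu]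
    exact ⟨fun h1 => (ha _ (natF_lt b hu)).1 ((hb u hu).1 h1), fun h2 => (ha _ (natF_lt b hu)).2 ((hb u hu).2 h2)⟩
  | inv a _ ha =>
    rw [show a⁻¹ = a ^ (orderOf a - 1) from inv_eq_of_mul_eq_one_right (by
      rw [← pow_succ', Nat.sub_add_cancel (orderOf_pos a), pow_orderOf_eq_one])]
    exact key a ha _

/-- An element of order three normalising a four group: it moves the three involutions cyclically and is
inverted by `s`. -/
structure ThreeElt (X : Subgroup (Equiv.Perm (Fin 64))) (t u s : Fin 8) (g : Equiv.Perm (Fin 64)) : Prop where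
  mem : g ∈ X
  cube : g ^ 3 = 1
  ct : g * hM 1 * g⁻¹ = hM t
  tu : g * hM t * g⁻¹ = hM u
  uc : g * hM u * g⁻¹ = hM 1
  inv : hM s * g * (hM s)⁻¹ = g⁻¹

theorem conj_natF {g a b : Equiv.Perm (Fin 64)} (h : g * a * g⁻¹ = b) {v : ℕ} (hv : v < 64) :
    natF g (natF a v) = natF b (natF g v) := by
  rw [← natF_mul _ _ hv, ← natF_mul _ _ hv, ← h, inv_mul_cancel_right]

section

variable {X : Subgroup (Equiv.Perm (Fin 64))} (hlin : ∀ x ∈ X, LinF (natF x))

include hlin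

theorem listed_of_elt {t u s : Fin 8} {g : Equiv.Perm (Fin 64)} (hg : ThreeElt X t u s g) {phi gens : List ℕ}
    {Rs : List (List (List (ℕ × ℕ × ℕ)))} {E : List (List (ℕ × ℕ × ℕ))} {cands : List (ℕ × List ℕ)}
    (hspec : specB phi gens Rs E = true) (hlist : ∀ xs ∈ stageOpts Rs [], okXsB E s cands xs = true) (hok : cands.all candB = true) (hlc : cands.all linB = true)
    (hs : hF s s = 0) (hphi : ∀ h : Fin 8, phi.getD h 8 < 8 →
      h = 0 ∧ phi.getD h 8 = 0 ∨ h = 1 ∧ phi.getD h 8 = t ∨ h = t ∧ phi.getD h 8 = u ∨ h = u ∧ phi.getD h 8 = 1) :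
    ∃ c ∈ cands, ∀ i ∈ c.2, i < pairTab.length ∧ Keeps g (pairTab.getD i (0, 0)) := by
  have hf := hlin g hg.mem
  obtain ⟨xs, hxs, e⟩ := twist_options hf hspec (fun h hh hp v hv => by
    rw [← natF_hM ⟨h, hh⟩ hv]
    rcases hphi ⟨h, hh⟩ hp with ⟨e, e'⟩ | ⟨e, e'⟩ | ⟨e, e'⟩ | ⟨e, e'⟩ <;> simp only at e' <;> rw [e, e']
    · rw [hM_zero, natF_one hv, mAct_zero_left _ (natF_lt g hv)]
    · rw [conj_natF hg.ct hv, natF_hM t (natF_lt g hv)]
    · rw [conj_natF hg.tu hv, natF_hM u (natF_lt g hv)]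
    · rw [conj_natF hg.uc hv, natF_hM 1 (natF_lt g hv)]; rfl)
  have hbit : ∀ k < 6, bitV k < 64 := fun k hk => (bit_expand 0 (by norm_num)).2 k (List.mem_range.2 hk)
  have h1 : ∀ k < 6, natF g (natF g (natF g (bitV k))) = bitV k := fun k hk => by
    have h := congrArg (fun σ => natF σ (bitV k)) hg.cube
    simp only [natF_one (hbit k hk), natF_pow _ _ (hbit k hk)] at h
    exact h
  have hsg : g * hM s = hM s * (g * g) := by
    have hinv : g⁻¹ = g * g := inv_eq_of_mul_eq_one_right (by rw [← hg.cube]; simp [pow_succ, mul_assoc])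
    have hs2 : (hM s)⁻¹ = hM s := inv_eq_of_mul_eq_one_right (by rw [hM_mul, hs, hM_zero])
    calc g * hM s = (hM s)⁻¹ * (hM s * g * (hM s)⁻¹) * (hM s * hM s) := by group
      _ = hM s * (g * g) := by rw [hg.inv, hs2, hinv, hM_mul s s, hs, hM_zero, mul_one]
  have h2 : ∀ k < 6, natF g (mAct s (bitV k)) = mAct s (natF g (natF g (bitV k))) := fun k hk => by
    rw [← natF_hM s (hbit k hk), ← natF_mul _ _ (hbit k hk), hsg, natF_mul _ _ (hbit k hk),
      natF_hM s (natF_lt _ (hbit k hk)), natF_mul _ _ (hbit k hk)]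
  have hb := hlist xs hxs
  simp only [okXsB, Bool.or_eq_true, Bool.not_eq_true', List.any_eq_true] at hb
  rcases hb with hb | ⟨c, hc, hb⟩
  · exfalso
    refine absurd ?_ (Bool.eq_false_iff.1 hb)
    simp only [List.all_eq_true, List.mem_range, Bool.and_eq_true, Nat.beq_eq]
    intro k hk
    have a1 := natF_lt g (hbit k hk)
    have a2 := natF_lt g a1
    refine ⟨?_, ?_⟩
    · rw [← e _ (hbit k hk), ← e _ a1, ← e _ a2, h1 k hk]
    · rw [← e _ (mAct_lt _ _), ← e _ (hbit k hk), ← e _ a1, h2 k hk]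
  · simp only [List.all_eq_true, List.mem_range, Nat.beq_eq] at hb
    have hc' := List.all_eq_true.1 hok c hc
    simp only [candB, Bool.and_eq_true, List.all_eq_true, decide_eq_true_eq] at hc'
    refine ⟨c, hc, fun i hi => ⟨(hc'.2 i hi).1, ?_⟩⟩
    have hk := (hc'.2 i hi).2
    have hp : ∃ pi, pairTab.getD i (0, 0) = pi := ⟨_, rfl⟩
    obtain ⟨p, hp⟩ := hp
    rw [hp] at hk ⊢
    -- the table agrees with the element on the basis
    have hlc' := List.all_eq_true.1 hlc c hc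
    simp only [linB, List.all_eq_true, List.mem_range, Nat.beq_eq] at hlc'
    have htab : ∀ v < 64, tabF c.1 v = natF g v := fun v hv => by
      rw [hlc' v hv, e v hv]
      refine lev_congr (fun k hk' => ?_) v
      rw [List.getD_eq_getElem _ _ (by simpa using hk'), List.getElem_map, List.getElem_range]
      exact hb k hk'
    simp only [keepB, List.all_eq_true, List.mem_range, Bool.and_eq_true, Bool.or_eq_true, Bool.not_eq_true'] at hk
    intro v hv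
    obtain ⟨k1, k2⟩ := hk v hv
    rw [htab v hv] at k1 k2
    exact ⟨fun h => k1.resolve_left (by rw [h]; exact Bool.noConfusion),
      fun h => k2.resolve_left (by rw [h]; exact Bool.noConfusion)⟩

omit hlin in
theorem exists_three (hc1 : X ⊓ centralizer {hM 1} = D8) (hD : D8 ≤ X) {t u s : Fin 8}
    (hV : hF 1 t = u ∧ hF t 1 = u ∧ hF s t = hF u s ∧ hF s 1 = hF 1 s ∧ hF s s = 0)
    (hne : t ≠ 0 ∧ u ≠ 0 ∧ t ≠ 1 ∧ u ≠ 1 ∧ t ≠ u ∧ s ≠ 0)
    (hct : ∀ h, hF h t = hF t h → h = 0 ∨ h = 1 ∨ h = t ∨ h = u)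
    (hcu : ∀ h, hF h u = hF u h → h = 0 ∨ h = 1 ∨ h = t ∨ h = u) (hsV : s ≠ 1 ∧ s ≠ t ∧ s ≠ u)
    {n : Equiv.Perm (Fin 64)} (hn : n ∈ X) (hnV : ∀ h, (h = 1 ∨ h = t ∨ h = u) →
      ∃ k, (k = 1 ∨ k = t ∨ k = u) ∧ n * hM h * n⁻¹ = hM k)
    (hnc : n * hM 1 * n⁻¹ ≠ hM 1) : ∃ g, ThreeElt X t u s g := by
  obtain ⟨hV1, hV2, hst, hs1, hss⟩ := hV
  obtain ⟨ht0, hu0, ht1, hu1, htu, hs0⟩ := hne
  set r := hM s with hr
  have hr2 : r * r = 1 := by rw [hr, hM_mul, hss, hM_zero]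
  have hri : r⁻¹ = r := inv_eq_of_mul_eq_one_right hr2
  have r1 : r * hM 1 * r⁻¹ = hM 1 := by
    rw [show r * hM 1 = hM 1 * r from ((hM_commute_iff s 1).2 hs1).eq, mul_inv_cancel_right]
  have rt : r * hM t * r⁻¹ = hM u := by rw [hr, hM_mul, hst, ← hM_mul, mul_inv_cancel_right]
  have ru : r * hM u * r⁻¹ = hM t := by
    calc r * hM u * r⁻¹ = r * (r * hM t * r⁻¹) * r⁻¹ := by rw [rt]
      _ = (r * r) * hM t * (r * r)⁻¹ := by group
      _ = hM t := by rw [hr2]; group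
  -- the images under `n`
  set q := n * r * n⁻¹ with hq
  have hqX : q ∈ X := mul_mem (mul_mem hn (hD ⟨s, rfl⟩)) (inv_mem hn)
  have hq2 : q * q = 1 := by rw [hq, show n * r * n⁻¹ * (n * r * n⁻¹) = n * (r * r) * n⁻¹ by group, hr2]; group
  obtain ⟨a, ha, na⟩ := hnV 1 (Or.inl rfl)
  obtain ⟨b, hb, nb⟩ := hnV t (Or.inr (Or.inl rfl))
  obtain ⟨c, hc, nc⟩ := hnV u (Or.inr (Or.inr rfl))
  have conjq : ∀ {x y z w}, r * x * r⁻¹ = y → n * x * n⁻¹ = z → n * y * n⁻¹ = w → q * z * q⁻¹ = w :=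
    fun h1 h2 h3 => by rw [← h3, ← h1, ← h2, hq]; group
  have qa := conjq r1 na na
  have qb := conjq rt nb nc
  have qc := conjq ru nc nb
  have cinj : ∀ {x y : Fin 8} {i j : Fin 8}, n * hM x * n⁻¹ = hM i → n * hM y * n⁻¹ = hM j → i = j → x = y :=
    fun h1 h2 e => hM_inj _ _ (mul_left_cancel (mul_right_cancel ((e ▸ h1).trans h2.symm)))
  have hab : a ≠ b := fun e => ht1 (cinj na nb e).symm
  have hac : a ≠ c := fun e => hu1 (cinj na nc e).symm
  have hbc : b ≠ c := fun e => htu (cinj nb nc e)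
  have ha1 : a ≠ 1 := fun e => hnc (by rw [na, e])
  -- the product of the two reflections
  have main : ∃ g ∈ X, g * hM 1 * g⁻¹ = hM t ∧ g * hM t * g⁻¹ = hM u ∧ g * hM u * g⁻¹ = hM 1 ∧ r * g * r⁻¹ = g⁻¹ := by
    have inv_of : ∀ {g x y : Equiv.Perm (Fin 64)}, g * x * g⁻¹ = y → g⁻¹ * y * g⁻¹⁻¹ = x :=
      fun {g x y} h => by rw [← h]; group
    have comp_of : ∀ {f g x y w : Equiv.Perm (Fin 64)}, g * x * g⁻¹ = y → f * y * f⁻¹ = w →
        f * g * x * (f * g)⁻¹ = w :=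
      fun {f g x y w} h1 h2 => by rw [← h2, ← h1]; group
    have hrq : r * (r * q) * r⁻¹ = (r * q)⁻¹ := by
      rw [mul_inv_rev, hri, inv_eq_of_mul_eq_one_right hq2, ← mul_assoc, hr2, one_mul]
    have hrq' : r * (r * q)⁻¹ * r⁻¹ = (r * q)⁻¹⁻¹ := by
      rw [show r * (r * q)⁻¹ * r⁻¹ = (r * (r * q) * r⁻¹)⁻¹ by group, hrq]
    rcases ha with rfl | rfl | rfl
    · exact absurd rfl ha1
    · -- the first moves to `t`
      have hbc' : b = 1 ∧ c = u ∨ b = u ∧ c = 1 := by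
        rcases hb with rfl | rfl | rfl <;> rcases hc with rfl | rfl | rfl <;> first
          | exact Or.inl ⟨rfl, rfl⟩ | exact Or.inr ⟨rfl, rfl⟩ | exact absurd rfl hab
          | exact absurd rfl hac | exact absurd rfl hbc
      have q1 : q * hM 1 * q⁻¹ = hM u ∧ q * hM u * q⁻¹ = hM 1 := by
        rcases hbc' with ⟨rfl, rfl⟩ | ⟨rfl, rfl⟩
        exacts [⟨qb, qc⟩, ⟨qc, qb⟩]
      exact ⟨r * q, mul_mem (hD ⟨s, rfl⟩) hqX, comp_of q1.1 ru, comp_of qa rt, comp_of q1.2 r1, hrq⟩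
    · have hbc' : b = 1 ∧ c = t ∨ b = t ∧ c = 1 := by
        rcases hb with rfl | rfl | rfl <;> rcases hc with rfl | rfl | rfl <;> first
          | exact Or.inl ⟨rfl, rfl⟩ | exact Or.inr ⟨rfl, rfl⟩ | exact absurd rfl hab
          | exact absurd rfl hac | exact absurd rfl hbc
      have q1 : q * hM 1 * q⁻¹ = hM t ∧ q * hM t * q⁻¹ = hM 1 := by
        rcases hbc' with ⟨rfl, rfl⟩ | ⟨rfl, rfl⟩
        exacts [⟨qb, qc⟩, ⟨qc, qb⟩]
      exact ⟨(r * q)⁻¹, inv_mem (mul_mem (hD ⟨s, rfl⟩) hqX), inv_of (comp_of q1.2 r1), inv_of (comp_of qa ru),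
        inv_of (comp_of q1.1 rt), hrq'⟩
  obtain ⟨g, hg, g1, g2, g3, gs⟩ := main
  refine ⟨g, hg, ?_, g1, g2, g3, gs⟩
  have h31 : g ^ 3 * hM 1 * (g ^ 3)⁻¹ = hM 1 := by
    rw [show g ^ 3 * hM 1 * (g ^ 3)⁻¹ = g * (g * (g * hM 1 * g⁻¹) * g⁻¹) * g⁻¹ by
      simp only [pow_succ, pow_zero, one_mul, mul_inv_rev, mul_assoc], g1, g2, g3]
  have h3t : g ^ 3 * hM t * (g ^ 3)⁻¹ = hM t := by
    rw [show g ^ 3 * hM t * (g ^ 3)⁻¹ = g * (g * (g * hM t * g⁻¹) * g⁻¹) * g⁻¹ by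
      simp only [pow_succ, pow_zero, one_mul, mul_inv_rev, mul_assoc], g2, g3, g1]
  obtain ⟨h, hh⟩ : g ^ 3 ∈ D8 := hc1 ▸ ⟨pow_mem hg 3, mem_centralizer_singleton_iff.2 (mul_inv_eq_iff_eq_mul.1 h31)⟩
  have hcomm : Commute g (hM h) := hh ▸ Commute.self_pow g 3
  have hfix : g * hM h * g⁻¹ = hM h := by rw [hcomm.eq, mul_inv_cancel_right]
  rcases hct h ((hM_commute_iff h t).1 (hh ▸ mul_inv_eq_iff_eq_mul.1 h3t)) with rfl | rfl | rfl | rfl
  · rw [← hh, hM_zero]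
  · exact absurd (hM_inj _ _ (g1.symm.trans hfix)) ht1
  · exact absurd (hM_inj _ _ (g2.symm.trans hfix)).symm htu
  · exact absurd (hM_inj _ _ (g3.symm.trans hfix)).symm hu1

omit hlin in
theorem exists_mover_of_conj (hc1 : X ⊓ centralizer {hM 1} = D8) (hD : D8 ≤ X) {t u : Fin 8}
    (hV : hF 1 t = u) (ht : hF t t = 0 ∧ t ≠ 0 ∧ t ≠ 1 ∧ hF 1 t = hF t 1)
    {x : Equiv.Perm (Fin 64)} (hx : x ∈ X) (hxc : x * hM 1 * x⁻¹ = hM t) :
    ∃ n ∈ X, n * hM 1 * n⁻¹ = hM u ∧ n * hM t * n⁻¹ = hM t ∧ n * hM u * n⁻¹ = hM 1 := by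
  obtain ⟨ht2, ht0, ht1, htc⟩ := ht
  have hmem : x⁻¹ * hM 1 * x ∈ D8 := hc1 ▸ Subgroup.mem_inf.2 ⟨mul_mem (mul_mem (inv_mem hx) (hD ⟨1, rfl⟩)) hx,
    mem_centralizer_singleton_iff.2 (by
      have hc : Commute (hM 1) (hM t) := (hM_commute_iff 1 t).2 htc
      rw [← hxc] at hc
      have := (Commute.conj_iff x⁻¹).2 hc
      rw [show x⁻¹ * (x * hM 1 * x⁻¹) * x⁻¹⁻¹ = hM 1 by group, inv_inv] at this
      exact this.eq)⟩
  obtain ⟨h, hh⟩ := hmem
  have h2 : hF h h = 0 := hM_inj _ _ (by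
    rw [← hM_mul, hh, show x⁻¹ * hM 1 * x * (x⁻¹ * hM 1 * x) = x⁻¹ * (hM 1 * hM 1) * x by group, hM_mul, hM_zero,
      show hF 1 1 = 0 by decide +kernel, hM_zero]
    group)
  have h0 : h ≠ 0 := fun e => by
    rw [e, hM_zero] at hh
    have : hM 1 = hM 0 := by rw [hM_zero]; exact (conj_eq_one_iff (a := x⁻¹)).1 (by rw [inv_inv]; exact hh.symm)
    exact absurd (hM_inj _ _ this) (by decide)
  have h1 : h ≠ 1 := fun e => by
    rw [e] at hh
    refine ht1 (hM_inj _ _ ?_)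
    rw [← hxc]
    conv_lhs => rw [hh]
    group
  obtain ⟨k, hk1, hk2⟩ : ∃ k, hF k 1 = hF 1 k ∧ hF k h = hF (hF h 1) k :=
    (by decide +kernel : ∀ h : Fin 8, hF h h = 0 → h ≠ 0 → h ≠ 1 → ∃ k, hF k 1 = hF 1 k ∧ hF k h = hF (hF h 1) k)
      h h2 h0 h1
  have kh : hM k * hM h * (hM k)⁻¹ = hM h * hM 1 := by
    rw [hM_mul, hk2, ← hM_mul, mul_inv_cancel_right, hM_mul]
  have k1 : hM k * hM 1 * (hM k)⁻¹ = hM 1 := by
    rw [((hM_commute_iff k 1).2 hk1).eq, mul_inv_cancel_right]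
  have hxh : x * hM h * x⁻¹ = hM 1 := by rw [hh]; group
  have hu : hM u = hM 1 * hM t := by rw [hM_mul, hV]
  refine ⟨x * hM k * x⁻¹, mul_mem (mul_mem hx (hD ⟨k, rfl⟩)) (inv_mem hx), ?_, ?_, ?_⟩
  · conv_lhs => rw [← hxh]
    rw [show x * hM k * x⁻¹ * (x * hM h * x⁻¹) * (x * hM k * x⁻¹)⁻¹ =
      x * (hM k * hM h * (hM k)⁻¹) * x⁻¹ by group, kh, hu,
      show x * (hM h * hM 1) * x⁻¹ = (x * hM h * x⁻¹) * (x * hM 1 * x⁻¹) by group, hxh, hxc]
  · rw [← hxc, show x * hM k * x⁻¹ * (x * hM 1 * x⁻¹) * (x * hM k * x⁻¹)⁻¹ =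
      x * (hM k * hM 1 * (hM k)⁻¹) * x⁻¹ by group, k1]
  · rw [hu]
    have hh1 : hM 1 * hM 1 = 1 := by rw [hM_mul, show hF 1 1 = 0 by decide +kernel, hM_zero]
    conv_lhs => rw [← hxh, ← hxc]
    rw [show x * hM k * x⁻¹ * (x * hM h * x⁻¹ * (x * hM 1 * x⁻¹)) * (x * hM k * x⁻¹)⁻¹ =
      x * (hM k * hM h * (hM k)⁻¹ * (hM k * hM 1 * (hM k)⁻¹)) * x⁻¹ by group, kh, k1,
      mul_assoc (hM h), hh1, mul_one, hxh]

end

end CfsgLib.M24Quot
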