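import Cfsg.Agent.Lib.M24Quot.Base

/-!
The elementary abelian subgroups of order 32 of the model outside the abelian subgroup of order 64.
-/

set_option autoImplicit false
set_option maxRecDepth 8000
set_option synthInstance.maxSize 2000

namespace CfsgLib.M24Quot

open Subgroup

/-- The fixed vectors of an element of the dihedral group. -/
def fixSet (h : ℕ) : Finset ℕ := (Finset.range 64).filter fun v => mAct h v = v

/-- Membership in the elementary abelian subgroup of order 32 over an involution of the dihedral group. -/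
def EP (h x : ℕ) : Prop := (x / 64 = 0 ∨ x / 64 = h) ∧ mAct h (x % 64) = x % 64

instance instDecidableEP (h x : ℕ) : Decidable (EP h x) := inferInstanceAs (Decidable (_ ∧ _))

theorem act_bracket : ∀ h < 8, ∀ k < 8, k ≠ 0 → hMul k k = 0 → hMul h k = hMul k h → ∀ v < 64,
    mAct k (v ^^^ mAct h v) = v ^^^ mAct h v := by decide +kernel

theorem sq_of_commute : ∀ h < 8, ∀ k < 8, k ≠ 0 → hMul k k = 0 → hMul h k = hMul k h →
    hMul h h = 0 ∨ hMul h h = k := by decide +kernel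

theorem card_fixSet : ∀ k < 8, k ≠ 0 → hMul k k = 0 → (fixSet k).card = 16 := by decide +kernel

theorem card_fixSet_two : ∀ k < 8, ∀ l < 8, k ≠ 0 → l ≠ 0 → l ≠ k → hMul k k = 0 → hMul l l = 0 →
    hMul k l = hMul l k → (fixSet k ∩ fixSet l).card = 8 := by decide +kernel

theorem comm_three : ∀ k < 8, ∀ l < 8, ∀ j < 8, k ≠ 0 → l ≠ 0 → l ≠ k → hMul k k = 0 → hMul l l = 0 →
    hMul j j = 0 → hMul k l = hMul l k → hMul k j = hMul j k → hMul l j = hMul j l →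
    j = 0 ∨ j = k ∨ j = l ∨ j = hMul k l := by
  have h : ∀ k < 8, ∀ l < 8, ∀ j < 8, (k ≠ 0 ∧ l ≠ 0 ∧ l ≠ k ∧ hMul k k = 0 ∧ hMul l l = 0 ∧
      hMul j j = 0 ∧ hMul k l = hMul l k ∧ hMul k j = hMul j k ∧ hMul l j = hMul j l) →
      j = 0 ∨ j = k ∨ j = l ∨ j = hMul k l := by decide +kernel
  exact fun k hk l hl j hj a b c d e f g i m => h k hk l hl j hj ⟨a, b, c, d, e, f, g, i, m⟩

theorem card_EP : ∀ h < 8, h ≠ 0 → hMul h h = 0 → ((Finset.range 512).filter (EP h)).card = 32 := by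
  decide +kernel

theorem two_brackets : ∀ h < 8, h ≠ 0 → hMul h h = 0 → ∃ v < 64, ∃ w < 64,
    v ^^^ mAct h v ≠ 0 ∧ w ^^^ mAct h w ≠ 0 ∧ v ^^^ mAct h v ≠ w ^^^ mAct h w := by decide +kernel

namespace Setting

variable {G : Type*} [Group G] (σ : Setting G)

/-- The part in the dihedral group of an element of the Sylow subgroup. -/
noncomputable def hdG (x : G) : ℕ := by
  classical exact if h : x ∈ (σ.S : Subgroup G) then σ.c.hd ⟨x, h⟩ else 0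

/-- The vector of an element of the Sylow subgroup. -/
noncomputable def vecG (x : G) : ℕ := by
  classical exact if h : x ∈ (σ.S : Subgroup G) then σ.c.code ⟨x, h⟩ % 64 else 0

theorem hdG_coe (s : ↥(σ.S : Subgroup G)) : σ.hdG s = σ.c.hd s := by simp [hdG, s.2]

theorem vecG_coe (s : ↥(σ.S : Subgroup G)) : σ.vecG s = σ.c.code s % 64 := by simp [vecG, s.2]

theorem hdG_lt {x : G} (hx : x ∈ (σ.S : Subgroup G)) : σ.hdG x < 8 := by
  rw [σ.hdG_coe ⟨x, hx⟩]; exact σ.c.hd_lt _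

theorem vecG_lt {x : G} (hx : x ∈ (σ.S : Subgroup G)) : σ.vecG x < 64 := by
  rw [σ.vecG_coe ⟨x, hx⟩]; exact Nat.mod_lt _ (by norm_num)

theorem hdG_eq_zero_iff {x : G} (hx : x ∈ (σ.S : Subgroup G)) : σ.hdG x = 0 ↔ x ∈ σ.A := by
  rw [σ.hdG_coe ⟨x, hx⟩]; exact σ.hd_zero_iff _

theorem ext_code {x y : G} (hx : x ∈ (σ.S : Subgroup G)) (hy : y ∈ (σ.S : Subgroup G))
    (h1 : σ.hdG x = σ.hdG y) (h2 : σ.vecG x = σ.vecG y) : x = y := by
  rw [σ.hdG_coe ⟨x, hx⟩, σ.hdG_coe ⟨y, hy⟩, Coord.hd, Coord.hd] at h1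
  rw [σ.vecG_coe ⟨x, hx⟩, σ.vecG_coe ⟨y, hy⟩] at h2
  exact congrArg Subtype.val (σ.c.inj (a₁ := ⟨x, hx⟩) (a₂ := ⟨y, hy⟩) (by omega))

theorem hdG_mul {x y : G} (hx : x ∈ (σ.S : Subgroup G)) (hy : y ∈ (σ.S : Subgroup G)) :
    σ.hdG (x * y) = hMul (σ.hdG x) (σ.hdG y) := by
  rw [σ.hdG_coe ⟨x, hx⟩, σ.hdG_coe ⟨y, hy⟩, ← σ.c.hd_mul]
  exact σ.hdG_coe (⟨x, hx⟩ * ⟨y, hy⟩)

theorem vecG_mul {x y : G} (hx : x ∈ (σ.S : Subgroup G)) (hy : y ∈ (σ.S : Subgroup G)) :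
    σ.vecG (x * y) = σ.vecG x ^^^ mAct (σ.hdG x) (σ.vecG y) := by
  rw [σ.hdG_coe ⟨x, hx⟩, σ.vecG_coe ⟨x, hx⟩, σ.vecG_coe ⟨y, hy⟩, Coord.hd]
  rw [show x * y = ((⟨x, hx⟩ * ⟨y, hy⟩ : ↥(σ.S : Subgroup G)) : G) from rfl, σ.vecG_coe, σ.c.code_mul, mMul_mod]

theorem hdG_one : σ.hdG 1 = 0 := (σ.hdG_eq_zero_iff (one_mem _)).2 (one_mem _)

theorem vecG_one : σ.vecG 1 = 0 := by
  rw [show (1 : G) = ((1 : ↥(σ.S : Subgroup G)) : G) from rfl, σ.vecG_coe, σ.c.code_one]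

theorem vecG_eq_vec {a : G} (ha : a ∈ σ.A) : σ.vecG a = σ.vec ⟨a, ha⟩ := by
  rw [σ.vecG_coe ⟨a, σ.le ha⟩]; exact Nat.mod_eq_of_lt (σ.vec_lt ⟨a, ha⟩)

theorem exists_mem_A {v : ℕ} (hv : v < 64) : ∃ a ∈ σ.A, σ.vecG a = v := by
  obtain ⟨a, ha⟩ := σ.vec_surj hv
  exact ⟨a, a.2, by rw [σ.vecG_eq_vec a.2]; exact ha⟩

theorem eq_of_vecG {a b : G} (ha : a ∈ σ.A) (hb : b ∈ σ.A) (h : σ.vecG a = σ.vecG b) : a = b :=
  σ.ext_code (σ.le ha) (σ.le hb)
    (by rw [(σ.hdG_eq_zero_iff (σ.le ha)).2 ha, (σ.hdG_eq_zero_iff (σ.le hb)).2 hb]) h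

theorem sq_eq_one_iff {x : G} (hx : x ∈ (σ.S : Subgroup G)) :
    x * x = 1 ↔ hMul (σ.hdG x) (σ.hdG x) = 0 ∧ mAct (σ.hdG x) (σ.vecG x) = σ.vecG x := by
  constructor
  · intro h
    have h1 := σ.hdG_mul hx hx
    have h2 := σ.vecG_mul hx hx
    rw [h, σ.hdG_one] at h1
    rw [h, σ.vecG_one] at h2
    exact ⟨h1.symm, (xor_eq_zero_imp h2.symm).symm⟩
  · rintro ⟨h1, h2⟩
    refine σ.ext_code (mul_mem hx hx) (one_mem _) ?_ ?_
    · rw [σ.hdG_mul hx hx, h1, σ.hdG_one]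
    · rw [σ.vecG_mul hx hx, h2, Nat.xor_self, σ.vecG_one]
where
  xor_eq_zero_imp {a b : ℕ} (h : a ^^^ b = 0) : a = b := by
    have h' := congrArg (a ^^^ ·) h
    simp only [← Nat.xor_assoc, Nat.xor_self, Nat.zero_xor, Nat.xor_zero] at h'
    exact h'.symm

/-- The product of `b` with its conjugate by `e`. -/
theorem bracket {b e : G} (hb : b ∈ σ.A) (he : e ∈ (σ.S : Subgroup G)) :
    b * (e * b * e⁻¹) ∈ σ.A ∧ σ.vecG (b * (e * b * e⁻¹)) = σ.vecG b ^^^ mAct (σ.hdG e) (σ.vecG b) ∧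
      b * e * b⁻¹ = b * (e * b * e⁻¹) * e := by
  have hc := σ.conj_mem he hb
  refine ⟨mul_mem hb hc, ?_, ?_⟩
  · rw [σ.vecG_mul (σ.le hb) (σ.le hc), (σ.hdG_eq_zero_iff (σ.le hb)).2 hb,
      mAct_zero_left _ (σ.vecG_lt (σ.le hc)), σ.vecG_eq_vec hc, σ.vecG_eq_vec hb]
    have h := σ.vec_conj ⟨e, he⟩ ⟨b, hb⟩
    rw [show σ.hdG e = σ.c.hd ⟨e, he⟩ from σ.hdG_coe ⟨e, he⟩]
    rw [h]
  · have hb1 : b⁻¹ = b := inv_eq_of_mul_eq_one_right (σ.sq_of_mem hb)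
    rw [hb1]; simp [mul_assoc]

/-- An elementary abelian subgroup of order 32 of the Sylow subgroup, not inside `A`: the product of `b` in `A` with
its conjugate lies in it, and if its part in `A` has order 16 it is one of the standard subgroups. -/
theorem elem_thirtyTwo {E : Subgroup G} (hE : E ≤ (σ.S : Subgroup G)) (hE2 : ∀ x ∈ E, x * x = 1)
    (hcard : Nat.card ↥E = 32) {e : G} (he : e ∈ E) (heA : e ∉ σ.A) :
    (∀ b ∈ σ.A, ∀ x ∈ E, b * (x * b * x⁻¹) ∈ E) ∧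
      (Nat.card ↥(E ⊓ σ.A) = 16 → ∀ x, x ∈ E ↔ x ∈ (σ.S : Subgroup G) ∧
        EP (σ.hdG e) (64 * σ.hdG x + σ.vecG x)) := by
  classical
  have hcomm : ∀ x ∈ E, ∀ y ∈ E, x * y = y * x := fun x hx y hy => by
    have h := inv_eq_of_mul_eq_one_right (hE2 _ (mul_mem hx hy))
    rwa [mul_inv_rev, inv_eq_of_mul_eq_one_right (hE2 x hx), inv_eq_of_mul_eq_one_right (hE2 y hy), eq_comm] at h
  have hinv : ∀ x ∈ E, hMul (σ.hdG x) (σ.hdG x) = 0 ∧ mAct (σ.hdG x) (σ.vecG x) = σ.vecG x :=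
    fun x hx => (σ.sq_eq_one_iff (hE hx)).1 (hE2 x hx)
  have hcomd : ∀ x ∈ E, ∀ y ∈ E, hMul (σ.hdG x) (σ.hdG y) = hMul (σ.hdG y) (σ.hdG x) := fun x hx y hy => by
    rw [← σ.hdG_mul (hE hx) (hE hy), ← σ.hdG_mul (hE hy) (hE hx), hcomm x hx y hy]
  have hfin : Finite ↥E := Nat.finite_of_card_ne_zero (by omega)
  set K : Subgroup G := E ⊓ σ.A with hK
  have : Finite ↥K := Finite.of_injective (Subgroup.inclusion (inf_le_left : K ≤ E))
    (Subgroup.inclusion_injective _)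
  -- counting
  have hcount : ∀ I : Finset ℕ, (∀ x ∈ E, σ.hdG x ∈ I) → 32 ≤ I.card * Nat.card ↥K := by
    intro I hI
    have hrep : ∀ i : ℕ, ∃ r ∈ E, (∃ x ∈ E, σ.hdG x = i) → σ.hdG r = i := fun i => by
      by_cases h : ∃ x ∈ E, σ.hdG x = i
      · obtain ⟨x, hx, hxi⟩ := h
        exact ⟨x, hx, fun _ => hxi⟩
      · exact ⟨1, one_mem _, fun h' => absurd h' h⟩
    choose r hrE hr using hrep
    have hmem : ∀ x : ↥E, (x : G) * r (σ.hdG x) ∈ K := fun x => by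
      refine ⟨mul_mem x.2 (hrE _), (σ.hdG_eq_zero_iff (hE (mul_mem x.2 (hrE _)))).1 ?_⟩
      rw [σ.hdG_mul (hE x.2) (hE (hrE _)), hr _ ⟨x, x.2, rfl⟩]
      exact (hinv x x.2).1
    let φ : ↥E → ↥I × ↥K := fun x => (⟨σ.hdG x, hI x x.2⟩, ⟨_, hmem x⟩)
    have hφ : Function.Injective φ := fun x y h => by
      simp only [φ, Prod.mk.injEq, Subtype.mk.injEq] at h
      rw [h.1] at h
      exact Subtype.ext (mul_right_cancel h.2)
    have := Nat.card_le_card_of_injective φ hφ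
    simpa [Nat.card_prod, hcard] using this
  have hKle : ∀ F : Finset ℕ, (∀ a ∈ K, σ.vecG a ∈ F) → Nat.card ↥K ≤ F.card := fun F hF => by
    have := Nat.card_le_card_of_injective (fun a : ↥K => (⟨σ.vecG a, hF a a.2⟩ : ↥F))
      fun a b h => Subtype.ext (σ.eq_of_vecG a.2.2 b.2.2 (congrArg Subtype.val h))
    simpa using this
  have hfull : ∀ F : Finset ℕ, (∀ a ∈ K, σ.vecG a ∈ F) → F.card ≤ Nat.card ↥K →
      ∀ v ∈ F, ∃ a ∈ K, σ.vecG a = v := fun F hF hle v hv => by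
    have hb : Function.Bijective (fun a : ↥K => (⟨σ.vecG a, hF a a.2⟩ : ↥F)) :=
      (Nat.bijective_iff_injective_and_card _).2
        ⟨fun a b h => Subtype.ext (σ.eq_of_vecG a.2.2 b.2.2 (congrArg Subtype.val h)),
          le_antisymm (by simpa using hKle F hF) (by simpa using hle)⟩
    obtain ⟨a, ha⟩ := hb.2 ⟨v, hv⟩
    exact ⟨a, a.2, congrArg Subtype.val ha⟩
  have hfix : ∀ y ∈ E, ∀ a ∈ K, σ.vecG a ∈ fixSet (σ.hdG y) := fun y hy a ha => by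
    have h := congrArg σ.vecG (hcomm a ha.1 y hy)
    rw [σ.vecG_mul (σ.le ha.2) (hE hy), σ.vecG_mul (hE hy) (σ.le ha.2), (σ.hdG_eq_zero_iff (σ.le ha.2)).2 ha.2,
      mAct_zero_left _ (σ.vecG_lt (hE hy)), Nat.xor_comm] at h
    have h' := congrArg (σ.vecG y ^^^ ·) h
    simp only [← Nat.xor_assoc, Nat.xor_self, Nat.zero_xor] at h'
    exact Finset.mem_filter.2 ⟨Finset.mem_range.2 (σ.vecG_lt (σ.le ha.2)), h'.symm⟩
  have hbr : ∀ b ∈ σ.A, ∀ x ∈ E, ∀ y ∈ E, σ.hdG y ≠ 0 →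
      σ.vecG (b * (x * b * x⁻¹)) ∈ fixSet (σ.hdG y) := fun b hb x hx y hy hy0 => by
    obtain ⟨hbA, hbv, -⟩ := σ.bracket hb (hE hx)
    refine Finset.mem_filter.2 ⟨Finset.mem_range.2 (σ.vecG_lt (σ.le hbA)), ?_⟩
    rw [hbv]
    exact act_bracket _ (σ.hdG_lt (hE hx)) _ (σ.hdG_lt (hE hy)) hy0 (hinv y hy).1 (hcomd x hx y hy) _
      (σ.vecG_lt (σ.le hb))
  set k := σ.hdG e with hk
  have hk0 : k ≠ 0 := fun h => heA ((σ.hdG_eq_zero_iff (hE he)).1 h)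
  have hkl : k < 8 := σ.hdG_lt (hE he)
  have hkk : hMul k k = 0 := (hinv e he).1
  have hfromK : ∀ b ∈ σ.A, ∀ x ∈ E, (∃ a ∈ K, σ.vecG a = σ.vecG (b * (x * b * x⁻¹))) →
      b * (x * b * x⁻¹) ∈ E := fun b hb x hx ⟨a, ha, hav⟩ => by
    rw [σ.eq_of_vecG (σ.bracket hb (hE hx)).1 ha.2 hav.symm]
    exact ha.1
  by_cases hall : ∀ x ∈ E, σ.hdG x = 0 ∨ σ.hdG x = k
  · have h32 := hcount {0, k} fun x hx => by simpa using hall x hx
    rw [Finset.card_pair (Ne.symm hk0)] at h32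
    have hK16 : (fixSet k).card ≤ Nat.card ↥K := by rw [card_fixSet k hkl hk0 hkk]; omega
    have hex := hfull _ (hfix e he) hK16
    refine ⟨fun b hb x hx => hfromK b hb x hx (hex _ (hbr b hb x hx e he hk0)), fun _ x => ⟨fun hx => ?_, ?_⟩⟩
    · have hv := σ.vecG_lt (hE hx)
      refine ⟨hE hx, ?_⟩
      rw [EP, show (64 * σ.hdG x + σ.vecG x) / 64 = σ.hdG x by omega,
        show (64 * σ.hdG x + σ.vecG x) % 64 = σ.vecG x by omega]
      refine ⟨hall x hx, ?_⟩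
      rcases hall x hx with h0 | h0
      · exact (Finset.mem_filter.1 (hfix e he x ⟨hx, (σ.hdG_eq_zero_iff (hE hx)).1 h0⟩)).2
      · rw [← h0]; exact (hinv x hx).2
    · rintro ⟨hxS, hep⟩
      have hv := σ.vecG_lt hxS
      rw [EP, show (64 * σ.hdG x + σ.vecG x) / 64 = σ.hdG x by omega,
        show (64 * σ.hdG x + σ.vecG x) % 64 = σ.vecG x by omega] at hep
      rcases hep.1 with h0 | h0
      · obtain ⟨a, ha, hav⟩ := hex _ (Finset.mem_filter.2 ⟨Finset.mem_range.2 hv, hep.2⟩)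
        rw [σ.eq_of_vecG ((σ.hdG_eq_zero_iff hxS).1 h0) ha.2 hav.symm]
        exact ha.1
      · have hy : σ.hdG (x * e) = 0 := by rw [σ.hdG_mul hxS (hE he), h0]; exact hkk
        have hyA : x * e ∈ σ.A := (σ.hdG_eq_zero_iff (mul_mem hxS (hE he))).1 hy
        have hyv : σ.vecG (x * e) ∈ fixSet k := by
          refine Finset.mem_filter.2 ⟨Finset.mem_range.2 (σ.vecG_lt (σ.le hyA)), ?_⟩
          rw [σ.vecG_mul hxS (hE he), h0, show mAct k (σ.vecG e) = σ.vecG e from (hinv e he).2,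
            mAct_xor k hkl _ hv _ (σ.vecG_lt (hE he)), hep.2, show mAct k (σ.vecG e) = σ.vecG e from (hinv e he).2]
        obtain ⟨a, ha, hav⟩ := hex _ hyv
        rw [show x = x * e * e by rw [mul_assoc, hE2 e he, mul_one], σ.eq_of_vecG hyA ha.2 hav.symm]
        exact mul_mem ha.1 he
  · push Not at hall
    obtain ⟨y, hy, hl0, hlk⟩ := hall
    set l := σ.hdG y with hl
    have hll : l < 8 := σ.hdG_lt (hE hy)
    have hI : ∀ x ∈ E, σ.hdG x ∈ ({0, k, l, hMul k l} : Finset ℕ) := fun x hx => by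
      have := comm_three k hkl l hll _ (σ.hdG_lt (hE hx)) hk0 hl0 hlk hkk (hinv y hy).1 (hinv x hx).1
        (hcomd e he y hy) (hcomd e he x hx) (hcomd y hy x hx)
      simpa using this
    have h32 := hcount _ hI
    have hI4 : ({0, k, l, hMul k l} : Finset ℕ).card ≤ 4 := Finset.card_le_four
    have hFK : ∀ a ∈ K, σ.vecG a ∈ fixSet k ∩ fixSet l :=
      fun a ha => Finset.mem_inter.2 ⟨hfix e he a ha, hfix y hy a ha⟩
    have h8 : (fixSet k ∩ fixSet l).card = 8 :=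
      card_fixSet_two k hkl l hll hk0 hl0 hlk hkk (hinv y hy).1 (hcomd e he y hy)
    have hK8 : 8 ≤ Nat.card ↥K := by nlinarith [hI4, h32]
    have hex := hfull _ hFK (h8 ▸ hK8)
    refine ⟨fun b hb x hx => hfromK b hb x hx
      (hex _ (Finset.mem_inter.2 ⟨hbr b hb x hx e he hk0, hbr b hb x hx y hy hl0⟩)), fun h16 => ?_⟩
    have := hKle _ hFK
    omega

end Setting

end CfsgLib.M24Quot
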