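import Mathlib.GroupTheory.Index
import Mathlib.GroupTheory.OrderOfElement
import Mathlib.Algebra.Group.Subgroup.Ker
import Mathlib.Algebra.Group.End
import Cfsg.Agent.Lib.M24Quot.Base
import Mathlib.Tactic.IntervalCases
import Mathlib.Tactic.Group
import Mathlib.Data.Fintype.Card

/-!
Groups of automorphisms of odd order of an elementary abelian group of order 8 normalised by a four-group.
-/

set_option autoImplicit false

namespace CfsgLib.M24Quot

variable {V : Type*} [Group V] [Finite V]

/-- An automorphism of odd order commuting with an involution of `Aut V`, `V` elementary abelian of order 8,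
is trivial. -/
theorem eq_one_of_commute_involution (hV : ∀ v : V, v * v = 1) (hcard : Nat.card V = 8)
    {s y : MulAut V} (hs : s * s = 1) (hs1 : s ≠ 1) (hy : Odd (orderOf y)) (hsy : s * y = y * s) : y = 1 := by
  have hc : ∀ a b : V, a * b = b * a := fun a b => by
    have h := inv_eq_of_mul_eq_one_right (hV (a * b))
    rwa [mul_inv_rev, inv_eq_of_mul_eq_one_right (hV a), inv_eq_of_mul_eq_one_right (hV b), eq_comm] at h
  have hss : ∀ v, s (s v) = v := fun v => by
    have := DFunLike.congr_fun hs v
    simpa using this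
  have hsy' : ∀ v, s (y v) = y (s v) := fun v => by
    have := DFunLike.congr_fun hsy v
    simpa using this
  -- the commutator with `s`
  let d : V →* V := MonoidHom.mk' (fun v => v * s v) fun a b => by
    rw [map_mul, mul_assoc a, ← mul_assoc b, hc b (s a), mul_assoc (s a), ← mul_assoc a]
  have hd : ∀ v, d v = v * s v := fun _ => rfl
  have hker : ∀ v, v ∈ d.ker ↔ s v = v := fun v => by
    rw [MonoidHom.mem_ker, hd]
    exact ⟨fun h => mul_left_cancel (h.trans (hV v).symm), fun h => by rw [h, hV]⟩
  have hrange : d.range ≤ d.ker := by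
    rintro _ ⟨v, rfl⟩
    rw [hker, hd, map_mul, hss, hc]
  have hmul : Nat.card ↥d.ker * Nat.card ↥d.range = 8 := by
    rw [← Subgroup.index_ker, Subgroup.card_mul_index, hcard]
  have hle : Nat.card ↥d.range ≤ Nat.card ↥d.ker := Subgroup.card_le_of_le hrange
  have hne : 2 ≤ Nat.card ↥d.range := by
    by_contra h
    refine hs1 (MulEquiv.ext fun v => ?_)
    have hb : d.range = ⊥ := Subgroup.card_eq_one.1 (by
      have := Nat.card_pos (α := ↥d.range); omega)
    exact (hker v).1 (by rw [MonoidHom.mem_ker, ← Subgroup.mem_bot, ← hb]; exact ⟨v, rfl⟩)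
  have hr2 : Nat.card ↥d.range = 2 := by
    have h1 : Nat.card ↥d.range ∣ 8 := ⟨_, (mul_comm _ _).trans hmul |>.symm⟩
    have h2 : Nat.card ↥d.range ≤ 8 := Nat.le_of_dvd (by norm_num) h1
    interval_cases h : Nat.card ↥d.range <;> omega
  obtain ⟨l, hl, hl1⟩ : ∃ l ∈ d.range, l ≠ 1 := by
    by_contra h
    push Not at h
    have : d.range = ⊥ := (Subgroup.eq_bot_iff_forall _).2 h
    rw [this, Subgroup.card_bot] at hr2
    omega
  have hrange2 : ∀ x ∈ d.range, x = 1 ∨ x = l := fun x hx => by
    by_contra h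
    push Not at h
    have h3 : ({1, l, x} : Set V) ⊆ (d.range : Set V) := by
      intro z hz
      rcases hz with rfl | rfl | rfl
      exacts [one_mem _, hl, hx]
    have := Set.ncard_le_ncard h3 (Set.toFinite _)
    rw [← Nat.card_coe_set_eq (d.range : Set V), SetLike.coe_sort_coe, hr2,
      Set.ncard_insert_of_notMem (by simp [Ne.symm hl1, Ne.symm h.1]) (Set.toFinite _),
      Set.ncard_pair (Ne.symm h.2)] at this
    omega
  have hyd : ∀ v, y (d v) = d (y v) := fun v => by rw [hd, hd, map_mul, hsy']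
  have hyl : y l = l := by
    obtain ⟨v, rfl⟩ := hl
    rcases hrange2 _ ⟨y v, rfl⟩ with h | h
    · exact absurd (y.injective ((hyd v).trans (h.trans (map_one y).symm))) hl1
    · exact (hyd v).trans h
  have hk4 : Nat.card ↥d.ker = 4 := by rw [hr2] at hmul; omega
  have hlk : l ∈ d.ker := hrange hl
  have hyker : ∀ v ∈ d.ker, y v ∈ d.ker := fun v hv => by
    rw [MonoidHom.mem_ker, ← hyd, MonoidHom.mem_ker.1 hv, map_one]
  -- the square fixes everything
  have hfix2 : ∀ v ∈ d.ker, y (y v) = v := by
    intro v hv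
    by_cases hv1 : v = 1 ∨ v = l
    · rcases hv1 with rfl | rfl
      · simp
      · rw [hyl, hyl]
    push Not at hv1
    have hset : (d.ker : Set V) = {1, l, v, v * l} := by
      refine (Set.eq_of_subset_of_ncard_le ?_ ?_ (Set.toFinite _)).symm
      · intro z hz
        rcases hz with rfl | rfl | rfl | rfl
        exacts [one_mem _, hlk, hv, mul_mem hv hlk]
      · rw [← Nat.card_coe_set_eq (d.ker : Set V), SetLike.coe_sort_coe, hk4,
          Set.ncard_insert_of_notMem ?_ (Set.toFinite _), Set.ncard_insert_of_notMem ?_ (Set.toFinite _),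
          Set.ncard_pair ?_]
        · exact fun h => hl1 (mul_left_cancel ((mul_one v).trans h)).symm
        · simp only [Set.mem_insert_iff, Set.mem_singleton_iff, not_or]
          exact ⟨Ne.symm hv1.2, fun h => hv1.1 (mul_right_cancel ((one_mul l).trans h)).symm⟩
        · simp only [Set.mem_insert_iff, Set.mem_singleton_iff, not_or]
          refine ⟨Ne.symm hl1, Ne.symm hv1.1, fun h => hv1.2 ?_⟩
          exact (mul_left_cancel ((hV v).trans h))
    have hyv : y v ∈ (d.ker : Set V) := hyker v hv
    rw [hset] at hyv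
    rcases hyv with h | h | h | h
    · exact absurd (y.injective (h.trans (map_one y).symm)) hv1.1
    · exact absurd (y.injective (h.trans hyl.symm)) hv1.2
    · rw [h, h]
    · rw [h, map_mul, h, hyl, mul_assoc, hV, mul_one]
  obtain ⟨k, hk⟩ := hy
  have hpow : ∀ v, y (y v) = v → y v = v := fun v hv => by
    have hk2 : ∀ j : ℕ, (y ^ (2 * j)) v = v := fun j => by
      induction j with
      | zero => simp
      | succ j ih => rw [mul_add, mul_one, pow_add, MulAut.mul_apply, pow_two, MulAut.mul_apply, hv, ih]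
    have h := DFunLike.congr_fun (pow_orderOf_eq_one y) (y v)
    rw [hk, pow_succ, MulAut.mul_apply, MulAut.one_apply, hv, hk2] at h
    exact h.symm
  have hfix : ∀ v ∈ d.ker, y v = v := fun v hv => hpow v (hfix2 v hv)
  refine MulEquiv.ext fun x => ?_
  rcases hrange2 (d x) ⟨x, rfl⟩ with h | h
  · exact hfix x (MonoidHom.mem_ker.2 h)
  refine hpow x ?_
  have hf : y x * x ∈ d.ker := by
    rw [MonoidHom.mem_ker, map_mul, ← hyd, h, hyl, hV]
  have hyx : y x = y x * x * x := by rw [mul_assoc, hV, mul_one]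
  calc y (y x) = y (y x * x * x) := by rw [← hyx]
    _ = (y x * x) * y x := by rw [map_mul, hfix _ hf]
    _ = x := by rw [hc (y x) x, mul_assoc, hV, mul_one]

/-- A subgroup of odd order of `Aut V` normalised by a four-group is trivial. -/
theorem eq_bot_of_normalized (hV : ∀ v : V, v * v = 1) (hcard : Nat.card V = 8)
    (Y : Subgroup (MulAut V)) (hY : Odd (Nat.card ↥Y)) {s t : MulAut V} (hs : s * s = 1) (hs1 : s ≠ 1)
    (ht : t * t = 1) (ht1 : t ≠ 1) (hst : s * t = t * s) (hst1 : s * t ≠ 1)
    (hsY : ∀ y ∈ Y, s * y * s ∈ Y) (htY : ∀ y ∈ Y, t * y * t ∈ Y) : Y = ⊥ := by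
  have hfinA : Finite (MulAut V) :=
    Finite.of_injective (fun f : MulAut V => (f : V → V)) DFunLike.coe_injective
  have hodd : ∀ y ∈ Y, Odd (orderOf y) := fun y hy =>
    hY.of_dvd_nat (Subgroup.orderOf_dvd_natCard _ hy)
  have hinv : ∀ r : MulAut V, r * r = 1 → r ≠ 1 → (∀ y ∈ Y, r * y * r ∈ Y) → ∀ y ∈ Y, r * y * r = y⁻¹ := by
    intro r hr hr1 hrY y hy
    let f : ↥Y → ↥Y := fun a => ⟨(a : MulAut V)⁻¹ * (r * a * r), mul_mem (inv_mem a.2) (hrY a a.2)⟩
    have hf : Function.Injective f := fun a b h => by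
      have h' : (a : MulAut V)⁻¹ * (r * a * r) = (b : MulAut V)⁻¹ * (r * b * r) := congrArg Subtype.val h
      have hba : (b : MulAut V) * (a : MulAut V)⁻¹ ∈ Y := mul_mem b.2 (inv_mem a.2)
      have hc : r * ((b : MulAut V) * (a : MulAut V)⁻¹) = ((b : MulAut V) * (a : MulAut V)⁻¹) * r := by
        have h2 : (b : MulAut V) * (a : MulAut V)⁻¹ * (r * a * r) = r * b * r := by
          rw [mul_assoc, h']; group
        calc r * ((b : MulAut V) * (a : MulAut V)⁻¹) = r * b * r * (r * (a : MulAut V)⁻¹) := by
              rw [mul_assoc (r * b) r, ← mul_assoc r r, hr, one_mul, mul_assoc]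
          _ = _ := by
              rw [← h2, mul_assoc, mul_assoc (r * (a : MulAut V)) r, ← mul_assoc r r, hr, one_mul]
              group
      have := eq_one_of_commute_involution hV hcard hr hr1 (hodd _ hba) hc
      exact Subtype.ext (mul_inv_eq_one.1 this).symm
    obtain ⟨a, ha⟩ := (Finite.injective_iff_surjective.1 hf) ⟨y, hy⟩
    have ha' : (a : MulAut V)⁻¹ * (r * a * r) = y := congrArg Subtype.val ha
    rw [← ha', mul_inv_rev, inv_inv, mul_inv_rev, mul_inv_rev, inv_eq_of_mul_eq_one_right hr]
    calc r * ((a : MulAut V)⁻¹ * (r * a * r)) * r = r * (a : MulAut V)⁻¹ * r * a * (r * r) := by group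
      _ = _ := by rw [hr]; group
  refine (Subgroup.eq_bot_iff_forall _).2 fun y hy => ?_
  have h1 := hinv s hs hs1 hsY y hy
  have h2 := hinv t ht ht1 htY _ (inv_mem hy)
  rw [inv_inv] at h2
  have h3 : t * (s * y * s) * t = y := by rw [h1, h2]
  refine eq_one_of_commute_involution hV hcard (s := s * t) ?_ hst1 (hodd y hy) ?_
  · rw [mul_assoc, ← mul_assoc t, ← hst, mul_assoc s t, ht, mul_one, hs]
  · conv_rhs => rw [← h3]
    rw [show t * (s * y * s) * t * (s * t) = t * s * y * s * (t * s) * t by group, ← hst,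
      show s * t * y * s * (s * t) * t = s * t * y * (s * s) * (t * t) by group, hs, ht, mul_one, mul_one]

end CfsgLib.M24Quot
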