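import Cfsg.Agent.Lib.M24Quot.Normal
import Cfsg.Agent.Lib.M24Quot.Decomp

/-!
The abelian subgroup of order 64 of a Sylow 2-subgroup of type M24 modulo centre is normal.
-/

set_option autoImplicit false

namespace CfsgLib.M24Quot

open Subgroup Cfsg

universe u

/-- The statement in terms of coordinates. -/
theorem normal_of_coord {G : Type u} [Group G] [Finite G] (hO : oddCore G = ⊥) (S : Sylow 2 G)
    (c : Coord ↥(S : Subgroup G)) (A : Subgroup G) (hA : A ≤ (S : Subgroup G))
    (huniq : ∀ B : Subgroup G, B ≤ (S : Subgroup G) → IsMulCommutative ↥B → Nat.card ↥B = 64 → B = A) :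
    A.Normal := by
  obtain ⟨σ, -, hσA⟩ := exists_setting S c A hA huniq
  exact hσA ▸ σ.normal_of_decomposition hO σ.exists_decomposition

end CfsgLib.M24Quot
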