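import Cfsg.Agent.Lib.M24Quot.Closure
import Cfsg.Agent.Lib.M24Quot.Flag
import Cfsg.Agent.Lib.Goldschmidt.Main
import Mathlib.GroupTheory.Transfer

/-!
From a decomposition of the abelian subgroup of order 64 invariant under its normaliser to its normality.
-/

set_option autoImplicit false
set_option linter.unusedSectionVars false

namespace CfsgLib.M24Quot

open Subgroup Cfsg
open scoped commutatorElement

universe u

variable {G : Type u} [Group G] [Finite G]

namespace Setting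

variable (σ : Setting G)

/-- A summand invariant under the normaliser of `A` is strongly closed. -/
theorem isStronglyClosed_part {B : Subgroup G} (hB : B ≤ σ.A)
    (hN : normalizer (σ.A : Set G) ≤ normalizer (B : Set G)) : IsStronglyClosed B (σ.S : Subgroup G) := by
  refine ⟨hB.trans σ.le, fun x hx g hg => ?_⟩
  have hA := σ.isStronglyClosed.2 x (hB hx) g hg
  obtain ⟨n, hn, hn'⟩ := σ.exists_normalizer_conj_elem (hB hx) hA
  exact hn' ▸ (mem_normalizer_iff.1 (hN hn) x).1 hx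

/-- The normal closure of one summand is that summand. -/
theorem part_normal (hO : oddCore G = ⊥) {B C : Subgroup G} (hB : B ≤ σ.A) (hC : C ≤ σ.A)
    (hd : B ⊓ C = ⊥) (hsup : B ⊔ C = σ.A) (hB8 : Nat.card ↥B = 8)
    (hNB : normalizer (σ.A : Set G) ≤ normalizer (B : Set G))
    (hNC : normalizer (σ.A : Set G) ≤ normalizer (C : Set G))
    (hcB : ∀ s ∈ (σ.S : Subgroup G), (∀ a ∈ B, s * a = a * s) → s ∈ σ.A)
    (hcC : ∀ s ∈ (σ.S : Subgroup G), (∀ a ∈ C, s * a = a * s) → s ∈ σ.A) : B.Normal := by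
  classical
  have : Fact (Nat.Prime 2) := ⟨Nat.prime_two⟩
  have hscB := σ.isStronglyClosed_part hB hNB
  have hpair : Goldschmidt.SCPair σ.S B C :=
    ⟨hscB, σ.isStronglyClosed_part hC hNC, fun a ha b hb => σ.mul_comm_of_mem (hB ha) (hC hb), hd⟩
  have hcomm : ∀ x ∈ Goldschmidt.conjSet B, ∀ c ∈ C, x * c = c * x := fun x hx c hc => by
    have h := Goldschmidt.commutes G σ.S B C hpair x hx c (Goldschmidt.subset_conjSet hc)
    rw [hO, mem_bot] at h
    exact commutatorElement_eq_one_iff_mul_comm.1 h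
  set N : Subgroup G := normalClosure (B : Set G) with hN
  have hBN : B ≤ N := fun x hx => subset_normalClosure hx
  have hNcent : ∀ x ∈ N, ∀ c ∈ C, x * c = c * x := by
    have hle : N ≤ centralizer (C : Set G) := by
      show closure (Group.conjugatesOfSet (B : Set G)) ≤ _
      refine (closure_le _).2 fun x hx => ?_
      obtain ⟨b, hb, hbx⟩ := Group.mem_conjugatesOfSet_iff.1 hx
      obtain ⟨g, rfl⟩ := isConj_iff.1 hbx
      refine mem_centralizer_iff.2 fun c hc => (hcomm _ ⟨g⁻¹, ?_⟩ c hc).symm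
      simpa [mul_assoc] using hb
    exact fun x hx c hc => (mem_centralizer_iff.1 (hle hx) c hc).symm
  set T : Subgroup G := N ⊓ (σ.S : Subgroup G) with hT
  have hTA : T ≤ σ.A := fun x hx => hcC x hx.2 (hNcent x hx.1)
  have hBT : B ≤ T := le_inf hBN (hB.trans σ.le)
  -- `T` is a Sylow subgroup of `N`
  have hTN : IsPGroup 2 ↥(T.subgroupOf N) :=
    (σ.S.isPGroup'.to_le inf_le_right).of_equiv (subgroupOfEquivOfLe inf_le_left).symm
  obtain ⟨P, hP⟩ := hTN.exists_le_sylow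
  have hPT : (P : Subgroup ↥N) = T.subgroupOf N := by
    obtain ⟨R, hR⟩ := (P.isPGroup'.map N.subtype).exists_le_sylow
    obtain ⟨g, hg⟩ := MulAction.exists_smul_eq G R σ.S
    refine (eq_of_le_of_card_ge hP ?_).symm
    rw [Nat.card_congr (subgroupOfEquivOfLe (inf_le_left : T ≤ N)).toEquiv,
      ← card_map_of_injective (K := (P : Subgroup ↥N)) N.subtype_injective,
      ← card_map_of_injective (K := (P : Subgroup ↥N).map N.subtype)
        (f := (MulAut.conj g).toMonoidHom) (MulAut.conj g).injective]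
    refine card_le_of_le ?_
    rintro _ ⟨_, ⟨p, hp, rfl⟩, rfl⟩
    refine ⟨(inferInstance : N.Normal).conj_mem _ p.2 g, ?_⟩
    rw [← hg, Sylow.coe_subgroup_smul]
    exact ⟨_, hR ⟨p, hp, rfl⟩, rfl⟩
  -- the normaliser of `T` in `N` acts trivially on `B`
  set M : Subgroup G := N ⊓ normalizer (T : Set G) with hM
  have hMB : ∀ n ∈ M, n ∈ normalizer (B : Set G) := by
    have h1 : ∀ n ∈ M, ∀ b ∈ B, n * b * n⁻¹ ∈ B := fun n hn b hb =>
      hscB.2 b hb n (Subgroup.mem_inf.1 ((mem_normalizer_iff.1 hn.2 b).1 (hBT hb))).2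
    intro n hn
    refine mem_normalizer_iff.2 fun b => ⟨fun hb => h1 n hn b hb, fun hb => ?_⟩
    have := h1 n⁻¹ (inv_mem hn) _ hb
    simpa [mul_assoc] using this
  have hSB : (σ.S : Subgroup G) ≤ normalizer (B : Set G) := σ.sylow_le_normalizer.trans hNB
  have hST : (σ.S : Subgroup G) ≤ normalizer (T : Set G) := fun s hs => mem_normalizer_iff.2 fun x => by
    have hi : ∀ r ∈ (σ.S : Subgroup G), ∀ y ∈ T, r * y * r⁻¹ ∈ T := fun r hr y hy =>
      ⟨(inferInstance : N.Normal).conj_mem _ hy.1 r, mul_mem (mul_mem hr hy.2) ((σ.S : Subgroup G).inv_mem hr)⟩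
    refine ⟨fun hx => hi s hs x hx, fun hx => ?_⟩
    have := hi s⁻¹ (inv_mem hs) _ hx
    simpa [mul_assoc] using this
  set φ := normalizerMonoidHom B with hφ
  have hφv : ∀ (n : G) (hn : n ∈ normalizer (B : Set G)) (b : ↥B), ((φ ⟨n, hn⟩) b : G) = n * b * n⁻¹ :=
    fun n hn b => rfl
  set Y : Subgroup (MulAut ↥B) := (M.subgroupOf (normalizer (B : Set G))).map φ with hY
  have hY' : ∀ n, (hn : n ∈ M) → φ ⟨n, hMB n hn⟩ ∈ Y := fun n hn => ⟨⟨n, hMB n hn⟩, hn, rfl⟩
  have hodd : Odd (Nat.card ↥Y) := by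
    set f : ↥M →* MulAut ↥B := φ.comp (Subgroup.inclusion hMB) with hf
    have hrange : Y = f.range := by
      ext y
      constructor
      · rintro ⟨⟨n, hn'⟩, hn, rfl⟩; exact ⟨⟨n, hn⟩, rfl⟩
      · rintro ⟨⟨n, hn⟩, rfl⟩; exact hY' n hn
    have hTker : T.subgroupOf M ≤ f.ker := fun x hx => by
      refine MonoidHom.mem_ker.2 (MulEquiv.ext fun b => Subtype.ext ?_)
      show ((φ ⟨(x : G), hMB x x.2⟩) b : G) = b
      rw [hφv, σ.mul_comm_of_mem (a := (x : G)) (hTA hx) (hB b.2), mul_inv_cancel_right]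
    have hTM : T ≤ M := le_inf inf_le_left le_normalizer
    have hodd1 : Odd (T.relIndex N) := by
      rw [Nat.odd_iff, ← Nat.two_dvd_ne_zero]
      have := P.not_dvd_index
      rwa [hPT] at this
    have h1 : T.relIndex M ∣ T.relIndex N := ⟨_, (relIndex_mul_relIndex T M N hTM inf_le_left).symm⟩
    rw [hrange, ← index_ker f]
    exact (hodd1.of_dvd_nat h1).of_dvd_nat (index_dvd_of_le hTker)
  -- a four-group normalising it
  have hinvol : ∀ h : ℕ, h < 8 → hMul h h = 0 → ∃ s ∈ (σ.S : Subgroup G), s * s = 1 ∧ σ.hdG s = h := by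
    intro h hh h2
    obtain ⟨s, hs⟩ := σ.c.surj (64 * h) (by omega)
    refine ⟨s, s.2, (σ.sq_eq_one_iff s.2).2 ?_, ?_⟩
    · rw [σ.hdG_coe, σ.vecG_coe, Coord.hd, hs, show 64 * h / 64 = h by omega, show 64 * h % 64 = 0 by omega]
      exact ⟨h2, mAct_zero_right h hh⟩
    · rw [σ.hdG_coe, Coord.hd, hs]; omega
  obtain ⟨s, hs, hs2, hsd⟩ := hinvol 1 (by norm_num) (by decide +kernel)
  obtain ⟨t, ht, ht2, htd⟩ := hinvol 2 (by norm_num) (by decide +kernel)
  have hne : ∀ r, (hr : r ∈ (σ.S : Subgroup G)) → σ.hdG r ≠ 0 → φ ⟨r, hSB hr⟩ ≠ 1 := fun r hr hr0 hφ1 => by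
    refine hr0 ((σ.hdG_eq_zero_iff hr).2 (hcB r hr fun a ha => ?_))
    have h := congrArg (Subtype.val) (DFunLike.congr_fun hφ1 ⟨a, ha⟩)
    rw [hφv] at h
    exact mul_inv_eq_iff_eq_mul.1 h
  have hst : σ.hdG (s * t) ≠ 0 := by
    rw [σ.hdG_mul hs ht, hsd, htd]; decide +kernel
  have hsts : σ.vecG (s * t) = σ.vecG (t * s) → s * t = t * s := fun h =>
    σ.ext_code (mul_mem hs ht) (mul_mem ht hs) (by
      rw [σ.hdG_mul hs ht, σ.hdG_mul ht hs, hsd, htd]; decide +kernel) h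
  have hB2 : ∀ v : ↥B, v * v = 1 := fun v => Subtype.ext (σ.sq_of_mem (hB v.2))
  have hsq : ∀ r, (hr : r ∈ (σ.S : Subgroup G)) → r * r = 1 → φ ⟨r, hSB hr⟩ * φ ⟨r, hSB hr⟩ = 1 :=
    fun r hr h => by rw [← map_mul]; exact (congrArg φ (Subtype.ext h)).trans (map_one φ)
  have hnorm : ∀ r, (hr : r ∈ (σ.S : Subgroup G)) → r * r = 1 →
      ∀ y ∈ Y, φ ⟨r, hSB hr⟩ * y * φ ⟨r, hSB hr⟩ ∈ Y := by
    rintro r hr h _ ⟨n, hn, rfl⟩
    have hr1 : r⁻¹ = r := inv_eq_of_mul_eq_one_right h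
    have hmem : r * (n : G) * r ∈ M := by
      refine ⟨?_, mul_mem (mul_mem (hST hr) hn.2) (hST hr)⟩
      conv => arg 2; rw [← hr1]
      have := (inferInstance : N.Normal).conj_mem _ hn.1 r
      rwa [hr1] at this ⊢
    rw [← map_mul, ← map_mul]
    exact ⟨⟨r * (n : G) * r, hMB _ hmem⟩, hmem, rfl⟩
  have hcs : φ ⟨s, hSB hs⟩ * φ ⟨t, hSB ht⟩ = φ ⟨t, hSB ht⟩ * φ ⟨s, hSB hs⟩ := by
    refine MulEquiv.ext fun b => Subtype.ext ?_
    show s * (t * (b : G) * t⁻¹) * s⁻¹ = t * (s * (b : G) * s⁻¹) * t⁻¹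
    obtain ⟨a, ha, hab⟩ : ∃ a ∈ σ.A, s * t = a * (t * s) := by
      refine ⟨s * t * (t * s)⁻¹, (σ.hdG_eq_zero_iff (mul_mem (mul_mem hs ht) (inv_mem (mul_mem ht hs)))).1 ?_,
        (inv_mul_cancel_right _ _).symm⟩
      have hinv : (t * s)⁻¹ = s * t := by
        rw [mul_inv_rev, inv_eq_of_mul_eq_one_right hs2, inv_eq_of_mul_eq_one_right ht2]
      rw [hinv, σ.hdG_mul (mul_mem hs ht) (mul_mem hs ht), σ.hdG_mul hs ht, hsd, htd]
      decide +kernel
    have hbb : t * s * (b : G) * (t * s)⁻¹ ∈ σ.A := σ.conj_mem (mul_mem ht hs) (hB b.2)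
    calc s * (t * (b : G) * t⁻¹) * s⁻¹ = s * t * (b : G) * (s * t)⁻¹ := by group
      _ = a * (t * s * (b : G) * (t * s)⁻¹) * a⁻¹ := by rw [hab]; group
      _ = t * s * (b : G) * (t * s)⁻¹ := by rw [σ.mul_comm_of_mem ha hbb, mul_inv_cancel_right]
      _ = _ := by group
  have hbot : Y = ⊥ := by
    refine eq_bot_of_normalized hB2 hB8 Y hodd (hsq s hs hs2) (hne s hs (by omega)) (hsq t ht ht2)
      (hne t ht (by omega)) hcs ?_ (hnorm s hs hs2) (hnorm t ht ht2)
    rw [← map_mul]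
    exact hne (s * t) (mul_mem hs ht) hst
  have hMT : ∀ n ∈ M, ∀ x ∈ T, n * x = x * n := by
    intro n hn x hx
    have hφ1 : φ ⟨n, hMB n hn⟩ = 1 := by
      rw [← Subgroup.mem_bot, ← hbot]; exact hY' n hn
    have hb : ∀ b ∈ B, n * b = b * n := fun b hb => by
      have h := congrArg Subtype.val (DFunLike.congr_fun hφ1 ⟨b, hb⟩)
      rw [hφv] at h
      exact mul_inv_eq_iff_eq_mul.1 h
    obtain ⟨b, hbB, c, hcC', rfl⟩ : ∃ b ∈ B, ∃ c ∈ C, b * c = x := by
      have hBC : B ≤ normalizer (C : Set G) :=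
        (hB.trans (le_normalizer.trans hNC : σ.A ≤ normalizer (C : Set G)))
      have hxs : x ∈ ((B ⊔ C : Subgroup G) : Set G) := hsup.symm ▸ hTA hx
      rw [coe_mul_of_left_le_normalizer_right B C hBC] at hxs
      exact hxs
    calc n * (b * c) = n * b * c := (mul_assoc _ _ _).symm
      _ = b * (n * c) := by rw [hb b hbB, mul_assoc]
      _ = b * c * n := by rw [hNcent n hn.1 c hcC', mul_assoc]
  have hBurn : normalizer ((P : Subgroup ↥N) : Set ↥N) ≤ centralizer ((P : Subgroup ↥N) : Set ↥N) := by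
    intro n hn
    rw [hPT] at hn ⊢
    refine mem_centralizer_iff.2 fun x hx => Subtype.ext ?_
    have hnM : (n : G) ∈ M := by
      refine ⟨n.2, mem_normalizer_iff.2 fun z => ?_⟩
      constructor
      · intro hz
        exact (mem_normalizer_iff.1 hn ⟨z, hz.1⟩).1 hz
      · intro hz
        have hzN : z ∈ N := by
          have := mul_mem (mul_mem (inv_mem n.2) hz.1) n.2
          simpa [mul_assoc] using this
        exact (mem_normalizer_iff.1 hn ⟨z, hzN⟩).2 hz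
    exact (hMT n hnM x hx).symm
  -- the normal complement is trivial
  set K := (MonoidHom.transferSylow P hBurn).ker with hK
  have hK2 : ¬ 2 ∣ Nat.card ↥K := MonoidHom.not_dvd_card_ker_transferSylow P hBurn
  have hKbot : K = ⊥ := by
    have hle : K ≤ oddCore ↥N := Cores.le_oddCore_of_odd (Nat.odd_iff.2 (Nat.two_dvd_ne_zero.1 hK2))
    have h2 : (oddCore ↥N).map N.subtype = ⊥ := Goldschmidt.map_oddCore_eq_bot hO N
    have h3 : oddCore ↥N = ⊥ := (map_eq_bot_iff_of_injective _ N.subtype_injective).1 h2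
    exact eq_bot_iff.2 (hle.trans h3.le)
  have hNT : ∀ x ∈ N, x ∈ T := by
    intro x hx
    have hcompl := MonoidHom.ker_transferSylow_isComplement' P hBurn
    rw [← hK, hKbot, isComplement'_bot_left, hPT] at hcompl
    have : (⟨x, hx⟩ : ↥N) ∈ T.subgroupOf N := hcompl ▸ mem_top _
    exact this
  refine ⟨fun b hb g => ?_⟩
  exact hscB.2 b hb g (hNT _ ((inferInstance : N.Normal).conj_mem _ (hBN hb) g)).2

/-- `A` is normal once it has such a decomposition. -/
theorem normal_of_decomposition (hO : oddCore G = ⊥) (h : ∃ A₁ A₂ : Subgroup G, A₁ ≤ σ.A ∧ A₂ ≤ σ.A ∧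
      A₁ ⊓ A₂ = ⊥ ∧ A₁ ⊔ A₂ = σ.A ∧ Nat.card ↥A₁ = 8 ∧ Nat.card ↥A₂ = 8 ∧
      normalizer (σ.A : Set G) ≤ normalizer (A₁ : Set G) ∧ normalizer (σ.A : Set G) ≤ normalizer (A₂ : Set G) ∧
      (∀ s ∈ (σ.S : Subgroup G), (∀ a ∈ A₁, s * a = a * s) → s ∈ σ.A) ∧
      (∀ s ∈ (σ.S : Subgroup G), (∀ a ∈ A₂, s * a = a * s) → s ∈ σ.A)) : σ.A.Normal := by
  obtain ⟨A₁, A₂, h1, h2, hd, hs, c1, c2, n1, n2, f1, f2⟩ := h
  have := σ.part_normal hO h1 h2 hd hs c1 n1 n2 f1 f2
  have := σ.part_normal hO h2 h1 (by rw [inf_comm]; exact hd) (by rw [sup_comm]; exact hs) c2 n2 n1 f2 f1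
  rw [← hs]
  infer_instance

end Setting

end CfsgLib.M24Quot
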